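import Cfsg.Agent.Lib.Perm.ThricePrime.Chars

/-!
# Degree thrice a prime: one class of involutions and the three possible degrees of `θ`
-/

set_option autoImplicit false

open scoped Classical ComplexConjugate

namespace CfsgLib.Perm.ThricePrime

open MulAction CfsgLib.Char CfsgLib.Char.InvertedPrime CfsgLib.Perm.PrimeDegreeDihedral

universe u

variable {α : Type u} [Fintype α] {G : Subgroup (Equiv.Perm α)} {p : ℕ} [Fact p.Prime]
  {P : Sylow p G}

theorem Setup.five_le (S : Setup G p P) : 5 ≤ p := by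
  have h3 := S.hp
  rcases Nat.lt_or_ge p 5 with h | h
  · have : p = 4 := by omega
    have hp : p.Prime := Fact.out
    rw [this] at hp
    exact absurd hp (by norm_num)
  · exact h

theorem Setup.odd_p (S : Setup G p P) : p % 2 = 1 :=
  Nat.odd_iff.1 ((Fact.out : p.Prime).odd_of_ne_two (by have := S.hp; omega))

/-- An involution inverting `P`. -/
theorem Setup.exists_t (S : Setup G p P) : ∃ t : G,
    t ∈ Subgroup.normalizer ((P : Subgroup G) : Set G) ∧ t ∉ (P : Subgroup G) ∧ orderOf t = 2 := by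
  obtain ⟨t, ht, htP⟩ := S.inv.exists_inverting
  exact ⟨t, ht, htP, (S.inv.involution ht htP).1⟩

theorem Setup.fact_centralizer_le (S : Setup G p P) {y : G} (hy : orderOf y = 2) :
    ¬ p ∣ Nat.card (Subgroup.centralizer ({y} : Set G)) := by
  intro hd
  obtain ⟨g, hg⟩ := exists_prime_orderOf_dvd_card' p hd
  have hgo : orderOf (g : G) = p := by rw [Subgroup.orderOf_coe, hg]
  obtain ⟨k, hk, hk1⟩ := S.conj_mem hgo
  have hc : (g : G) * y = y * g := Subgroup.mem_centralizer_singleton_iff.1 g.2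
  have hm := S.inv.cent_elt hk hk1 (g := k * y * k⁻¹) (by
    calc k * y * k⁻¹ * (k * (g : G) * k⁻¹) = k * (y * g) * k⁻¹ := by group
      _ = k * ((g : G) * y) * k⁻¹ := by rw [hc]
      _ = _ := by group)
  have h := (S.inv.zpowers_eq hm fun e => by
    rw [conj_eq_one_iff] at e; rw [e, orderOf_one] at hy; omega).2
  rw [← MulAut.conj_apply, MulEquiv.orderOf_eq, hy] at h
  have := S.hp
  omega

variable {θ : Cfsg.IrrCharacter G} {tz : G → ℤ} {n : ℕ}

theorem Theta.conj_eq (hT : Theta P θ tz n) (g k : G) : tz (k * g * k⁻¹) = tz g := by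
  have h := IsIrrCharacter.isClassFunction θ.2 g k
  rw [hT.val, hT.val] at h
  exact_mod_cast h

theorem Theta.eq_of_isConj (hT : Theta P θ tz n) {g h : G} (hc : IsConj g h) : tz g = tz h := by
  obtain ⟨k, rfl⟩ := isConj_iff.1 hc
  rw [hT.conj_eq]

theorem Theta.deg_pos (S : Setup G p P) (hT : Theta P θ tz n) : 4 ≤ tz 1 := by
  rw [hT.deg]
  have h5 := S.five_le
  have hn := hT.one_le
  have : (5 : ℤ) * 1 ≤ (p : ℤ) * n :=
    mul_le_mul (by exact_mod_cast h5) (by exact_mod_cast hn) (by norm_num) (by positivity)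
  omega

theorem Theta.ne_one (S : Setup G p P) (hT : Theta P θ tz n) :
    θ ≠ ⟨_, isIrrCharacter_one⟩ := fun e => by
  have h := hT.deg_pos S
  have h1 := hT.val 1
  rw [e] at h1
  change (1 : ℂ) = _ at h1
  have : tz 1 = 1 := by exact_mod_cast h1.symm
  omega

/-- The companions of `θ`. -/
theorem Theta.exists_X (S : Setup G p P) (hT : Theta P θ tz n) :
    ∃ (lam : ↥(P : Subgroup G) →* ℂˣ) (X : Cfsg.IrrCharacter G), lam ≠ 1 ∧ IsDec lam X θ ∧
      (X : G → ℂ) 1 = tz 1 - 1 ∧ ∀ g : G, orderOf g ≠ p → (X : G → ℂ) g = tz g - 1 := by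
  obtain ⟨lam, hl, -⟩ := S.exists_lam ∅ (by simp; have := S.hp; omega)
  obtain ⟨X, hX⟩ := hT.dec lam hl
  have h : ∀ g : G, orderOf g ≠ p → (X : G → ℂ) g = tz g - 1 := fun g hg => by
    linear_combination S.dec_apply hX hg + hT.val g
  exact ⟨lam, X, hl, hX, h 1 (by rw [orderOf_one]; exact (Fact.out : p.Prime).one_lt.ne), h⟩

/-- The class multiplication formula in terms of `θ`. -/
theorem Theta.formula (S : Setup G p P) (hT : Theta P θ tz n) {t y : G}
    (ht : t ∈ Subgroup.normalizer ((P : Subgroup G) : Set G)) (htP : t ∉ (P : Subgroup G))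
    (hy : orderOf y = 2) :
    (Nat.card G : ℤ) * (tz 1 - tz y) ^ 2 =
      (Nat.card (Subgroup.centralizer ({y} : Set G)) : ℤ) ^ 2 * (if IsConj y t then (p : ℤ) else 0) *
        (tz 1 * (tz 1 - 1)) := by
  obtain ⟨lam, X, hl, hX, hX1, hXv⟩ := hT.exists_X S
  have h := S.formula ht htP hy hl hX
  rw [hX1, hXv y (by have := S.hp; omega), hT.val, hT.val] at h
  have hd := hT.deg_pos S
  have h0 : (tz 1 : ℂ) ≠ 0 := by
    have : tz 1 ≠ 0 := by omega
    exact_mod_cast this
  have h1 : (tz 1 : ℂ) - 1 ≠ 0 := sub_ne_zero.2 (by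
    have : tz 1 ≠ 1 := by omega
    exact_mod_cast this)
  have h2 : ((Nat.card G : ℤ) : ℂ) * ((tz 1 : ℂ) - tz y) ^ 2 =
      ((Nat.card (Subgroup.centralizer ({y} : Set G)) : ℤ) : ℂ) ^ 2 *
        (((if IsConj y t then (p : ℤ) else 0 : ℤ)) : ℂ) * ((tz 1 : ℂ) * ((tz 1 : ℂ) - 1)) := by
    rw [apply_ite (fun z : ℤ => (z : ℂ))]
    push_cast
    rw [← h]
    field_simp
    ring
  exact_mod_cast h2

/-- All involutions are conjugate. -/
theorem Theta.one_class (S : Setup G p P) (hT : Theta P θ tz n) {t : G}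
    (ht : t ∈ Subgroup.normalizer ((P : Subgroup G) : Set G)) (htP : t ∉ (P : Subgroup G))
    {y : G} (hy : orderOf y = 2) : IsConj y t := by
  by_contra hc
  have h := hT.formula S ht htP hy
  rw [if_neg hc, mul_zero, zero_mul] at h
  have h0 : tz y = tz 1 := by
    rcases mul_eq_zero.1 h with e | e
    · exact absurd (by exact_mod_cast e) (Nat.card_pos (α := G)).ne'
    · have := pow_eq_zero_iff (n := 2) (by norm_num) |>.1 e
      omega
  have := S.apply_eq_one (hT.ne_one S) (y := y) (by rw [hT.val, hT.val, h0])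
  rw [this, orderOf_one] at hy
  omega

theorem Theta.formula_t (S : Setup G p P) (hT : Theta P θ tz n) {t : G}
    (ht : t ∈ Subgroup.normalizer ((P : Subgroup G) : Set G)) (htP : t ∉ (P : Subgroup G)) :
    (Nat.card G : ℤ) * (tz 1 - tz t) ^ 2 =
      (Nat.card (Subgroup.centralizer ({t} : Set G)) : ℤ) ^ 2 * p * (tz 1 * (tz 1 - 1)) := by
  have h := hT.formula S ht htP (S.inv.involution ht htP).1
  rwa [if_pos (IsConj.refl t)] at h

/-- The value at an involution. -/
theorem Theta.value_t (S : Setup G p P) (hT : Theta P θ tz n) {t : G}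
    (ht : t ∈ Subgroup.normalizer ((P : Subgroup G) : Set G)) (htP : t ∉ (P : Subgroup G)) :
    tz t ≤ (n : ℤ) - 1 ∧ -((n : ℤ) - 1) ≤ tz t ∧ (2 : ℤ) ∣ (n : ℤ) - 1 + tz t := by
  obtain ⟨⟨i, hi⟩, ⟨j, hj⟩⟩ := S.two_sums ht htP (isCharacter_irr θ) (c := -1) fun z hz hz1 => by
    rw [hT.val, hT.onP z (S.inv.zpowers_eq hz hz1).2]; norm_num
  rw [hT.val, hT.val, hT.deg] at hi hj
  have hp : (p : ℤ) ≠ 0 := by exact_mod_cast (Fact.out : p.Prime).ne_zero
  have hi' : (p : ℤ) * ((n : ℤ) - 1 + tz t) = p * (2 * i) := by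
    have e : (((p : ℤ) * ((n : ℤ) - 1 + tz t) : ℤ) : ℂ) = (((p : ℤ) * (2 * i) : ℤ) : ℂ) := by
      push_cast at hi ⊢
      linear_combination hi
    exact_mod_cast e
  have hj' : (p : ℤ) * ((n : ℤ) - 1 - tz t) = p * (2 * j) := by
    have e : (((p : ℤ) * ((n : ℤ) - 1 - tz t) : ℤ) : ℂ) = (((p : ℤ) * (2 * j) : ℤ) : ℂ) := by
      push_cast at hj ⊢
      linear_combination hj
    exact_mod_cast e
  have hi2 := mul_left_cancel₀ hp hi'
  have hj2 := mul_left_cancel₀ hp hj'
  refine ⟨by omega, by omega, ⟨i, hi2⟩⟩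

/-- The permutation character when `θ` leaves no room. -/
theorem Theta.eq_three (S : Setup G p P) (hT : Theta P θ tz n) (hn : n = 3) (g : G) :
    (fixNum g : ℤ) = 1 + tz g := by
  obtain ⟨m, hm, hexp⟩ := IsCharacter.exists_multiplicity (isCharacter_fixC (G := G))
  choose d hd hd' using fun φ : Cfsg.IrrCharacter G => IsIrrCharacter.apply_one_eq φ.2
  set one : Cfsg.IrrCharacter G := ⟨_, isIrrCharacter_one⟩ with hone
  have hθ1 : θ ≠ one := hT.ne_one S
  have hm1 : m one = 1 := by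
    have := (hm one).symm.trans S.fixC_one
    exact_mod_cast this
  have hmθ : m θ = 1 := by
    have := (hm θ).symm.trans hT.mult
    exact_mod_cast this
  have hd1 : d one = 1 := by
    have := hd' one
    simp only [hone] at this
    exact_mod_cast this.symm
  have hdθ : d θ + 1 = 3 * p := by
    have h := hd' θ
    rw [hT.val, hT.deg, hn] at h
    have h' : (((d θ + 1 : ℕ) : ℤ) : ℂ) = (((3 * p : ℕ) : ℤ) : ℂ) := by
      push_cast at h ⊢
      linear_combination -h
    exact_mod_cast h'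
  have hdegsum : ∑ φ, m φ * d φ = 3 * p := by
    have h := hexp 1
    simp only [fixC, fixNum_one, S.hα, hd'] at h
    exact_mod_cast h.symm
  have hrest : ∀ φ ∉ ({one, θ} : Finset _), m φ = 0 := by
    intro φ hφ
    have h := Finset.sum_le_sum_of_subset (f := fun φ => m φ * d φ)
      (Finset.subset_univ (insert φ ({one, θ} : Finset _)))
    rw [Finset.sum_insert hφ, Finset.sum_pair hθ1.symm, hm1, hmθ, hd1, hdegsum] at h
    rcases Nat.eq_zero_or_pos (m φ) with h' | h'
    · exact h'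
    · have := Nat.mul_pos h' (hd φ)
      omega
  have h := hexp g
  rw [← Finset.sum_subset (Finset.subset_univ ({one, θ} : Finset _)) fun φ _ hφ => by
      rw [hrest φ hφ, Nat.cast_zero, zero_mul], Finset.sum_pair hθ1.symm, hm1, hmθ, hT.val] at h
  simp only [fixC, hone, Nat.cast_one, one_mul] at h
  exact_mod_cast h

/-- The further constituent when `θ` has degree `2 * p - 1`. -/
structure Psi (P : Sylow p G) (θ ψ : Cfsg.IrrCharacter G) (tz pz : G → ℤ) : Prop where
  ne_one : ψ ≠ ⟨_, isIrrCharacter_one⟩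
  ne_theta : ψ ≠ θ
  val : ∀ g, (ψ : G → ℂ) g = pz g
  fix : ∀ g, (fixNum g : ℤ) = 1 + tz g + pz g
  deg : pz 1 = (p : ℤ)
  onP : ∀ z ∈ (P : Subgroup G), z ≠ 1 → pz z = 0

theorem Theta.exists_psi (S : Setup G p P) (hT : Theta P θ tz n) (hn : n = 2) :
    ∃ (ψ : Cfsg.IrrCharacter G) (pz : G → ℤ), Psi P θ ψ tz pz := by
  have hp : p.Prime := Fact.out
  obtain ⟨m, hm, hexp⟩ := IsCharacter.exists_multiplicity (isCharacter_fixC (G := G))
  choose d hd hd' using fun φ : Cfsg.IrrCharacter G => IsIrrCharacter.apply_one_eq φ.2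
  set one : Cfsg.IrrCharacter G := ⟨_, isIrrCharacter_one⟩ with hone
  have hθ1 : θ ≠ one := hT.ne_one S
  have hm1 : m one = 1 := by
    have := (hm one).symm.trans S.fixC_one
    exact_mod_cast this
  have hmθ : m θ = 1 := by
    have := (hm θ).symm.trans hT.mult
    exact_mod_cast this
  have hd1 : d one = 1 := by
    have := hd' one
    simp only [hone] at this
    exact_mod_cast this.symm
  have hdθ : d θ + 1 = 2 * p := by
    have h := hd' θ
    rw [hT.val, hT.deg, hn] at h
    have h' : (((d θ + 1 : ℕ) : ℤ) : ℂ) = (((2 * p : ℕ) : ℤ) : ℂ) := by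
      push_cast at h ⊢
      linear_combination -h
    exact_mod_cast h'
  have hdegsum : ∑ φ, m φ * d φ = 3 * p := by
    have h := hexp 1
    simp only [fixC, fixNum_one, S.hα, hd'] at h
    exact_mod_cast h.symm
  obtain ⟨ψ, hψ, hψ0⟩ : ∃ ψ, ψ ∉ ({one, θ} : Finset _) ∧ m ψ ≠ 0 := by
    by_contra hc
    push Not at hc
    rw [← Finset.sum_subset (Finset.subset_univ ({one, θ} : Finset _)) fun φ _ hφ => by
      rw [hc φ hφ, zero_mul], Finset.sum_pair hθ1.symm, hm1, hmθ, hd1] at hdegsum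
    have := hp.two_le
    omega
  simp only [Finset.mem_insert, Finset.mem_singleton, not_or] at hψ
  obtain ⟨⟨k, hk, hψd⟩, hψP⟩ := hT.other ψ hψ.1 hψ.2 (by rw [hm]; exact_mod_cast hψ0)
  have hdψ : d ψ = p * k := by
    have := (hd' ψ).symm.trans hψd
    exact_mod_cast this
  have hsum3 := Finset.sum_le_sum_of_subset (f := fun φ => m φ * d φ)
    (Finset.subset_univ ({one, θ, ψ} : Finset _))
  rw [Finset.sum_insert (by simp [hθ1.symm, Ne.symm hψ.1]), Finset.sum_pair (Ne.symm hψ.2), hm1, hmθ,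
    hd1, hdegsum] at hsum3
  have hle : m ψ * d ψ ≤ p := by omega
  have hpk : p ≤ d ψ := by rw [hdψ]; exact Nat.le_mul_of_pos_right _ hk
  have hmψ : m ψ = 1 := by
    by_contra h
    have := Nat.mul_le_mul (show 2 ≤ m ψ by omega) hpk
    omega
  rw [hmψ, one_mul] at hle
  have hdψp : d ψ = p := le_antisymm hle hpk
  have hrest : ∀ φ ∉ ({one, θ, ψ} : Finset _), m φ = 0 := by
    intro φ hφ
    have h := Finset.sum_le_sum_of_subset (f := fun φ => m φ * d φ)
      (Finset.subset_univ (insert φ ({one, θ, ψ} : Finset _)))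
    rw [Finset.sum_insert hφ, Finset.sum_insert (by simp [hθ1.symm, Ne.symm hψ.1]),
      Finset.sum_pair (Ne.symm hψ.2), hm1, hmθ, hmψ, hd1, hdψp, hdegsum] at h
    rcases Nat.eq_zero_or_pos (m φ) with h' | h'
    · exact h'
    · have := Nat.mul_pos h' (hd φ)
      omega
  have hfix : ∀ g, (ψ : G → ℂ) g = ((fixNum g : ℤ) - 1 - tz g : ℤ) := by
    intro g
    have h := hexp g
    rw [← Finset.sum_subset (Finset.subset_univ ({one, θ, ψ} : Finset _)) fun φ _ hφ => by
        rw [hrest φ hφ, Nat.cast_zero, zero_mul],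
      Finset.sum_insert (by simp [hθ1.symm, Ne.symm hψ.1]), Finset.sum_pair (Ne.symm hψ.2),
      hm1, hmθ, hmψ, hT.val] at h
    simp only [fixC, hone, Nat.cast_one, one_mul] at h
    push_cast
    linear_combination -h
  refine ⟨ψ, fun g => (fixNum g : ℤ) - 1 - tz g, hψ.1, hψ.2, hfix, fun g => by ring, ?_,
    fun z hz hz1 => ?_⟩
  · have h := (hfix 1).symm.trans (hd' ψ)
    rw [hdψp] at h
    exact_mod_cast h
  · have h := (hfix z).symm.trans (hψP z hz hz1)
    exact_mod_cast h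

end CfsgLib.Perm.ThricePrime
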