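import Cfsg.Agent.Lib.Perm.ThricePrime.Formula

/-!
# Degree thrice a prime: the constituents of the permutation character
-/

set_option autoImplicit false

open scoped Classical ComplexConjugate

namespace CfsgLib.Perm.ThricePrime

open MulAction CfsgLib.Char CfsgLib.Char.InvertedPrime CfsgLib.Perm.PrimeDegreeDihedral

universe u

variable {α : Type u} [Fintype α] {G : Subgroup (Equiv.Perm α)} {p : ℕ} [Fact p.Prime]
  {P : Sylow p G}

/-- The permutation character. -/
noncomputable def fixC (g : G) : ℂ := (fixNum g : ℂ)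

omit [Fact p.Prime] in
theorem isCharacter_fixC : Cfsg.IsCharacter G (fixC (G := G)) := by
  have h := SymSmallChars.isCharacter_fix (G := G) (Ω := α)
  convert h using 1
  funext g
  rw [fixC, Nat.card_eq_fintype_card, Fintype.card_subtype]
  rfl

theorem Setup.fixC_one (S : Setup G p P) : Cfsg.classInner (fixC (G := G)) (fun _ => 1) = 1 := by
  rw [Cfsg.classInner]
  simp only [map_one, mul_one, fixC]
  rw [← Nat.cast_sum, S.sum_fix, inv_mul_cancel₀ CfsgLib.Char.card_ne_zero]

theorem Setup.fixC_al (S : Setup G p P) {lam : ↥(P : Subgroup G) →* ℂˣ} (hl : lam ≠ 1) :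
    Cfsg.classInner (fixC (G := G)) (al lam) = 0 := by
  rw [← classInner_conj_symm (al lam) fixC, S.al_classInner_const hl
    (IsCharacter.isClassFunction isCharacter_fixC) 0 fun z hz hz1 => by
      rw [fixC, S.fix_zero_mem hz hz1, Nat.cast_zero], map_zero, map_zero]

theorem Setup.apply_eq_one (S : Setup G p P) {χ : Cfsg.IrrCharacter G}
    (hχ : χ ≠ ⟨_, isIrrCharacter_one⟩) {y : G} (h : (χ : G → ℂ) y = (χ : G → ℂ) 1) : y = 1 := by
  haveI := charKer_normal (isCharacter_irr χ)
  rcases S.normal_bot_or_top (charKer (isCharacter_irr χ)) with hK | hK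
  · exact (Subgroup.eq_bot_iff_forall _).1 hK y h
  · exfalso
    refine hχ (Subtype.ext ?_)
    have hall : ∀ g, (χ : G → ℂ) g = (χ : G → ℂ) 1 := fun g =>
      (mem_charKer (isCharacter_irr χ)).1 (hK ▸ Subgroup.mem_top g)
    have h1 := classInner_irr_self χ.2
    obtain ⟨d, hd, hd'⟩ := IsIrrCharacter.apply_one_eq χ.2
    simp only [Cfsg.classInner, hall, hd', map_natCast, Finset.sum_const, Finset.card_univ,
      nsmul_eq_mul, ← Nat.card_eq_fintype_card, inv_mul_cancel_left₀ CfsgLib.Char.card_ne_zero] at h1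
    funext g
    rw [hall g, hd']
    have : d * d = 1 := by exact_mod_cast h1
    have hd1 : d = 1 := by nlinarith
    simp [hd1]

theorem Setup.deg_ne_one (S : Setup G p P) {χ : Cfsg.IrrCharacter G}
    (hχ : χ ≠ ⟨_, isIrrCharacter_one⟩) : (χ : G → ℂ) 1 ≠ 1 := by
  intro h
  obtain ⟨φ, hφ⟩ := exists_hom_of_apply_one_eq_one (isCharacter_irr χ) h
  exact hχ (Subtype.ext (by rw [hφ, S.hom_eq_one φ]; rfl))

theorem Setup.four_dvd_card (S : Setup G p P) : 4 ∣ Nat.card G := by
  haveI : Fact (Nat.Prime 2) := ⟨Nat.prime_two⟩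
  obtain ⟨y, hy, hyP⟩ := S.inv.exists_inverting
  have h2 : 2 ∣ Nat.card G := (S.inv.involution hy hyP).1 ▸ orderOf_dvd_natCard y
  by_contra h4
  obtain ⟨T⟩ : Nonempty (Sylow 2 G) := inferInstance
  have hT : Nat.card ↥(T : Subgroup G) = 2 := by
    obtain ⟨k, hk⟩ := IsPGroup.iff_card.1 T.isPGroup'
    have h2' := T.dvd_card_of_dvd_card h2
    rw [hk] at h2' ⊢
    rcases Nat.lt_or_ge k 2 with hlt | hge
    · interval_cases k
      · norm_num at h2'
      · rfl
    · exact absurd ((pow_dvd_pow 2 hge).trans (hk ▸ Subgroup.card_subgroup_dvd_card _)) h4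
  have hle : Subgroup.normalizer ((T : Subgroup G) : Set G) ≤
      Subgroup.centralizer ((T : Subgroup G) : Set G) := by
    intro m hm
    refine Subgroup.mem_centralizer_iff.2 fun z hz => ?_
    rcases eq_or_ne z 1 with rfl | hz1
    · rw [one_mul, mul_one]
    obtain ⟨o, -, ho⟩ := (Nat.card_eq_two_iff' (1 : ↥(T : Subgroup G))).1 hT
    have h1 := ho ⟨z, hz⟩ fun e => hz1 (congrArg Subtype.val e)
    have h2 := ho ⟨m * z * m⁻¹, (Subgroup.mem_normalizer_iff.1 hm z).1 hz⟩
      fun e => hz1 (conj_eq_one_iff.1 (congrArg Subtype.val e))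
    exact (mul_inv_eq_iff_eq_mul.1 (congrArg Subtype.val (h2.trans h1.symm))).symm
  have hK := (MonoidHom.ker_transferSylow_isComplement' T hle).card_mul
  rcases S.normal_bot_or_top (MonoidHom.transferSylow T hle).ker with e | e
  · rw [e, Subgroup.card_bot, one_mul, hT] at hK
    have h3 := Nat.le_of_dvd Nat.card_pos S.dvd_card
    have := S.hp
    omega
  · rw [e, Subgroup.card_top, hT] at hK
    have := Nat.card_pos (α := G)
    omega

/-- If all involutions are conjugate, an involution is central in a Sylow `2`-subgroup. -/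
theorem Setup.fact_centralizer (S : Setup G p P) {t : G} (ht : orderOf t = 2)
    (hone : ∀ y : G, orderOf y = 2 → IsConj y t) :
    (Nat.card (Subgroup.centralizer ({t} : Set G))).factorization 2 =
      (Nat.card G).factorization 2 := by
  haveI : Fact (Nat.Prime 2) := ⟨Nat.prime_two⟩
  obtain ⟨T⟩ : Nonempty (Sylow 2 G) := inferInstance
  have hne : Nontrivial ↥(T : Subgroup G) := by
    rw [Subgroup.nontrivial_iff_ne_bot]
    intro e
    have h := T.dvd_card_of_dvd_card ((dvd_trans (by norm_num) S.four_dvd_card : 2 ∣ Nat.card G))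
    rw [e, Subgroup.card_bot] at h
    norm_num at h
  have hZ : Nontrivial ↥(Subgroup.center ↥(T : Subgroup G)) := IsPGroup.center_nontrivial T.isPGroup'
  have h2 : 2 ∣ Nat.card ↥(Subgroup.center ↥(T : Subgroup G)) := by
    obtain ⟨k, hk, h⟩ := (T.isPGroup'.to_subgroup (Subgroup.center _)).nontrivial_iff_card.1 hZ
    rw [h]
    exact dvd_pow_self 2 hk.ne'
  obtain ⟨z, hz⟩ := exists_prime_orderOf_dvd_card' 2 h2
  have hz' : orderOf ((z : ↥(T : Subgroup G)) : G) = 2 := by
    rw [Subgroup.orderOf_coe, Subgroup.orderOf_coe, hz]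
  obtain ⟨c, hc⟩ := isConj_iff.1 (hone _ hz')
  have hle : (T : Subgroup G) ≤ Subgroup.centralizer {((z : ↥(T : Subgroup G)) : G)} := fun w hw =>
    Subgroup.mem_centralizer_singleton_iff.2
      (congrArg Subtype.val (Subgroup.mem_center_iff.1 z.2 ⟨w, hw⟩))
  have hcard : Nat.card (Subgroup.centralizer ({t} : Set G)) =
      Nat.card (Subgroup.centralizer {((z : ↥(T : Subgroup G)) : G)}) := by
    rw [← hc]
    refine Nat.card_congr ((MulAut.conj c⁻¹).toEquiv.subtypeEquiv fun w => ?_)
    simp only [Subgroup.mem_centralizer_singleton_iff, MulEquiv.toEquiv_eq_coe,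
      EquivLike.coe_coe, MulAut.conj_apply, inv_inv]
    constructor <;> intro h
    · calc c⁻¹ * w * c * (z : G) = c⁻¹ * (w * (c * (z : G) * c⁻¹)) * c := by group
        _ = c⁻¹ * ((c * (z : G) * c⁻¹) * w) * c := by rw [h]
        _ = (z : G) * (c⁻¹ * w * c) := by group
    · calc w * (c * (z : G) * c⁻¹) = c * (c⁻¹ * w * c * (z : G)) * c⁻¹ := by group
        _ = c * ((z : G) * (c⁻¹ * w * c)) * c⁻¹ := by rw [h]
        _ = c * (z : G) * c⁻¹ * w := by group
  refine le_antisymm ?_ ?_
  · exact (Nat.factorization_le_iff_dvd Nat.card_pos.ne' Nat.card_pos.ne').2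
      (Subgroup.card_subgroup_dvd_card _) 2
  · rw [hcard]
    refine (Nat.prime_two.pow_dvd_iff_le_factorization Nat.card_pos.ne').1 ?_
    rw [← T.card_eq_multiplicity]
    exact Subgroup.card_dvd_of_le hle

theorem Setup.exists_lam (S : Setup G p P) (s : Finset (↥(P : Subgroup G) →* ℂˣ))
    (hs : s.card + 1 < p) : ∃ l : ↥(P : Subgroup G) →* ℂˣ, l ≠ 1 ∧ l ∉ s := by
  haveI : Finite (↥(P : Subgroup G) →* ℂˣ) :=
    Finite.of_equiv _ (homEquivLinear (G := ↥(P : Subgroup G))).symm
  letI := Fintype.ofFinite (↥(P : Subgroup G) →* ℂˣ)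
  have h := S.inv.sum_linear 1
  simp only [map_one, Units.val_one, Finset.sum_const, Finset.card_univ, nsmul_eq_mul, mul_one,
    if_true] at h
  have hc : Fintype.card (↥(P : Subgroup G) →* ℂˣ) = p := by exact_mod_cast h
  by_contra hno
  push Not at hno
  have hsub : (Finset.univ : Finset (↥(P : Subgroup G) →* ℂˣ)) ⊆ insert 1 s := fun l _ => by
    by_cases e : l = 1
    · exact Finset.mem_insert.2 (Or.inl e)
    · exact Finset.mem_insert.2 (Or.inr (hno l e))
  have := (Finset.card_le_card hsub).trans (Finset.card_insert_le _ _)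
  rw [Finset.card_univ, hc] at this
  omega

/-- The properties of `θ`. -/
structure Theta (P : Sylow p G) (θ : Cfsg.IrrCharacter G) (tz : G → ℤ) (n : ℕ) : Prop where
  val : ∀ g, (θ : G → ℂ) g = tz g
  deg : tz 1 = (p : ℤ) * n - 1
  one_le : 1 ≤ n
  le_three : n ≤ 3
  onP : ∀ g : G, orderOf g = p → tz g = -1
  dec : ∀ lam : ↥(P : Subgroup G) →* ℂˣ, lam ≠ 1 → ∃ x : Cfsg.IrrCharacter G, IsDec lam x θ
  mult : Cfsg.classInner (fixC (G := G)) (θ : G → ℂ) = 1
  other : ∀ φ : Cfsg.IrrCharacter G, φ ≠ ⟨_, isIrrCharacter_one⟩ → φ ≠ θ →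
    Cfsg.classInner (fixC (G := G)) (φ : G → ℂ) ≠ 0 →
    (∃ k : ℕ, 0 < k ∧ (φ : G → ℂ) 1 = (p * k : ℕ)) ∧
      ∀ z ∈ (P : Subgroup G), z ≠ 1 → (φ : G → ℂ) z = 0

/-- A Sylow two-subgroup is too small for such an equation. -/
theorem Setup.no_eq (S : Setup G p P) {t : G} (ht : orderOf t = 2)
    (hone : ∀ y : G, orderOf y = 2 → IsConj y t) {A B : ℕ} (hA : A ≠ 0) (hB : B ≠ 0)
    (hle : A.factorization 2 ≤ B.factorization 2 + 1)
    (he : (Nat.card G : ℂ) * A = (Nat.card (Subgroup.centralizer ({t} : Set G)) : ℂ) ^ 2 * B) :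
    False := by
  set c := Nat.card (Subgroup.centralizer ({t} : Set G)) with hc
  have hn : Nat.card G * A = c ^ 2 * B := by exact_mod_cast he
  have hc0 : c ≠ 0 := Nat.card_pos.ne'
  have h := congrArg (fun k => k.factorization 2) hn
  simp only [Nat.factorization_mul Nat.card_pos.ne' hA, Nat.factorization_mul (pow_ne_zero 2 hc0) hB,
    Nat.factorization_pow, Finsupp.add_apply, Finsupp.smul_apply, smul_eq_mul] at h
  rw [hc, S.fact_centralizer ht hone] at h
  have h4 : 2 ≤ (Nat.card G).factorization 2 :=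
    (Nat.prime_two.pow_dvd_iff_le_factorization Nat.card_pos.ne').1 (show 2 ^ 2 ∣ Nat.card G from S.four_dvd_card)
  omega

theorem Setup.exists_theta (S : Setup G p P) :
    ∃ (θ : Cfsg.IrrCharacter G) (tz : G → ℤ) (n : ℕ), Theta P θ tz n := by
  have hp : p.Prime := Fact.out
  have hI := S.inv
  have h3 := S.hp
  have hp5 : 5 ≤ p := by
    rcases Nat.lt_or_ge p 5 with h | h
    · exfalso
      have : p = 4 := by omega
      rw [this] at hp
      norm_num at hp
    · exact h
  haveI : Finite (↥(P : Subgroup G) →* ℂˣ) :=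
    Finite.of_equiv _ (homEquivLinear (G := ↥(P : Subgroup G))).symm
  letI := Fintype.ofFinite (↥(P : Subgroup G) →* ℂˣ)
  obtain ⟨t, ht, htP⟩ := hI.exists_inverting
  have ht2 : orderOf t = 2 := (hI.involution ht htP).1
  have hnp : ∀ y : G, orderOf y = 2 → orderOf y ≠ p := fun y hy e => by omega
  have hπc : Cfsg.IsCharacter G (fixC (G := G)) := isCharacter_fixC
  have hπreal : ∀ g : G, conj (fixC g) = fixC g := fun g => Complex.conj_natCast _
  obtain ⟨m, hm, hexp⟩ := IsCharacter.exists_multiplicity hπc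
  choose d hd hd' using fun φ : Cfsg.IrrCharacter G => IsIrrCharacter.apply_one_eq φ.2
  set one : Cfsg.IrrCharacter G := ⟨_, isIrrCharacter_one⟩ with hone
  have hm1 : m one = 1 := by
    have := (hm one).symm.trans S.fixC_one
    exact_mod_cast this
  have hd1 : d one = 1 := by
    have := hd' one
    simp only [hone] at this
    exact_mod_cast this.symm
  have hdegsum : ∑ φ, m φ * d φ = 3 * p := by
    have h := hexp 1
    simp only [fixC, fixNum_one, S.hα, hd'] at h
    exact_mod_cast h.symm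
  have hsub : ∀ s : Finset (Cfsg.IrrCharacter G), ∑ φ ∈ s, m φ * d φ ≤ 3 * p := fun s =>
    hdegsum ▸ Finset.sum_le_sum_of_subset (Finset.subset_univ s)
  choose X T hXT using fun lam : {l : ↥(P : Subgroup G) →* ℂˣ // l ≠ 1} => exists_dec hI lam.2
  have hmT : ∀ l, m (T l) = m (X l) + 1 := by
    intro l
    have h := S.fixC_al l.2
    rw [(hXT l).2, classInner_add_right, classInner_sub_right, S.fixC_one, hm, hm] at h
    have h' : ((m (T l) : ℕ) : ℂ) = ((m (X l) + 1 : ℕ) : ℂ) := by
      push_cast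
      linear_combination -h
    exact_mod_cast h'
  have hdT : ∀ l, d (T l) = d (X l) + 1 := by
    intro l
    obtain ⟨⟨k, -, hx, ht⟩, -⟩ := hXT l
    rw [hd'] at hx ht
    have h1 : d (X l) = k := by exact_mod_cast hx
    have h2 : d (T l) = k + 1 := by exact_mod_cast ht
    omega
  have hne1 : ∀ l, X l ≠ one ∧ T l ≠ one ∧ X l ≠ T l := fun l =>
    ⟨fun e => ((hXT l).ne l.2).1 (congrArg Subtype.val e),
      fun e => ((hXT l).ne l.2).2.1 (congrArg Subtype.val e), ((hXT l).ne l.2).2.2⟩
  have hzero : ∀ χ : G → ℂ, Cfsg.classInner (al (1 : ↥(P : Subgroup G) →* ℂˣ)) χ = 0 := fun χ => by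
    rw [show (al (1 : ↥(P : Subgroup G) →* ℂˣ) : G → ℂ) = 0 by
      rw [al, show (fun y : (P : Subgroup G) => 1 - (((1 : ↥(P : Subgroup G) →* ℂˣ) y : ℂˣ) : ℂ)) = 0 by
        funext y; simp]
      exact indFun_zero _, classInner_zero_left]
  -- the sum over all linear characters
  have hcoef : ∀ (χ : Cfsg.IrrCharacter G) (c : ℂ),
      (∀ l : {l : ↥(P : Subgroup G) →* ℂˣ // l ≠ 1}, Cfsg.classInner (al l.1) (χ : G → ℂ) = c) →
      (∃ n : ℕ, (p : ℂ) * n - (d χ : ℂ) = c * ((p : ℂ) - 1)) ∧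
      ∀ z ∈ (P : Subgroup G), z ≠ 1 → (χ : G → ℂ) z = conj c := by
    intro χ c hc
    have hall : ∀ lam : ↥(P : Subgroup G) →* ℂˣ, Cfsg.classInner (al lam) (χ : G → ℂ) =
        c - if lam = 1 then c else 0 := fun lam => by
      by_cases hl : lam = 1
      · subst hl; rw [hzero, if_pos rfl, sub_self]
      · rw [if_neg hl, sub_zero, hc ⟨lam, hl⟩]
    have hs : ∀ z : (P : Subgroup G),
        ∑ lam : ↥(P : Subgroup G) →* ℂˣ, Cfsg.classInner (al lam) (χ : G → ℂ) * (lam z⁻¹ : ℂ) =
          c * ((if z = 1 then (p : ℂ) else 0) - 1) := fun z => by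
      rw [Finset.sum_congr rfl fun lam _ => by rw [hall lam]]
      simp only [sub_mul, Finset.sum_sub_distrib, ← Finset.mul_sum, ite_mul, zero_mul,
        Finset.sum_ite_eq', Finset.mem_univ, if_true, hI.sum_linear, inv_eq_one]
      simp [mul_sub]
    refine ⟨?_, fun z hz hz1 => ?_⟩
    · obtain ⟨n, hn⟩ := IsCharacter.classInner_nat (G := ↥(P : Subgroup G)) isCharacter_one
        (IsCharacter.restrict (isCharacter_irr χ) (P : Subgroup G))
      refine ⟨n, ?_⟩
      have h1 := (sum_coeff hI (IsIrrCharacter.isClassFunction χ.2) 1).symm.trans (hs 1)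
      rw [if_pos rfl, if_pos rfl] at h1
      rw [← h1, show ((1 : (P : Subgroup G)) : G) = 1 from rfl, hd', Complex.conj_natCast]
      congr 1
      rw [← hn, Cfsg.classInner, hI.card]
      simp only [one_mul]
      rw [mul_inv_cancel_left₀ (Nat.cast_ne_zero.2 hp.pos.ne')]
    · have hz1' : (⟨z, hz⟩ : (P : Subgroup G)) ≠ 1 := fun e => hz1 (congrArg Subtype.val e)
      have h1 := (sum_coeff hI (IsIrrCharacter.isClassFunction χ.2) ⟨z, hz⟩).symm.trans (hs ⟨z, hz⟩)
      rw [if_neg hz1', if_neg hz1'] at h1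
      have h2 : conj ((χ : G → ℂ) z) = c := by linear_combination -h1
      rw [← h2, Complex.conj_conj]
  obtain ⟨l₀⟩ : Nonempty {l : ↥(P : Subgroup G) →* ℂˣ // l ≠ 1} := by
    obtain ⟨l, hl, -⟩ := S.exists_lam ∅ (by simp; omega)
    exact ⟨⟨l, hl⟩⟩
  -- two classes of characters up to inversion
  obtain ⟨l₁, hl₁a, hl₁b⟩ : ∃ l₁ : {l : ↥(P : Subgroup G) →* ℂˣ // l ≠ 1},
      l₁.1 ≠ l₀.1 ∧ l₁.1 ≠ l₀.1⁻¹ := by
    obtain ⟨l, hl, hls⟩ := S.exists_lam {l₀.1, l₀.1⁻¹}
      (by have := Finset.card_le_two (a := l₀.1) (b := l₀.1⁻¹); omega)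
    simp only [Finset.mem_insert, Finset.mem_singleton, not_or] at hls
    exact ⟨⟨l, hl⟩, hls.1, hls.2⟩
  have hp6 : p = 5 ∨ 7 ≤ p := by
    have h6 : p ≠ 6 := fun e => by rw [e] at hp; norm_num at hp
    omega
  by_cases hall : ∀ l, T l = T l₀
  swap
  · -- the case of a common `X`
    exfalso
    push Not at hall
    obtain ⟨l', hl'⟩ := hall
    have hX : ∀ l, X l = X l₀ := by
      intro l
      by_cases hl : T l = T l₀
      · rcases ((hXT l).share hI l.2 l'.2 (hXT l')).1 with h | h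
        · rcases ((hXT l').share hI l'.2 l₀.2 (hXT l₀)).1 with h' | h'
          · rw [h, h']
          · exact absurd h' hl'
        · exact absurd (h.symm.trans hl) hl'
      · exact (((hXT l).share hI l.2 l₀.2 (hXT l₀)).1).resolve_right hl
    set x := X l₀ with hx
    have hTne : ∀ l k, l.1 ≠ k.1 → l.1 ≠ k.1⁻¹ → T l ≠ T k := by
      intro l k h1 h2 e
      rcases ((hXT l).share hI l.2 k.2 (hXT k)).2.2 ((hX l).trans (hX k).symm) e with h | h
      · exact h1 h
      · exact h2 h
    obtain ⟨⟨n, hn⟩, hxP⟩ := hcoef x 1 fun l => by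
      rw [(hXT l).coeff_irr, ← hX l, if_neg (hne1 l).1, if_pos rfl, if_neg (hne1 l).2.2]
      ring
    have hnd : p * n + 1 = d x + p := by
      have h' : ((p * n + 1 : ℕ) : ℂ) = ((d x + p : ℕ) : ℂ) := by
        push_cast
        linear_combination hn
      exact_mod_cast h'
    have hdx1 : d x ≠ 1 := fun e => S.deg_ne_one (hne1 l₀).1 (by rw [← hx, hd', e, Nat.cast_one])
    have hn2 : 2 ≤ n := by
      rcases Nat.lt_or_ge n 2 with h | h
      · exfalso
        have := hd x
        interval_cases n <;> omega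
      · exact h
    have hdx : p + 1 ≤ d x := by
      have : p * 2 ≤ p * n := Nat.mul_le_mul_left p hn2
      omega
    have hdT' : ∀ l, d x + 1 ≤ m (T l) * d (T l) := fun l => by
      rw [hmT, hdT, hX l]
      exact Nat.le_mul_of_pos_left _ (by omega)
    rcases hp6 with h5 | h7
    swap
    · obtain ⟨l, hl, hls⟩ := S.exists_lam {l₀.1, l₀.1⁻¹, l₁.1, l₁.1⁻¹}
        (by
          have := (Finset.card_insert_le l₀.1 {l₀.1⁻¹, l₁.1, l₁.1⁻¹})
          have := (Finset.card_insert_le l₀.1⁻¹ {l₁.1, l₁.1⁻¹})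
          have := Finset.card_le_two (a := l₁.1) (b := l₁.1⁻¹)
          omega)
      simp only [Finset.mem_insert, Finset.mem_singleton, not_or] at hls
      have a := hTne l₁ l₀ hl₁a hl₁b
      have b := hTne ⟨l, hl⟩ l₀ hls.1 hls.2.1
      have c := hTne ⟨l, hl⟩ l₁ hls.2.2.1 hls.2.2.2
      have h := hsub {T ⟨l, hl⟩, T l₁, T l₀}
      rw [Finset.sum_insert (by simp [b, c]), Finset.sum_insert (by simp [a]), Finset.sum_singleton]
        at h
      have := hdT' ⟨l, hl⟩
      have := hdT' l₁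
      have := hdT' l₀
      omega
    have hT01 : T l₁ ≠ T l₀ := hTne l₁ l₀ hl₁a hl₁b
    have h3sum := hsub {one, T l₁, T l₀}
    rw [Finset.sum_insert (by simp [(hne1 l₁).2.1.symm, (hne1 l₀).2.1.symm]),
      Finset.sum_insert (by simp [hT01]), Finset.sum_singleton, hm1, hd1, hmT, hmT, hdT, hdT,
      hX l₁, ← hx] at h3sum
    have hn' : n = 2 := by
      by_contra h
      have e1 : d x + 1 ≤ (m x + 1) * (d x + 1) := Nat.le_mul_of_pos_left _ (by omega)
      have : p * 3 ≤ p * n := Nat.mul_le_mul_left p (by omega)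
      omega
    have hdx6 : d x = 6 := by subst hn'; omega
    rw [hdx6] at h3sum
    have hmx : m x = 0 := by omega
    -- the permutation character
    have hm01 : m (T l₁) = 1 ∧ m (T l₀) = 1 := by
      constructor <;> rw [hmT, hX, hmx]
    have hπt : fixC t = 1 + (T l₁ : G → ℂ) t + (T l₀ : G → ℂ) t := by
      rw [hexp t, ← Finset.sum_subset (Finset.subset_univ {one, T l₁, T l₀}) fun φ _ hφ => by
        have h := hsub {one, T l₁, T l₀, φ}
        simp only [Finset.mem_insert, Finset.mem_singleton, not_or] at hφ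
        rw [Finset.sum_insert (by simp [(hne1 l₁).2.1.symm, (hne1 l₀).2.1.symm, Ne.symm hφ.1]),
          Finset.sum_insert (by simp [hT01, Ne.symm hφ.2.1]),
          Finset.sum_insert (by simp [Ne.symm hφ.2.2]), Finset.sum_singleton, hm1, hd1, hmT, hmT,
          hdT, hdT, hX l₁, ← hx, hmx, hdx6] at h
        rcases Nat.eq_zero_or_pos (m φ) with h' | h'
        · rw [h', Nat.cast_zero, zero_mul]
        · have := Nat.mul_pos h' (hd φ)
          omega,
        Finset.sum_insert (by simp [(hne1 l₁).2.1.symm, (hne1 l₀).2.1.symm]),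
        Finset.sum_insert (by simp [hT01]), Finset.sum_singleton, hm1, hm01.1, hm01.2]
      simp [hone]
      ring
    have e1 := S.dec_apply (hXT l₁) (hnp t ht2)
    have e0 := S.dec_apply (hXT l₀) (hnp t ht2)
    rw [hX l₁] at e1
    rw [hX l₀] at e0
    have hf : fixC t = 3 := by
      rcases S.fix_outer ht htP with ⟨-, h⟩ | ⟨h, -⟩
      · omega
      · simp [fixC, h]
    have hxt : (x : G → ℂ) t = 0 := by linear_combination (hf.symm.trans hπt).symm / 2 - e1 / 2 * (-1) + e0 / 2
    have hTt : (T l₀ : G → ℂ) t = 1 := by linear_combination hxt - e0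
    have hTd : (T l₀ : G → ℂ) 1 = 7 := by rw [hd', hdT, ← hx, hdx6]; norm_num
    have hxd : (x : G → ℂ) 1 = 6 := by rw [hd', hdx6]; norm_num
    have honec : ∀ y : G, orderOf y = 2 → IsConj y t := by
      intro y hy
      by_contra hyt
      have h := S.formula ht htP hy l₀.2 (hXT l₀)
      rw [if_neg hyt, mul_zero, ← hx, hxd, hTd,
        show (T l₀ : G → ℂ) y = 1 + (x : G → ℂ) y by
          rw [hx]; linear_combination -S.dec_apply (hXT l₀) (hnp y hy)] at h
      have h0 := (mul_eq_zero.1 h).resolve_left CfsgLib.Char.card_ne_zero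
      have h6 : ((x : G → ℂ) y - 6) ^ 2 = 0 := by linear_combination 42 * h0
      have h6' : (x : G → ℂ) y = (x : G → ℂ) 1 := by
        rw [hxd]; linear_combination pow_eq_zero_iff (n := 2) (by norm_num) |>.1 h6
      rw [S.apply_eq_one (hne1 l₀).1 h6', orderOf_one] at hy
      omega
    have h := S.formula ht htP ht2 l₀.2 (hXT l₀)
    rw [if_pos (IsConj.refl t), ← hx, hxd, hTd, hxt, hTt, h5] at h
    refine S.no_eq ht2 honec (A := 6) (B := 35) (by norm_num) (by norm_num) ?_ ?_
    · rw [show (6 : ℕ) = 2 * 3 from rfl, Nat.factorization_mul (by norm_num) (by norm_num),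
        Finsupp.add_apply, Nat.prime_two.factorization_self, Nat.factorization_eq_zero_of_not_dvd
          (show ¬ 2 ∣ 3 by norm_num)]
      omega
    · push_cast at h ⊢
      linear_combination 7 * h
  -- the case of a common `T`
  set θ := T l₀ with hθ
  have hT : ∀ l, T l = θ := hall
  have hθ1 : θ ≠ one := (hne1 l₀).2.1
  obtain ⟨⟨n, hn⟩, hθP⟩ := hcoef θ (-1) fun l => by
    rw [(hXT l).coeff_irr, ← hT l, if_neg (hne1 l).2.1, if_neg (hne1 l).2.2.symm, if_pos rfl]
    ring
  have hnd : d θ = p * n + (p - 1) := by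
    have h' : ((d θ + 1 : ℕ) : ℂ) = ((p * n + p : ℕ) : ℂ) := by
      push_cast
      linear_combination -hn
    have : d θ + 1 = p * n + p := by exact_mod_cast h'
    omega
  have hdX : ∀ l, d (X l) + 1 = d θ := fun l => by rw [← hdT, hT]
  have hmX0 : ∀ l, m (X l) + 1 = m θ := fun l => by rw [← hmT, hT]
  have hmθ0 : 1 ≤ m θ := by have := hmX0 l₀; omega
  have h2sum := hsub {one, θ}
  rw [Finset.sum_pair hθ1.symm, hm1, hd1] at h2sum
  have hn2 : n ≤ 2 := by
    by_contra h
    have e1 : d θ ≤ m θ * d θ := Nat.le_mul_of_pos_left _ hmθ0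
    have : p * 3 ≤ p * n := Nat.mul_le_mul_left p (by omega)
    omega
  have hmθ : m θ = 1 := by
    by_contra hne
    have hmθ2 : 2 ≤ m θ := by omega
    have hXne : X l₁ ≠ X l₀ := fun e => by
      rcases ((hXT l₁).share hI l₁.2 l₀.2 (hXT l₀)).2.2 e ((hT l₁).trans (hT l₀).symm) with h | h
      · exact hl₁a h
      · exact hl₁b h
    have h4 := hsub {one, θ, X l₁, X l₀}
    have hθX : ∀ l, θ ≠ X l := fun l e => (hne1 l).2.2 ((hT l).trans e).symm
    rw [Finset.sum_insert (by simp [hθ1.symm, (hne1 l₁).1.symm, (hne1 l₀).1.symm]),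
      Finset.sum_insert (by simp [hθX]), Finset.sum_insert (by simp [hXne]), Finset.sum_singleton,
      hm1, hd1] at h4
    have eθ : 2 * d θ ≤ m θ * d θ := Nat.mul_le_mul_right _ hmθ2
    have e₁ : d (X l₁) ≤ m (X l₁) * d (X l₁) :=
      Nat.le_mul_of_pos_left _ (by have := hmX0 l₁; omega)
    have e₀ : d (X l₀) ≤ m (X l₀) * d (X l₀) :=
      Nat.le_mul_of_pos_left _ (by have := hmX0 l₀; omega)
    have := hdX l₁
    have := hdX l₀
    have hn0 : n = 0 := by
      by_contra h
      have : p * 1 ≤ p * n := Nat.mul_le_mul_left p (by omega)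
      omega
    rw [hn0, mul_zero, zero_add] at hnd
    have h5 : p = 5 := by omega
    have hdθ : d θ = 4 := by omega
    have hd0 : d (X l₀) = 3 := by omega
    have hd1' : d (X l₁) = 3 := by omega
    rw [hdθ, hd0, hd1', show m (X l₁) = m θ - 1 from by have := hmX0 l₁; omega,
      show m (X l₀) = m θ - 1 from by have := hmX0 l₀; omega] at h4
    have hm2 : m θ = 2 := by omega
    have hπt : fixC t = 1 + 2 * (θ : G → ℂ) t + ((X l₁ : G → ℂ) t + (X l₀ : G → ℂ) t) := by
      rw [hexp t, ← Finset.sum_subset (Finset.subset_univ {one, θ, X l₁, X l₀}) fun φ _ hφ => by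
        have h := hsub {one, θ, X l₁, X l₀, φ}
        simp only [Finset.mem_insert, Finset.mem_singleton, not_or] at hφ
        rw [Finset.sum_insert (by simp [hθ1.symm, (hne1 l₁).1.symm, (hne1 l₀).1.symm, Ne.symm hφ.1]),
          Finset.sum_insert (by simp [hθX, Ne.symm hφ.2.1]),
          Finset.sum_insert (by simp [hXne, Ne.symm hφ.2.2.1]),
          Finset.sum_insert (by simp [Ne.symm hφ.2.2.2]), Finset.sum_singleton, hm1, hd1, hdθ, hd0,
          hd1', show m (X l₁) = 1 from by have := hmX0 l₁; omega,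
          show m (X l₀) = 1 from by have := hmX0 l₀; omega, hm2] at h
        rcases Nat.eq_zero_or_pos (m φ) with h' | h'
        · rw [h', Nat.cast_zero, zero_mul]
        · have := Nat.mul_pos h' (hd φ)
          omega,
        Finset.sum_insert (by simp [hθ1.symm, (hne1 l₁).1.symm, (hne1 l₀).1.symm]),
        Finset.sum_insert (by simp [hθX]), Finset.sum_insert (by simp [hXne]), Finset.sum_singleton,
        hm1, hm2, show m (X l₁) = 1 from by have := hmX0 l₁; omega,
        show m (X l₀) = 1 from by have := hmX0 l₀; omega]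
      simp [hone]
      ring
    have e1 := S.dec_apply (hXT l₁) (hnp t ht2)
    have e0 := S.dec_apply (hXT l₀) (hnp t ht2)
    rw [hT] at e1
    rw [hT] at e0
    have hf : fixC t = 3 := by
      rcases S.fix_outer ht htP with ⟨-, h⟩ | ⟨h, -⟩
      · omega
      · simp [fixC, h]
    have ha : (θ : G → ℂ) t = 1 := by linear_combination (hπt.symm.trans hf - e1 - e0) / 4
    have hxt : (X l₀ : G → ℂ) t = 0 := by linear_combination e0 + ha
    have hθd : (θ : G → ℂ) 1 = 4 := by rw [hd', hdθ]; norm_num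
    have hxd : (X l₀ : G → ℂ) 1 = 3 := by rw [hd', hd0]; norm_num
    have honec : ∀ y : G, orderOf y = 2 → IsConj y t := by
      intro y hy
      by_contra hyt
      have h := S.formula ht htP hy l₀.2 (hXT l₀)
      rw [if_neg hyt, mul_zero, hT, hxd, hθd,
        show (X l₀ : G → ℂ) y = (θ : G → ℂ) y - 1 by
          rw [← hT l₀]; linear_combination S.dec_apply (hXT l₀) (hnp y hy)] at h
      have h0 := (mul_eq_zero.1 h).resolve_left CfsgLib.Char.card_ne_zero
      have h6 : ((θ : G → ℂ) y - 4) ^ 2 = 0 := by linear_combination 12 * h0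
      have h6' : (θ : G → ℂ) y = (θ : G → ℂ) 1 := by
        rw [hθd]; linear_combination pow_eq_zero_iff (n := 2) (by norm_num) |>.1 h6
      rw [S.apply_eq_one hθ1 h6', orderOf_one] at hy
      omega
    have h := S.formula ht htP ht2 l₀.2 (hXT l₀)
    rw [if_pos (IsConj.refl t), hT, hxd, hθd, hxt, ha, h5] at h
    refine S.no_eq ht2 honec (A := 3) (B := 20) (by norm_num) (by norm_num) ?_ ?_
    · rw [Nat.factorization_eq_zero_of_not_dvd (show ¬ 2 ∣ 3 by norm_num)]
      omega
    · push_cast at h ⊢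
      linear_combination 4 * h
  have hmX : ∀ l, m (X l) = 0 := fun l => by have := hmX0 l; omega
  have hdvd : ∀ φ, φ ≠ one → φ ≠ θ → m φ ≠ 0 →
      (∃ k : ℕ, 0 < k ∧ (φ : G → ℂ) 1 = (p * k : ℕ)) ∧
        ∀ z ∈ (P : Subgroup G), z ≠ 1 → (φ : G → ℂ) z = 0 := by
    intro φ h1 h2 h0
    obtain ⟨⟨k, hk⟩, hφP⟩ := hcoef φ 0 fun l => by
      rw [(hXT l).coeff_irr, hT l, if_neg h1, if_neg h2,
        if_neg (fun e => h0 (by rw [e]; exact hmX l))]
      ring
    have h' : ((d φ : ℕ) : ℂ) = ((p * k : ℕ) : ℂ) := by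
      push_cast
      linear_combination -hk
    refine ⟨⟨k, Nat.pos_of_ne_zero fun e => ?_, by rw [hd', h']⟩, fun z hz hz1 => by
      rw [hφP z hz hz1, map_zero]⟩
    have := hd φ
    have : d φ = p * k := by exact_mod_cast h'
    rw [e, mul_zero] at this
    omega
  have hrat : ∀ g, ∃ z : ℤ, (θ : G → ℂ) g = z := by
    intro g
    have hint : IsIntegral ℤ ((θ : G → ℂ) g) := IsCharacter.isIntegral (isCharacter_irr θ) g
    refine (exists_rat_of_fixed hint.tower_top fun σ => ?_).elim fun q hq =>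
      exists_int_of_isIntegral_rat hint hq
    set φ : Cfsg.IrrCharacter G :=
      ⟨σ.toRingHom ∘ (θ : G → ℂ), CfsgLib.CharDeep.Galois.isIrrCharacter_map σ.toRingHom θ.2⟩ with hφ
    have hmφ : m φ = 1 := by
      have h1 : Cfsg.classInner (fixC (G := G)) (φ : G → ℂ) =
          σ (Cfsg.classInner (fixC (G := G)) (θ : G → ℂ)) := by
        simp only [Cfsg.classInner, map_mul, map_inv₀, map_natCast, map_sum, fixC]
        congr 1
        refine Finset.sum_congr rfl fun k _ => ?_
        congr 1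
        rw [← IsIrrCharacter.apply_inv φ.2 k, ← IsIrrCharacter.apply_inv θ.2 k]
        rfl
      rw [hm, hm, hmθ, Nat.cast_one, map_one] at h1
      exact_mod_cast h1
    have hdφ : d φ = d θ := by
      have h1 := hd' φ
      simp only [hφ, Function.comp_apply, hd' θ, map_natCast] at h1
      exact_mod_cast h1.symm
    have he : φ = θ := by
      by_contra hne
      have h1 : φ ≠ one := fun e => by rw [e, hd1] at hdφ; omega
      obtain ⟨k, -, hk⟩ := (hdvd φ h1 hne (by omega)).1
      have hk' : d φ = p * k := by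
        have := (hd' φ).symm.trans hk
        exact_mod_cast this
      have hd1p : p ∣ d θ + 1 := ⟨n + 1, by rw [Nat.mul_succ]; omega⟩
      have := (Nat.dvd_add_right (hdφ ▸ ⟨k, hk'⟩ : p ∣ d θ)).1 hd1p
      have := Nat.le_of_dvd one_pos this
      omega
    exact congrFun (congrArg Subtype.val he) g
  choose tz htz using hrat
  refine ⟨θ, tz, n + 1, htz, ?_, by omega, by omega, ?_, fun lam hl => ?_, ?_, ?_⟩
  · have h := (htz 1).symm.trans (hd' θ)
    have h' : tz 1 = ((d θ : ℕ) : ℤ) := by exact_mod_cast h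
    rw [h', hnd]
    push_cast [Nat.cast_sub hp.one_le]
    ring
  · intro g hg
    obtain ⟨k, hk, hk1⟩ := S.conj_mem hg
    have h := hθP _ hk hk1
    rw [IsIrrCharacter.isClassFunction θ.2, htz, map_neg, map_one] at h
    exact_mod_cast h
  · exact ⟨X ⟨lam, hl⟩, hT ⟨lam, hl⟩ ▸ hXT ⟨lam, hl⟩⟩
  · rw [hm, hmθ, Nat.cast_one]
  · intro φ h1 h2 h0
    exact hdvd φ h1 h2 fun e => h0 (by rw [hm, e, Nat.cast_zero])

end CfsgLib.Perm.ThricePrime
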