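import Cfsg.Agent.Lib.Perm.ThricePrime.SylowKernel
import Cfsg.Agent.Lib.Involution.DihedralSylow

/-!
# Degree thrice a prime: the Sylow two-subgroup of order eight
-/

set_option autoImplicit false

open scoped Classical

namespace CfsgLib.Perm.ThricePrime

open MulAction CfsgLib.Char CfsgLib.Char.InvertedPrime CfsgLib.Perm.PrimeDegreeDihedral

universe u

variable {α : Type u} [Fintype α] {G : Subgroup (Equiv.Perm α)} {p : ℕ} [Fact p.Prime]
  {P : Sylow p G}

/-- The dihedral Sylow two-subgroup. -/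
structure Eight (T : Sylow 2 G) (W : Subgroup G) (F : Finset α) (σ s : G) (a : α) : Prop where
  ker : Ker (p := p) T W F
  gen : CfsgLib.Involution.DihedralSylow.Gen (T : Subgroup G) σ s 1
  card : Nat.card (T : Subgroup G) = 8
  cardW : Nat.card W = 4
  zW : σ ^ 2 ∈ W
  σsW : σ * s ∈ W
  sW : s ∉ W
  σW : σ ∉ W
  aF : a ∈ F
  le_stab : (T : Subgroup G) ≤ stabilizer G a

theorem Setup.kernel_sq (S : Setup G p P) {T : Sylow 2 G} {W : Subgroup G} {F : Finset α}
    (hK : Ker (p := p) T W F) (hW : Nat.card W = 4) (h8 : p % 8 = 5) {w : G} (hw : w ∈ W) :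
    w * w = 1 := by
  by_contra hne
  have h4 : w ^ 4 = 1 := by
    have h := pow_card_eq_one' (x := (⟨w, hw⟩ : W))
    rw [hW] at h
    exact congrArg Subtype.val h
  have hw2 : w ^ 2 ∈ W := pow_mem hw 2
  have hw1 : w ≠ 1 := fun e => hne (by rw [e, mul_one])
  set π : Equiv.Perm α := (w : Equiv.Perm α) with hπ
  have hall : ∀ n ∈ π.cycleType, n = 4 := by
    intro n hn
    have h2 := Equiv.Perm.two_le_of_mem_cycleType hn
    have hd : n ∣ 4 := by
      refine (Equiv.Perm.dvd_of_mem_cycleType hn).trans (orderOf_dvd_of_pow_eq_one ?_)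
      exact congrArg Subtype.val h4
    have hle := Nat.le_of_dvd (by norm_num) hd
    rcases (show n = 2 ∨ n = 3 ∨ n = 4 by omega) with rfl | rfl | rfl
    · exfalso
      rw [Equiv.Perm.cycleType_def, Multiset.mem_map] at hn
      obtain ⟨c, hc, hcard⟩ := hn
      obtain ⟨hcyc, heq⟩ := Equiv.Perm.mem_cycleFactorsFinset_iff.1 hc
      obtain ⟨x, hx⟩ : c.support.Nonempty := Finset.card_pos.1 (by
        have : c.support.card = 2 := hcard
        omega)
      have hcc : c * c = 1 := by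
        have ho := hcyc.orderOf
        rw [show c.support.card = 2 from hcard] at ho
        rw [← sq, ← ho, pow_orderOf_eq_one]
      have hfix : (w ^ 2) • x = x := by
        rw [sq, mul_smul]
        change π (π x) = x
        rw [← heq x hx, ← heq (c x) (Equiv.Perm.apply_mem_support.2 hx)]
        exact congrArg (fun f : Equiv.Perm α => f x) hcc
      have hxF := hK.fix _ hw2 (by rw [sq]; exact hne) x hfix
      exact Equiv.Perm.mem_support.1 hx ((heq x hx).trans (((hK.mem w).1 hw).2 x hxF))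
    · omega
    · rfl
  have hsupp : π.support.card + 3 = 3 * p := by
    have hsup : π.support = Fᶜ := by
      ext x
      rw [Equiv.Perm.mem_support, Finset.mem_compl]
      exact ⟨fun h hxF => h (((hK.mem w).1 hw).2 x hxF), fun h hx => h (hK.fix w hw hw1 x hx)⟩
    rw [hsup, Finset.card_compl, hK.card_F, S.hα]
    have := S.hp
    omega
  have hrep := Multiset.eq_replicate_card.2 hall
  have hsum : π.support.card = 4 * Multiset.card π.cycleType := by
    rw [← Equiv.Perm.sum_cycleType]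
    conv_lhs => rw [hrep]
    rw [Multiset.sum_replicate, smul_eq_mul, mul_comm]
  have hsign := S.sign_eq_one w
  rw [← hπ, Equiv.Perm.sign_of_cycleType, Equiv.Perm.sum_cycleType,
    neg_one_pow_eq_one_iff_even (by decide)] at hsign
  obtain ⟨i, hi⟩ := hsign
  omega

/-- The Sylow two-subgroup is dihedral. -/
theorem Setup.exists_eight (S : Setup G p P) {T : Sylow 2 G} {W : Subgroup G} {F : Finset α}
    (hK : Ker (p := p) T W F) (hT : Nat.card (T : Subgroup G) = 8) (hW : Nat.card W = 4)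
    (h8 : p % 8 = 5) (h3 : ∀ y : G, orderOf y = 2 → fixNum y = 3)
    (hone : ∀ x y : G, orderOf x = 2 → orderOf y = 2 → IsConj x y) :
    ∃ σ s a, Eight (p := p) T W F σ s a := by
  haveI : Fact (Nat.Prime 2) := ⟨Nat.prime_two⟩
  have hsq : ∀ w ∈ W, w * w = 1 := fun w hw => S.kernel_sq hK hW h8 hw
  have hinv : ∀ w ∈ W, w⁻¹ = w := fun w hw => inv_eq_of_mul_eq_one_right (hsq w hw)
  have hcommW : ∀ u ∈ W, ∀ v ∈ W, u * v = v * u := fun u hu v hv => by
    calc u * v = (u * v)⁻¹ := (hinv _ (mul_mem hu hv)).symm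
      _ = v * u := by rw [mul_inv_rev, hinv u hu, hinv v hv]
  have hidx : (W.subgroupOf (T : Subgroup G)).index = 2 := by
    have h := (W.subgroupOf (T : Subgroup G)).card_mul_index
    rw [Nat.card_congr (Subgroup.subgroupOfEquivOfLe hK.le).toEquiv, hT, hW] at h
    omega
  have hmul : ∀ u ∈ (T : Subgroup G), ∀ v ∈ (T : Subgroup G), u ∉ W → v ∉ W → u * v ∈ W := by
    intro u hu v hv huW hvW
    have h := Subgroup.mul_mem_iff_of_index_two hidx (a := ⟨u, hu⟩) (b := ⟨v, hv⟩)
    simp only [Subgroup.mem_subgroupOf, MulMemClass.mk_mul_mk, huW, hvW] at h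
    exact h.2 trivial
  have hnormW : ∀ u ∈ (T : Subgroup G), ∀ v ∈ W, u * v * u⁻¹ ∈ W := by
    intro u hu v hv
    by_cases huW : u ∈ W
    · exact mul_mem (mul_mem huW hv) (inv_mem huW)
    · exact hmul _ (mul_mem hu (hK.le hv)) _ (inv_mem hu)
        (fun h => huW ((Subgroup.mul_mem_cancel_right _ hv).1 h)) fun h => huW (by simpa using inv_mem h)
  -- an involution outside `W` does not centralise `W`
  have hnc : ∀ u ∈ (T : Subgroup G), u ∉ W → orderOf u = 2 → ∃ w ∈ W, w * u ≠ u * w := by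
    intro u hu huW hu2
    by_contra hc
    push Not at hc
    set U := Finset.univ.filter fun x : α => u • x = x with hU
    have hUst : ∀ w ∈ W, ∀ x : α, u • x = x → u • w • x = w • x := fun w hw x hx => by
      rw [← mul_smul, ← hc w hw, mul_smul, hx]
    obtain ⟨x, hxU, hxF⟩ : ∃ x ∈ U, x ∉ F := by
      by_contra hcon
      push Not at hcon
      refine huW ((hK.mem u).2 ⟨hu, fun a ha => ?_⟩)
      have e : U = F := Finset.eq_of_subset_of_card_le hcon (by rw [hK.card_F]; exact (h3 u hu2).ge)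
      rw [← e] at ha
      exact (Finset.mem_filter.1 ha).2
    have hle : Nat.card W ≤ U.card := by
      rw [← Nat.card_eq_finsetCard U]
      refine Nat.card_le_card_of_injective (fun w : W => (⟨(w : G) • x, ?_⟩ : U)) fun w v e => ?_
      · exact Finset.mem_filter.2 ⟨Finset.mem_univ _, hUst w w.2 x (Finset.mem_filter.1 hxU).2⟩
      · have e' : (w : G) • x = (v : G) • x := congrArg Subtype.val e
        by_contra hne
        refine hxF (hK.fix _ (mul_mem (inv_mem v.2) w.2) (fun h => hne (Subtype.ext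
          (inv_mul_eq_one.1 h).symm)) x ?_)
        rw [mul_smul, e', inv_smul_smul]
    rw [hW, hU] at hle
    have := h3 u hu2
    simp only [fixNum] at this
    omega
  obtain ⟨σ, hσ, hσW, hσσ⟩ : ∃ σ ∈ (T : Subgroup G), σ ∉ W ∧ σ * σ ≠ 1 := by
    by_contra hc
    push Not at hc
    obtain ⟨u, hu, huW⟩ : ∃ u ∈ (T : Subgroup G), u ∉ W := by
      by_contra hall
      push Not at hall
      have : Nat.card W = Nat.card (T : Subgroup G) := by rw [le_antisymm hK.le hall]
      omega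
    have hu1 : u ≠ 1 := fun e => huW (e ▸ W.one_mem)
    obtain ⟨w, hw, hne⟩ := hnc u hu huW (orderOf_eq_prime (by rw [sq]; exact hc u hu huW) hu1)
    refine hne ?_
    have h1 := hc (u * w) (mul_mem hu (hK.le hw)) fun h => huW ((Subgroup.mul_mem_cancel_right _ hw).1 h)
    have h2 := hc u hu huW
    calc w * u = (u * u) * (w * u) * (w * w) := by rw [h2, hsq w hw, one_mul, mul_one]
      _ = u * (u * w * (u * w)) * w := by group
      _ = u * w := by rw [h1, mul_one]
  have hz : σ ^ 2 ∈ W := by rw [sq]; exact hmul σ hσ σ hσ hσW hσW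
  have hz1 : σ ^ 2 ≠ 1 := by rw [sq]; exact hσσ
  have hord : orderOf σ = 2 ^ (1 + 1) := by
    refine orderOf_eq_prime_pow ?_ ?_
    · simpa using hz1
    · rw [show 2 ^ (1 + 1) = 2 * 2 by norm_num, pow_mul, sq (σ ^ 2)]
      exact hsq _ hz
  set Z : Subgroup G := Subgroup.zpowers (σ ^ 2) with hZ
  obtain ⟨w, hw, hw1, hwz⟩ : ∃ w ∈ W, w ≠ 1 ∧ w ≠ σ ^ 2 := by
    by_contra hc
    push Not at hc
    have hle : W ≤ Z := fun v hv => by
      rcases eq_or_ne v 1 with rfl | h
      · exact Z.one_mem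
      · rw [hc v hv h]; exact Subgroup.mem_zpowers _
    have := Nat.le_of_dvd Nat.card_pos (Subgroup.card_dvd_of_le hle)
    rw [hZ, hW, Nat.card_zpowers, orderOf_eq_prime (p := 2) (by rw [sq]; exact hsq _ hz) hz1] at this
    omega
  have hWcases : ∀ v ∈ W, v = 1 ∨ v = σ ^ 2 ∨ v = w ∨ v = σ ^ 2 * w := by
    have hzw1 : σ ^ 2 * w ≠ 1 := fun e => hwz (by
      rw [mul_eq_one_iff_eq_inv, hinv w hw] at e; exact e.symm)
    have e : ({1, σ ^ 2, w, σ ^ 2 * w} : Finset G) = Finset.univ.filter fun v => v ∈ W := by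
      refine Finset.eq_of_subset_of_card_le (fun v hv => ?_) ?_
      · simp only [Finset.mem_insert, Finset.mem_singleton] at hv
        simp only [Finset.mem_filter, Finset.mem_univ, true_and]
        rcases hv with rfl | rfl | rfl | rfl
        exacts [W.one_mem, hz, hw, mul_mem hz hw]
      · rw [← Fintype.card_subtype, ← Nat.card_eq_fintype_card, show Nat.card {v // v ∈ W} = 4 from hW,
          Finset.card_insert_of_notMem, Finset.card_insert_of_notMem, Finset.card_pair]
        · simp [hw1, hz1]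
        · simp only [Finset.mem_insert, Finset.mem_singleton, not_or]
          exact ⟨hwz.symm, fun h => hw1 (left_eq_mul.1 h)⟩
        · simp only [Finset.mem_insert, Finset.mem_singleton, not_or]
          exact ⟨hz1.symm, hw1.symm, hzw1.symm⟩
    intro v hv
    have hm : v ∈ ({1, σ ^ 2, w, σ ^ 2 * w} : Finset G) := by rw [e]; simpa using hv
    simpa using hm
  have hσz : σ * σ ^ 2 * σ⁻¹ = σ ^ 2 := by group
  have hne : σ * w * σ⁻¹ ≠ w := by
    intro hcomm
    have hTcomm : IsMulCommutative (T : Subgroup G) := by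
      refine ⟨⟨fun x y => Subtype.ext ?_⟩⟩
      have hσc : Commute σ w := mul_inv_eq_iff_eq_mul.1 hcomm
      have hgen : ∀ v ∈ (T : Subgroup G), v ∈ W ∨ ∃ u ∈ W, v = σ * u := fun v hv => by
        by_cases h : v ∈ W
        · exact Or.inl h
        · exact Or.inr ⟨σ⁻¹ * v, hmul _ (inv_mem hσ) v hv (fun h' => hσW (by simpa using inv_mem h')) h,
            by rw [mul_inv_cancel_left]⟩
      have hσv : ∀ v ∈ W, Commute σ v := fun v hv => by
        rcases hWcases v hv with rfl | rfl | rfl | rfl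
        exacts [Commute.one_right σ, Commute.self_pow σ 2, hσc, (Commute.self_pow σ 2).mul_right hσc]
      have hWW : ∀ u ∈ W, ∀ v ∈ W, Commute u v := hcommW
      show Commute (x : G) (y : G)
      rcases hgen _ x.2 with hx | ⟨u, hu, hx⟩ <;> rcases hgen _ y.2 with hy | ⟨v, hv, hy⟩
      · exact hWW _ hx _ hy
      · rw [hy]; exact ((hσv _ hx).symm.mul_right (hWW _ hx _ hv))
      · rw [hx]; exact (hσv _ hy).mul_left (hWW _ hu _ hy)
      · rw [hx, hy]
        exact ((Commute.refl σ).mul_right (hσv v hv)).mul_left ((hσv u hu).symm.mul_right (hWW _ hu _ hv))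
    have hcT : ∀ v ∈ W, v ∈ Subgroup.centralizer ((T : Subgroup G) : Set G) := fun v hv =>
      Subgroup.mem_centralizer_iff.2 fun x hx =>
        congrArg Subtype.val (hTcomm.is_comm.comm (⟨x, hx⟩ : (T : Subgroup G)) ⟨v, hK.le hv⟩)
    obtain ⟨g, hg⟩ := isConj_iff.1 (hone (σ ^ 2) w
      (orderOf_eq_prime (by rw [sq (σ ^ 2)]; exact hsq _ hz) hz1)
      (orderOf_eq_prime (by rw [sq]; exact hsq _ hw) hw1))
    obtain ⟨n, hn, hn'⟩ := Sylow.conj_eq_normalizer_conj_of_mem_centralizer T (σ ^ 2) g⁻¹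
      (hcT _ hz) (by
        rw [inv_inv]
        show g * σ ^ 2 * g⁻¹ ∈ _
        rw [hg]; exact hcT _ hw)
    rw [inv_inv, hg] at hn'
    have hmem : n⁻¹ * σ * n ∈ (T : Subgroup G) := ((Subgroup.mem_normalizer_iff''.1 hn) σ).1 hσ
    have hsq2 : (n⁻¹ * σ * n) ^ 2 = w := by
      rw [hn', sq, sq]; group
    by_cases hW' : n⁻¹ * σ * n ∈ W
    · rw [sq, hsq _ hW'] at hsq2
      exact hw1 hsq2.symm
    · obtain ⟨v, hv, he⟩ : ∃ v ∈ W, n⁻¹ * σ * n = σ * v :=
        ⟨σ⁻¹ * (n⁻¹ * σ * n), hmul _ (inv_mem hσ) _ hmem (fun h' => hσW (by simpa using inv_mem h')) hW',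
          by rw [mul_inv_cancel_left]⟩
      have hc : σ * v = v * σ :=
        congrArg Subtype.val (hTcomm.is_comm.comm (⟨σ, hσ⟩ : (T : Subgroup G)) ⟨v, hK.le hv⟩)
      rw [he, sq] at hsq2
      refine hwz ?_
      rw [← hsq2, sq]
      calc σ * v * (σ * v) = σ * (v * σ) * v := by group
        _ = σ * σ * (v * v) := by rw [← hc]; group
        _ = σ * σ := by rw [hsq v hv, mul_one]
  have hconjw : σ * w * σ⁻¹ = σ ^ 2 * w := by
    rcases hWcases _ (hnormW σ hσ w hw) with h | h | h | h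
    · exact absurd (conj_eq_one_iff.1 h) hw1
    · exfalso
      refine hwz ?_
      calc w = σ⁻¹ * (σ * w * σ⁻¹) * σ := by group
        _ = σ ^ 2 := by rw [h]; group
    · exact absurd h hne
    · exact h
  have hwσ : w * σ * w⁻¹ = σ⁻¹ := by
    have h1 : w = σ * w * σ := by
      calc w = σ ^ 2 * w * σ ^ 2 := by
            rw [hcommW _ hz w hw, mul_assoc, hsq _ hz, mul_one]
        _ = σ * w * σ⁻¹ * σ ^ 2 := by rw [hconjw]
        _ = σ * w * σ := by group
    calc w * σ * w⁻¹ = σ⁻¹ * (σ * w * σ) * w⁻¹ := by group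
      _ = σ⁻¹ := by rw [← h1]; group
  -- the fixed point
  obtain ⟨a, haF, ha⟩ : ∃ a ∈ F, σ • a = a := by
    obtain ⟨b, hb, hσb⟩ : ∃ b ∈ F, σ • b ≠ b := by
      by_contra hc
      push Not at hc
      exact hσW ((hK.mem σ).2 ⟨hσ, hc⟩)
    have hc : σ • b ∈ F := hK.stable σ hσ b hb
    have hback : σ • σ • b = b := by rw [← mul_smul, ← sq]; exact ((hK.mem _).1 hz).2 b hb
    obtain ⟨a, ha⟩ : ((F.erase b).erase (σ • b)).Nonempty := Finset.card_pos.1 (by
      rw [Finset.card_erase_of_mem (Finset.mem_erase.2 ⟨hσb, hc⟩), Finset.card_erase_of_mem hb,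
        hK.card_F]
      norm_num)
    simp only [Finset.mem_erase] at ha
    refine ⟨a, ha.2.2, ?_⟩
    by_contra hne'
    have h1 := hK.stable σ hσ a ha.2.2
    have hFeq : F = {a, b, σ • b} := (Finset.eq_of_subset_of_card_le (by
      simp [Finset.insert_subset_iff, ha.2.2, hb, hc]) (by
      rw [hK.card_F, Finset.card_insert_of_notMem (by simp [ha.1, ha.2.1]),
        Finset.card_pair (Ne.symm hσb)])).symm
    rw [hFeq] at h1
    simp only [Finset.mem_insert, Finset.mem_singleton] at h1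
    rcases h1 with h1 | h1 | h1
    · exact hne' h1
    · exact ha.1 (MulAction.injective σ (h1.trans hback.symm))
    · exact ha.2.1 (MulAction.injective σ h1)
  have hsW : σ⁻¹ * w ∉ W := fun h => hσW (by simpa using inv_mem ((Subgroup.mul_mem_cancel_right _ hw).1 h))
  have hσpow : ∀ i : ℤ, σ ^ i = 1 ∨ σ ^ i = σ ∨ σ ^ i = σ ^ 2 ∨ σ ^ i = σ * σ ^ 2 := by
    intro i
    have e : σ ^ i = σ ^ (i % 4) := by
      conv_lhs => rw [← zpow_mod_orderOf, hord]
      norm_num
    have h0 := Int.emod_nonneg i (show (4 : ℤ) ≠ 0 by norm_num)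
    have h4 := Int.emod_lt_of_pos i (show (0 : ℤ) < 4 by norm_num)
    rcases (show i % 4 = 0 ∨ i % 4 = 1 ∨ i % 4 = 2 ∨ i % 4 = 3 by omega) with h | h | h | h <;>
      rw [e, h]
    · exact Or.inl (zpow_zero σ)
    · exact Or.inr (Or.inl (zpow_one σ))
    · exact Or.inr (Or.inr (Or.inl rfl))
    · exact Or.inr (Or.inr (Or.inr (by group)))
  refine ⟨σ, σ⁻¹ * w, a, hK, ⟨hσ, mul_mem (inv_mem hσ) (hK.le hw), hord, ?_, ?_, ?_, ?_⟩, hT, hW, hz,
    by rw [mul_inv_cancel_left]; exact hw, hsW, hσW, haF, fun v hv => ?_⟩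
  · calc σ⁻¹ * w * (σ⁻¹ * w) = σ⁻¹ * (w * σ⁻¹ * w⁻¹) * (w * w) := by group
      _ = σ⁻¹ * (w * σ * w⁻¹)⁻¹ * 1 := by rw [hsq w hw]; group
      _ = 1 := by rw [hwσ]; group
  · intro h
    obtain ⟨i, hi⟩ := Subgroup.mem_zpowers_iff.1 h
    have hwi : w = σ ^ (i + 1) := by
      calc w = σ * (σ⁻¹ * w) := by group
        _ = σ * σ ^ i := by rw [hi]
        _ = _ := by group
    rcases hσpow (i + 1) with e | e | e | e
    · exact hw1 (hwi.trans e)
    · exact hσW (e ▸ hwi ▸ hw)
    · exact hwz (hwi.trans e)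
    · exact hσW ((Subgroup.mul_mem_cancel_right _ hz).1 (e ▸ hwi ▸ hw))
  · calc σ⁻¹ * w * σ * (σ⁻¹ * w)⁻¹ = σ⁻¹ * (w * σ * w⁻¹) * σ := by group
      _ = σ⁻¹ := by rw [hwσ]; group
  · intro x hx
    by_cases hxW : x ∈ W
    · rcases hWcases x hxW with rfl | rfl | rfl | rfl
      · exact Or.inl ⟨0, by group⟩
      · exact Or.inl ⟨2, rfl⟩
      · exact Or.inr ⟨1, by group⟩
      · exact Or.inr ⟨3, by group⟩
    · obtain ⟨v, hv, rfl⟩ : ∃ v ∈ W, x = σ * v :=
        ⟨σ⁻¹ * x, hmul _ (inv_mem hσ) x hx (fun h' => hσW (by simpa using inv_mem h')) hxW,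
          by rw [mul_inv_cancel_left]⟩
      rcases hWcases v hv with rfl | rfl | rfl | rfl
      · exact Or.inl ⟨1, by group⟩
      · exact Or.inl ⟨3, by group⟩
      · exact Or.inr ⟨2, by group⟩
      · exact Or.inr ⟨4, by group⟩
  · by_cases h : v ∈ W
    · exact ((hK.mem v).1 h).2 a haF
    · have hm := hmul _ (inv_mem hσ) v hv (fun h' => hσW (by simpa using inv_mem h')) h
      show v • a = a
      rw [show v = σ * (σ⁻¹ * v) by group, mul_smul, ((hK.mem _).1 hm).2 a haF, ha]

end CfsgLib.Perm.ThricePrime
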