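import Cfsg.Agent.Lib.Perm.ThricePrime.Cases
import Cfsg.Agent.Lib.Classical.HermMatrix
import Cfsg.Agent.Lib.Char.FewSylow.Cubed
import Cfsg.Agent.S0222

/-!
# Degree thrice a prime: involutions fixing one point
-/

set_option autoImplicit false

open scoped Classical

namespace CfsgLib.Perm.ThricePrime

open MulAction CfsgLib.Char CfsgLib.Char.InvertedPrime CfsgLib.Perm.PrimeDegreeDihedral

universe u

variable {α : Type u} [Fintype α] {G : Subgroup (Equiv.Perm α)} {p : ℕ} [Fact p.Prime]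
  {P : Sylow p G}

/-- If every involution fixes one point, the order is bounded by the Sylow two-subgroup. -/
theorem Setup.exists_order_bound (S : Setup G p P)
    (h1 : ∀ y : G, orderOf y = 2 → fixNum y = 1) :
    ∃ s, s ∣ Nat.card G ∧ (∃ k, s = 2 ^ k) ∧ Nat.card G ≤ s * (s ^ 2 - 1) := by
  haveI := S.trans
  obtain ⟨t, ht, htP, ht2⟩ := S.exists_t
  obtain ⟨a, ha⟩ := Finset.card_eq_one.1 (h1 t ht2)
  have hta : t • a = a := by
    have : a ∈ Finset.univ.filter fun y : α => t • y = y := ha ▸ Finset.mem_singleton_self a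
    exact (Finset.mem_filter.1 this).2
  set A := stabilizer G a with hA
  have hSE : Cfsg.IsStronglyEmbedded A := by
    refine ⟨fun h => ?_, ?_, fun g hg => ?_⟩
    · haveI : Nontrivial α :=
        Fintype.one_lt_card_iff_nontrivial.1 (by rw [S.hα]; have := S.hp; omega)
      obtain ⟨b, hb⟩ := exists_ne a
      obtain ⟨g, rfl⟩ := exists_smul_eq G a b
      exact hb (show g ∈ A from h ▸ Subgroup.mem_top g)
    · refine even_iff_two_dvd.2 (ht2 ▸ ?_)
      exact Subgroup.orderOf_dvd_natCard A (show t ∈ A from hta)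
    · rw [← Nat.not_even_iff_odd, even_iff_two_dvd]
      intro h2
      haveI : Fact (Nat.Prime 2) := ⟨Nat.prime_two⟩
      obtain ⟨y, hy⟩ := exists_prime_orderOf_dvd_card' 2 h2
      have hy2 : orderOf (y : G) = 2 := by rw [Subgroup.orderOf_coe, hy]
      obtain ⟨⟨w, hw, hwy⟩⟩ : Nonempty {w // w ∈ A ∧ g * w * g⁻¹ = (y : G)} := by
        obtain ⟨w, hw, hwy⟩ := (Subgroup.mem_inf.1 y.2).2
        exact ⟨⟨w, hw, hwy⟩⟩
      obtain ⟨b, hb⟩ := Finset.card_eq_one.1 (h1 _ hy2)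
      have hmem : ∀ c : α, (y : G) • c = c → c = b := fun c hc => by
        have : c ∈ ({b} : Finset α) := hb ▸ Finset.mem_filter.2 ⟨Finset.mem_univ c, hc⟩
        simpa using this
      have hga : (y : G) • g • a = g • a := by
        rw [← hwy, mul_smul, mul_smul, inv_smul_smul, show w • a = a from hw]
      exact hg (show g • a = a from (hmem _ hga).trans (hmem a (Subgroup.mem_inf.1 y.2).1).symm)
  have hna : ∃ x y : G, x * y ≠ y * x := by
    by_contra hc
    push Not at hc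
    exact S.ncomm ⟨⟨hc⟩⟩
  haveI := S.simple
  rcases Cfsg.Agent.S0222.result hna A hSE with ⟨F, iF, iFt, i2, -, ⟨e⟩⟩ | ⟨-, m, -, hm⟩ |
    ⟨F, iF, iFt, q, hF, hqe, hq4, ⟨e⟩⟩
  · obtain ⟨n, -, hn⟩ := FiniteField.card F 2
    refine ⟨2 ^ (n : ℕ), ?_, ⟨n, rfl⟩, ?_⟩
    all_goals
      have h := CfsgLib.Char.FewSylow.card_psl_two (F := F)
      have hev : Even (2 ^ (n : ℕ)) := even_two.pow_of_ne_zero n.ne_zero
      rw [hn, Nat.coprime_two_left.2 (Nat.Even.sub_odd (Nat.one_le_two_pow) hev odd_one), one_mul,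
        ← Nat.card_congr e.toEquiv] at h
    · rw [h]; exact dvd_mul_right _ _
    · rw [h, show (2 ^ (n : ℕ)) ^ 2 - 1 = (2 ^ (n : ℕ)) ^ 2 - 1 ^ 2 by rw [one_pow], Nat.sq_sub_sq,
        mul_comm (2 ^ (n : ℕ) - 1)]
  · refine ⟨(2 ^ (2 * m + 1)) ^ 2, ?_, ⟨2 * (2 * m + 1), by rw [← pow_mul, mul_comm]⟩, ?_⟩
    · rw [hm]; exact dvd_mul_of_dvd_left (dvd_mul_right _ _) _
    · rw [hm, mul_assoc]
      refine Nat.mul_le_mul_left _ ?_
      set r := 2 ^ (2 * m + 1) with hr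
      have h1r : 1 ≤ r := Nat.one_le_two_pow
      rw [show (r ^ 2) ^ 2 - 1 = (r ^ 2) ^ 2 - 1 ^ 2 by rw [one_pow], Nat.sq_sub_sq]
      refine Nat.mul_le_mul_left _ ?_
      have : r ≤ r ^ 2 := Nat.le_self_pow two_ne_zero r
      omega
  · -- unitary
    have hc1 := CfsgLib.Classical.card_SU_mul (F := F) hF (show 1 ≤ 3 by norm_num)
    have hc2 := CfsgLib.Classical.card_center_SU (F := F) hF (show 2 ≤ 3 by norm_num)
    rw [CfsgLib.Classical.card_GU hF 3] at hc1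
    simp [Finset.prod_range_succ, Nat.even_iff, -Nat.card_eq_fintype_card, -Fintype.card_eq_nat_card] at hc1
    have hc3 := Subgroup.card_eq_card_quotient_mul_card_subgroup (Subgroup.center (Cfsg.SU 3 F q))
    change Nat.card (Cfsg.SU 3 F q) = Nat.card (Cfsg.PSU 3 F q) * _ at hc3
    rw [← Nat.card_congr e.toEquiv, hc2] at hc3
    have hdiv : Nat.card G ∣ q ^ 3 * ((q + 1) * (q ^ 2 - 1) * (q ^ 3 + 1)) :=
      ⟨Nat.gcd 3 (q + 1) * (q + 1), by rw [← hc1, hc3]; ring⟩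
    have hqq : q ^ 3 ∣ Nat.card G * (Nat.gcd 3 (q + 1) * (q + 1)) :=
      ⟨(q + 1) * (q ^ 2 - 1) * (q ^ 3 + 1), by linarith [hc1, (show Nat.card G *
        (Nat.gcd 3 (q + 1) * (q + 1)) = (q + 1) * Nat.card (Cfsg.SU 3 F q) by rw [hc3]; ring)]⟩
    obtain ⟨j, hj⟩ : ∃ j, q = 2 ^ j := by
      haveI : CharP F 2 := ringChar.eq_iff.1 (FiniteField.even_card_iff_char_two.2 (by
        rw [hF]; exact Nat.even_iff.1 (hqe.pow_of_ne_zero two_ne_zero)))
      obtain ⟨n, -, hn⟩ := FiniteField.card F 2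
      obtain ⟨j, -, hj⟩ := (Nat.dvd_prime_pow Nat.prime_two).1
        (show q ∣ 2 ^ (n : ℕ) by rw [← hn, hF]; exact dvd_pow_self q two_ne_zero)
      exact ⟨j, hj⟩
    refine ⟨q ^ 3, ?_, ⟨3 * j, by rw [hj, ← pow_mul, mul_comm]⟩, ?_⟩
    · refine Nat.Coprime.dvd_of_dvd_mul_right ?_ hqq
      rw [hj, ← pow_mul]
      refine Nat.Coprime.pow_left _ (Nat.coprime_two_left.2 ?_)
      exact (Odd.of_dvd_nat (show Odd 3 by decide) (Nat.gcd_dvd_left _ _)).mul (hj ▸ hqe.add_one)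
    · have hle : Nat.card G * (q + 1) ≤ q ^ 3 * ((q + 1) * (q ^ 2 - 1) * (q ^ 3 + 1)) := by
        rw [← hc1, hc3]
        calc Nat.card G * (q + 1) = (q + 1) * (Nat.card G * 1) := by ring
          _ ≤ _ := Nat.mul_le_mul_left _ (Nat.mul_le_mul_left _
            (Nat.gcd_pos_of_pos_left _ (by norm_num)))
      have h1 : Nat.card G ≤ q ^ 3 * ((q ^ 2 - 1) * (q ^ 3 + 1)) := by
        refine Nat.le_of_mul_le_mul_right ?_ (show 0 < q + 1 by omega)
        calc Nat.card G * (q + 1) ≤ _ := hle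
          _ = _ := by ring
      refine h1.trans (Nat.mul_le_mul_left _ ?_)
      have h3 : q ^ 2 ≤ q ^ 3 := Nat.pow_le_pow_right (by omega) (by norm_num)
      rw [show (q ^ 3) ^ 2 - 1 = (q ^ 3) ^ 2 - 1 ^ 2 by rw [one_pow], Nat.sq_sub_sq,
        mul_comm (q ^ 2 - 1)]
      exact Nat.mul_le_mul_left _ (by omega)

variable {θ : Cfsg.IrrCharacter G} {tz : G → ℤ} {n : ℕ}

theorem Theta.fix_eq (S : Setup G p P) (hT : Theta P θ tz n) {t y : G}
    (ht : t ∈ Subgroup.normalizer ((P : Subgroup G) : Set G)) (htP : t ∉ (P : Subgroup G))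
    (hy : orderOf y = 2) : fixNum y = fixNum t := by
  obtain ⟨k, rfl⟩ := isConj_iff.1 (hT.one_class S ht htP hy)
  exact (fixNum_conj y k).symm

end CfsgLib.Perm.ThricePrime
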