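import Cfsg.Agent.Lib.Char.CyclicTIGalois
import Cfsg.Agent.Lib.CharDeep.Galois.ComplexAut

/-!
# An integral character value depends only on the cyclic subgroup
-/

set_option autoImplicit false

open scoped Classical

namespace CfsgLib.Perm.ThricePrime

open CfsgLib.Char

/-- An integral value of a character is also the value at the other generators. -/
theorem apply_pow_of_int {G : Type*} [Group G] [Finite G] {χ : G → ℂ}
    (hχ : Cfsg.IsCharacter G χ) {g : G} {z : ℤ} (hz : χ g = z) {j : ℕ}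
    (hj : j.Coprime (orderOf g)) : χ (g ^ j) = z := by
  cases nonempty_fintype G
  cases nonempty_fintype (Subgroup.zpowers g)
  set n := orderOf g with hn
  have hn0 : n ≠ 0 := (orderOf_pos g).ne'
  obtain ⟨ω, hω⟩ : ∃ ω : ℂ, IsPrimitiveRoot ω n := ⟨_, Complex.isPrimitiveRoot_exp n hn0⟩
  obtain ⟨σ, hσ⟩ := CfsgLib.CharDeep.Galois.exists_ringEquiv_primitive hn0 hω
    (hω.pow_of_coprime j hj)
  haveI : NeZero n := ⟨hn0⟩
  have hσr : ∀ r : ℂ, r ^ n = 1 → σ r = r ^ j := by
    intro r hr
    obtain ⟨i, -, rfl⟩ := hω.eq_pow_of_pow_eq_one hr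
    rw [map_pow, hσ, pow_right_comm]
  have hres := IsCharacter.restrict hχ (Subgroup.zpowers g)
  have hcomm : ∀ a b : Subgroup.zpowers g, a * b = b * a := fun a b =>
    Subtype.ext (by
      obtain ⟨i, hi⟩ := a.2
      obtain ⟨k, hk⟩ := b.2
      show (a : G) * b = b * a
      rw [← hi, ← hk]
      exact (Commute.zpow_zpow (Commute.refl g) i k).eq)
  have hexp : ∀ y : Subgroup.zpowers g, χ (y : G) = ∑ φ : Cfsg.IrrCharacter (Subgroup.zpowers g),
      Cfsg.classInner (fun w : Subgroup.zpowers g => χ (w : G)) (φ : Subgroup.zpowers g → ℂ) *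
        (φ : Subgroup.zpowers g → ℂ) y := fun y => by
    have h := congrFun (IsClassFunction.eq_sum_irr (IsCharacter.isClassFunction hres)) y
    simpa only [Finset.sum_apply, Pi.smul_apply, smul_eq_mul] using h
  set y₀ : Subgroup.zpowers g := ⟨g, Subgroup.mem_zpowers g⟩ with hy₀
  have hy : χ (g ^ j) = σ (χ g) := by
    rw [show g ^ j = ((y₀ ^ j : Subgroup.zpowers g) : G) from rfl, hexp,
      show χ g = χ (y₀ : G) from rfl, hexp y₀, map_sum]
    refine Finset.sum_congr rfl fun φ _ => ?_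
    obtain ⟨k, hk⟩ := IsCharacter.classInner_nat hres (IsIrrCharacter.isCharacter φ.2)
    obtain ⟨l, hl⟩ := exists_hom_of_apply_one_eq_one (IsIrrCharacter.isCharacter φ.2)
      (apply_one_eq_one_of_comm hcomm φ.2)
    rw [hk, map_mul, map_natCast, hl, hσr _ ?_]
    · congr 1
      show ((l (y₀ ^ j) : ℂˣ) : ℂ) = _
      rw [map_pow, Units.val_pow_eq_pow_val]
    · rw [← Units.val_pow_eq_pow_val, ← map_pow,
        show y₀ ^ n = 1 from Subtype.ext (pow_orderOf_eq_one g), map_one, Units.val_one]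
  rw [hy, hz, map_intCast]

end CfsgLib.Perm.ThricePrime
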