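import Cfsg.Agent.Lib.Perm.ThricePrime.Cases
import Cfsg.Agent.Lib.Perm.ThricePrime.RationalPow
import Cfsg.Agent.Lib.Char.DegPMinusTwo.Main
import Cfsg.Agent.Lib.Classical.SL2Sylow
import Mathlib.GroupTheory.GroupAction.Primitive

/-!
# Degree thrice a prime: `θ` of degree `p - 1` does not occur
-/

set_option autoImplicit false

open scoped Classical Pointwise

namespace CfsgLib.Perm.ThricePrime

open MulAction CfsgLib.Char CfsgLib.Char.InvertedPrime CfsgLib.Perm.PrimeDegreeDihedral

universe u

variable {α : Type u} [Fintype α] {G : Subgroup (Equiv.Perm α)} {p : ℕ} [Fact p.Prime]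
  {P : Sylow p G}

theorem sq_dvd_cases : ∀ o < 187, o * o ∣ 34749 → o = 1 ∨ o = 3 ∨ o = 9 := by
  decide +kernel

theorem Setup.not_normal (S : Setup G p P) : ¬ (P : Subgroup G).Normal := fun h => by
  haveI := h
  have hg := Nat.le_of_dvd Nat.card_pos S.dvd_card
  have hP := S.card_P
  have := S.hp
  rcases S.normal_bot_or_top (P : Subgroup G) with e | e
  · rw [e, Subgroup.card_bot] at hP; omega
  · rw [e, Subgroup.card_top] at hP; omega

theorem Setup.center_eq_bot (S : Setup G p P) : Subgroup.center G = ⊥ :=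
  (S.normal_bot_or_top _).resolve_right fun e => S.ncomm
    ⟨⟨fun a b => (Subgroup.mem_center_iff.1 (e ▸ Subgroup.mem_top a) b).symm⟩⟩

theorem Setup.coatom (S : Setup G p P) (hprim : IsPreprimitive G α) (a : α) :
    IsCoatom (stabilizer G a) := by
  haveI := S.trans
  haveI : Nontrivial α := Fintype.one_lt_card_iff_nontrivial.1 (by rw [S.hα]; have := S.hp; omega)
  exact (isCoatom_stabilizer_iff_preprimitive G a).2 hprim

theorem Setup.card_stab (S : Setup G p P) (a : α) :
    Nat.card (stabilizer G a) * (3 * p) = Nat.card G := by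
  haveI := S.trans
  rw [← S.hα, ← Nat.card_eq_fintype_card, ← MulAction.index_stabilizer_of_transitive (G := G) a,
    Subgroup.card_mul_index]

/-- A normal Sylow subgroup is impossible inside a proper overgroup. -/
theorem Setup.sylow_normalizer_ne_top (S : Setup G p P) {r : ℕ} [Fact r.Prime] (U : Sylow r G)
    (hU : (U : Subgroup G) ≠ ⊥) (hU' : Nat.card U < Nat.card G) :
    Subgroup.normalizer ((U : Subgroup G) : Set G) ≠ ⊤ := fun e => by
  haveI := Subgroup.normalizer_eq_top_iff.1 e
  rcases S.normal_bot_or_top (U : Subgroup G) with h | h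
  · exact hU h
  · have h1 : Nat.card U = Nat.card (⊤ : Subgroup G) := by
      show Nat.card (U : Subgroup G) = _
      rw [h]
    rw [Subgroup.card_top] at h1
    omega

theorem Setup.card_involutions (S : Setup G p P) {t : G} (ht : orderOf t = 2)
    (hone : ∀ y : G, orderOf y = 2 → IsConj y t) :
    Nat.card {y : G // orderOf y = 2} * Nat.card (Subgroup.centralizer ({t} : Set G)) =
      Nat.card G := by
  set C := Subgroup.centralizer ({t} : Set G) with hC
  have hf : ∀ k : G, orderOf (k * t * k⁻¹) = 2 := fun k => by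
    rw [← MulAut.conj_apply, MulEquiv.orderOf_eq, ht]
  have hwd : ∀ k k' : G, k⁻¹ * k' ∈ C → k * t * k⁻¹ = k' * t * k'⁻¹ := fun k k' h => by
    have h1 := Subgroup.mem_centralizer_singleton_iff.1 h
    calc k * t * k⁻¹ = k * (t * (k⁻¹ * k')) * k'⁻¹ := by group
      _ = k * ((k⁻¹ * k') * t) * k'⁻¹ := by rw [h1]
      _ = _ := by group
  let f : G ⧸ C → {y : G // orderOf y = 2} := Quotient.lift (fun k => ⟨k * t * k⁻¹, hf k⟩)
    fun k k' h => Subtype.ext (hwd k k' (QuotientGroup.leftRel_apply.1 h))
  have hbij : Function.Bijective f := by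
    constructor
    · intro X Y h
      induction X using QuotientGroup.induction_on with
      | H x =>
      induction Y using QuotientGroup.induction_on with
      | H y =>
      have h' : x * t * x⁻¹ = y * t * y⁻¹ := congrArg Subtype.val h
      refine QuotientGroup.eq.2 (Subgroup.mem_centralizer_singleton_iff.2 ?_)
      calc x⁻¹ * y * t = x⁻¹ * (y * t * y⁻¹) * y := by group
        _ = x⁻¹ * (x * t * x⁻¹) * y := by rw [h']
        _ = t * (x⁻¹ * y) := by group
    · rintro ⟨y, hy⟩
      obtain ⟨k, hk⟩ := isConj_iff.1 (hone y hy).symm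
      exact ⟨QuotientGroup.mk k, Subtype.ext hk⟩
  rw [← Nat.card_congr (Equiv.ofBijective f hbij), ← Subgroup.card_eq_card_quotient_mul_card_subgroup]

variable {θ : Cfsg.IrrCharacter G} {tz : G → ℤ} {n : ℕ}

theorem Theta.value_one (S : Setup G p P) (hT : Theta P θ tz n) (hn : n = 1) {t : G}
    (ht : t ∈ Subgroup.normalizer ((P : Subgroup G) : Set G)) (htP : t ∉ (P : Subgroup G)) :
    tz t = 0 := by
  obtain ⟨h1, h2, -⟩ := hT.value_t S ht htP
  subst hn
  omega

theorem Theta.false_of_one_large (S : Setup G p P) (hprim : IsPreprimitive G α)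
    (hT : Theta P θ tz n) (hn : n = 1) (hp7 : 7 ≤ p) : False := by
  haveI : Fact (Nat.Prime 2) := ⟨Nat.prime_two⟩
  obtain ⟨t, ht, htP, ht2⟩ := S.exists_t
  obtain ⟨lam, X, -, -, hX1, -⟩ := hT.exists_X S
  have hd : (X : G → ℂ) 1 = ((p - 2 : ℕ) : ℂ) := by
    rw [hX1, hT.deg, hn, Nat.cast_sub (by omega)]
    push_cast
    ring
  have hdeg : Cfsg.charDegree (X : G → ℂ) = p - 2 := by
    rw [Cfsg.charDegree, hd, Complex.natCast_re, Nat.floor_natCast]
  have hXne : X ≠ ⟨_, isIrrCharacter_one⟩ := fun e => by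
    rw [e] at hd
    change (1 : ℂ) = _ at hd
    have : 1 = p - 2 := by exact_mod_cast hd
    omega
  obtain ⟨m, F, iF, iFt, hpm, hFc, ⟨e₀⟩⟩ := CfsgLib.Char.DegPMinusTwo.classification (G := G)
    (by omega) P S.card_P S.not_normal (X : G → ℂ) X.2 (fun g hg => S.apply_eq_one hXne hg) hdeg
  haveI : Unique (Subgroup.center G) := by
    rw [S.center_eq_bot]; exact inferInstance
  let e : G ≃* Matrix.SpecialLinearGroup (Fin 2) F := e₀.trans MulEquiv.prodUnique
  haveI : CharP F 2 := charP_of_card_eq_prime_pow (f := m) hFc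
  set q := 2 ^ m with hq
  have hg : Nat.card G = q * (q ^ 2 - 1) := by
    rw [Nat.card_congr e.toEquiv, CfsgLib.Classical.card_sl2 hFc]
  have hq6 : 6 ≤ q := by omega
  -- the centralizer of an involution
  set c := Nat.card (Subgroup.centralizer ({t} : Set G)) with hc
  have hcq : c = q := by
    have h := hT.formula_t S ht htP
    rw [hT.value_one S hn ht htP, hT.deg, hn, sub_zero, hg, ← hc] at h
    have hqz : (((q ^ 2 - 1 : ℕ)) : ℤ) = (q : ℤ) ^ 2 - 1 := by
      rw [Nat.cast_sub (by nlinarith)]; push_cast; ring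
    have hpz : (p : ℤ) = q + 1 := by exact_mod_cast hpm
    rw [Nat.cast_mul, hqz, hpz] at h
    have hk : ((q : ℤ) + 1) * ((q : ℤ) * ((q : ℤ) - 1)) ≠ 0 := by
      refine mul_ne_zero (by positivity) (mul_ne_zero (by positivity) ?_)
      omega
    have h2 : (q : ℤ) ^ 2 = (c : ℤ) ^ 2 := mul_left_cancel₀ hk (by
      push_cast at h
      linear_combination h)
    have h3 : q ^ 2 = c ^ 2 := by exact_mod_cast h2
    exact (Nat.pow_left_injective (by norm_num) h3).symm
  -- the Sylow subgroups
  have hUc : ∀ U : Sylow 2 G, Nat.card U = q := fun U => by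
    rw [U.card_eq_multiplicity, Nat.card_congr e.toEquiv, CfsgLib.Classical.sl2_ordProj 2, hFc]
  have hUel : ∀ U : Sylow 2 G, ∀ x ∈ (U : Subgroup G), ∀ y ∈ (U : Subgroup G),
      x * y = y * x ∧ x * x = 1 := by
    intro U x hx y hy
    obtain ⟨k, hk⟩ := CfsgLib.Classical.sylowSL2_exists_conj
      (U.mapSurjective (f := e.toMonoidHom) e.surjective)
    have hmem : ∀ w ∈ (U : Subgroup G), ∃ c : Multiplicative F,
        e w = k * CfsgLib.Classical.uSL c * k⁻¹ := by
      intro w hw
      have h1 : e w ∈ MulAut.conj k • CfsgLib.Classical.unipSL F := hk ▸ ⟨w, hw, rfl⟩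
      obtain ⟨v, ⟨c, rfl⟩, hv⟩ := h1
      exact ⟨c, hv.symm⟩
    obtain ⟨c, hcx⟩ := hmem x hx
    obtain ⟨d, hdy⟩ := hmem y hy
    refine ⟨e.injective ?_, e.injective ?_⟩
    · rw [map_mul, map_mul, hcx, hdy]
      calc k * CfsgLib.Classical.uSL c * k⁻¹ * (k * CfsgLib.Classical.uSL d * k⁻¹)
          = k * (CfsgLib.Classical.uSL (c * d)) * k⁻¹ := by rw [map_mul]; group
        _ = _ := by rw [mul_comm c d, map_mul]; group
    · rw [map_mul, map_one, hcx]
      calc k * CfsgLib.Classical.uSL c * k⁻¹ * (k * CfsgLib.Classical.uSL c * k⁻¹)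
          = k * (CfsgLib.Classical.uSL (c * c)) * k⁻¹ := by rw [map_mul]; group
        _ = 1 := by
          have hcc : c * c = 1 := CharTwo.add_self_eq_zero (Multiplicative.toAdd c)
          rw [hcc, map_one, mul_one, mul_inv_cancel]
  have hone : ∀ y : G, orderOf y = 2 → IsConj y t := fun y hy => hT.one_class S ht htP hy
  have hcent : ∀ U : Sylow 2 G, ∀ y ∈ (U : Subgroup G), y ≠ 1 →
      orderOf y = 2 ∧ (U : Subgroup G) = Subgroup.centralizer {y} := by
    intro U y hy hy1
    have ho : orderOf y = 2 := orderOf_eq_prime (by rw [sq]; exact (hUel U y hy y hy).2) hy1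
    refine ⟨ho, Subgroup.eq_of_le_of_card_ge
      (fun x hx => Subgroup.mem_centralizer_singleton_iff.2 (hUel U x hx y hy).1) ?_⟩
    obtain ⟨k, hk⟩ := isConj_iff.1 (hone y ho)
    have hcy : Nat.card (Subgroup.centralizer ({y} : Set G)) ≤ c := by
      rw [hc, ← hk]
      refine Nat.card_le_card_of_injective (fun x => ⟨k * (x : G) * k⁻¹, ?_⟩) fun x x' h => ?_
      · refine Subgroup.mem_centralizer_singleton_iff.2 ?_
        have h1 := Subgroup.mem_centralizer_singleton_iff.1 x.2
        calc k * (x : G) * k⁻¹ * (k * y * k⁻¹) = k * ((x : G) * y) * k⁻¹ := by group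
          _ = k * (y * x) * k⁻¹ := by rw [h1]
          _ = _ := by group
      · exact Subtype.ext (by simpa using congrArg Subtype.val h)
    exact hcy.trans ((hcq.trans (hUc U).symm).le)
  -- few Sylow subgroups
  have hfew : Nat.card (Sylow 2 G) * (q - 1) ≤ q ^ 2 - 1 := by
    have hI := S.card_involutions ht2 hone
    rw [hg, ← hc, hcq, mul_comm q (q ^ 2 - 1)] at hI
    rw [← Nat.eq_of_mul_eq_mul_right (by omega) hI]
    haveI := Fintype.ofFinite (Sylow 2 G)
    have hsum : Nat.card (Σ U : Sylow 2 G, {x : G // x ∈ (U : Subgroup G) ∧ x ≠ 1}) =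
        Nat.card (Sylow 2 G) * (q - 1) := by
      rw [Nat.card_sigma, Finset.sum_congr rfl fun U _ => ?_, Finset.sum_const, Finset.card_univ,
        smul_eq_mul, Nat.card_eq_fintype_card]
      rw [Nat.card_eq_fintype_card, Fintype.card_subtype,
        show (Finset.univ.filter fun x : G => x ∈ (U : Subgroup G) ∧ x ≠ 1) =
          (Finset.univ.filter fun x : G => x ∈ (U : Subgroup G)).erase 1 by ext x; simp [and_comm],
        Finset.card_erase_of_mem (by simp [one_mem]), ← Fintype.card_subtype,
        ← Nat.card_eq_fintype_card]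
      exact congrArg (fun k => k - 1) (hUc U)
    rw [← hsum]
    refine Nat.card_le_card_of_injective (fun x => (⟨x.2.1, (hcent x.1 _ x.2.2.1 x.2.2.2).1⟩ :
      {y : G // orderOf y = 2})) ?_
    rintro ⟨U, x, hx, hx1⟩ ⟨V, y, hy, hy1⟩ h
    have hxy : x = y := congrArg Subtype.val h
    subst hxy
    have hUV : U = V := Sylow.ext ((hcent U x hx hx1).2.trans (hcent V x hy hy1).2.symm)
    subst hUV
    rfl
  -- a point stabiliser
  haveI := S.trans
  obtain ⟨a⟩ := S.nonempty
  set A := stabilizer G a with hA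
  have hAc := S.card_stab a
  rw [← hA, hg, hpm] at hAc
  have hqA : q ∣ Nat.card A := by
    have hcop : Nat.Coprime q (3 * (q + 1)) := by
      refine Nat.Coprime.mul_right ?_ (Nat.coprime_self_add_right.2 (Nat.coprime_one_right q))
      exact (Nat.coprime_two_left.2 (by decide)).pow_left m
    exact hcop.dvd_of_dvd_mul_right (hAc ▸ dvd_mul_right q _)
  obtain ⟨R, hR⟩ := Sylow.exists_subgroup_card_pow_prime 2 (hq ▸ hqA)
  let U : Sylow 2 G := Sylow.ofCard (R.map A.subtype) (by
    rw [Subgroup.card_subtype, hR, Nat.card_congr e.toEquiv, CfsgLib.Classical.sl2_ordProj 2, hFc])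
  have hUA : (U : Subgroup G) ≤ A := Subgroup.map_subtype_le _
  have hAtop : A ≠ ⊤ := (S.coatom hprim a).1
  have huniq : ∀ V : Sylow 2 G, (V : Subgroup G) ≤ A → V = U := by
    intro V hV
    by_contra hne
    refine hAtop (eq_top_iff.2 ?_)
    have hne' : V.mapSurjective (f := e.toMonoidHom) e.surjective ≠
        U.mapSurjective (f := e.toMonoidHom) e.surjective := fun h => hne (Sylow.ext
      (Subgroup.map_injective (f := e.toMonoidHom) e.injective
        (show (V : Subgroup G).map e.toMonoidHom = (U : Subgroup G).map e.toMonoidHom from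
          congrArg (fun Z : Sylow 2 (Matrix.SpecialLinearGroup (Fin 2) F) =>
            (Z : Subgroup (Matrix.SpecialLinearGroup (Fin 2) F))) h)))
    have h := CfsgLib.Classical.sylowSL2_sup_eq_top (F := F) _ _ hne'
    change (V : Subgroup G).map e.toMonoidHom ⊔ (U : Subgroup G).map e.toMonoidHom = ⊤ at h
    rw [← Subgroup.map_sup] at h
    intro g _
    obtain ⟨g', hg', hge⟩ : e g ∈ ((V : Subgroup G) ⊔ (U : Subgroup G)).map e.toMonoidHom := by
      rw [h]; trivial
    exact (sup_le hV hUA) (e.injective hge ▸ hg')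
  have hAN : A ≤ Subgroup.normalizer ((U : Subgroup G) : Set G) := by
    intro g hg
    have h := huniq (g • U) (by
      rw [Sylow.coe_subgroup_smul]
      rintro x ⟨w, hw, rfl⟩
      exact A.mul_mem (A.mul_mem hg (hUA hw)) (A.inv_mem hg))
    exact Sylow.smul_eq_iff_mem_normalizer.1 h
  have hUne : (U : Subgroup G) ≠ ⊥ := fun h => by
    have h1 := hUc U
    rw [h, Subgroup.card_bot] at h1
    omega
  have hUlt : Nat.card U < Nat.card G := by
    rw [hUc U, hg]
    have : 2 ≤ q ^ 2 - 1 := by
      have : 6 * 6 ≤ q * q := Nat.mul_le_mul hq6 hq6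
      rw [sq]; omega
    nlinarith
  have hNA : Subgroup.normalizer ((U : Subgroup G) : Set G) = A := by
    rcases eq_or_lt_of_le hAN with h | h
    · exact h.symm
    · exact absurd ((S.coatom hprim a).2 _ h) (S.sylow_normalizer_ne_top U hUne hUlt)
  rw [U.card_eq_index_normalizer,
    show Subgroup.normalizer (U : Set G) = A from hNA, hA, MulAction.index_stabilizer_of_transitive,
    Nat.card_eq_fintype_card, S.hα, hpm] at hfew
  have h1 : (q + 1) * (q - 1) = q ^ 2 - 1 := by
    rw [show q ^ 2 - 1 = q ^ 2 - 1 ^ 2 by rw [one_pow], Nat.sq_sub_sq]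
  have h2 : 0 < (q + 1) * (q - 1) := Nat.mul_pos (by omega) (by omega)
  rw [← h1, mul_assoc] at hfew
  omega

theorem Theta.false_of_one_five (S : Setup G p P) (hprim : IsPreprimitive G α)
    (hT : Theta P θ tz n) (hn : n = 1) (hp5 : p = 5) : False := by
  haveI : Fact (Nat.Prime 2) := ⟨Nat.prime_two⟩
  haveI : Fact (Nat.Prime 3) := ⟨Nat.prime_three⟩
  obtain ⟨t, ht, htP, ht2⟩ := S.exists_t
  have hone : ∀ y : G, orderOf y = 2 → IsConj y t := fun y hy => hT.one_class S ht htP hy
  set c := Nat.card (Subgroup.centralizer ({t} : Set G)) with hc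
  have hf : 4 * Nat.card G = 15 * c ^ 2 := by
    have h := hT.formula_t S ht htP
    rw [hT.value_one S hn ht htP, hT.deg, hn, hp5, ← hc] at h
    have : ((4 * Nat.card G : ℕ) : ℤ) = ((15 * c ^ 2 : ℕ) : ℤ) := by
      push_cast at h ⊢
      linarith
    exact_mod_cast this
  have hv : c.factorization 2 = (Nat.card G).factorization 2 := S.fact_centralizer ht2 hone
  have hc0 : c ≠ 0 := Nat.card_pos.ne'
  obtain ⟨o, ho, hgo⟩ : ∃ o, Odd o ∧ Nat.card G = 60 * o ^ 2 := by
    have h := congrArg (fun k => k.factorization 2) hf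
    simp only [show (4 : ℕ) = 2 ^ 2 from rfl, Nat.factorization_mul (pow_ne_zero 2 two_ne_zero)
        Nat.card_pos.ne', Nat.factorization_mul (show (15 : ℕ) ≠ 0 by norm_num) (pow_ne_zero 2 hc0),
      Nat.factorization_pow, Finsupp.add_apply, Finsupp.smul_apply, smul_eq_mul,
      Nat.prime_two.factorization_self,
      Nat.factorization_eq_zero_of_not_dvd (show ¬ 2 ∣ 15 by norm_num)] at h
    rw [← hv] at h
    have hc2 : c.factorization 2 = 2 := by omega
    obtain ⟨o, ho⟩ : 4 ∣ c := by
      have h4 := (Nat.prime_two.pow_dvd_iff_le_factorization hc0).2 hc2.ge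
      simpa using h4
    refine ⟨o, Nat.not_even_iff_odd.1 fun he => ?_, ?_⟩
    · obtain ⟨i, hi⟩ := he
      have h8 : 2 ^ 3 ∣ c := ⟨i, by rw [ho, hi]; ring⟩
      have := (Nat.prime_two.pow_dvd_iff_le_factorization hc0).1 h8
      omega
    · rw [ho] at hf
      have : 4 * Nat.card G = 4 * (60 * o ^ 2) := by rw [hf]; ring
      omega
  have hemb : Nat.card G ∣ Nat.factorial 15 := by
    have h := Subgroup.card_subgroup_dvd_card G
    rwa [Nat.card_eq_fintype_card (α := Equiv.Perm α), Fintype.card_perm, S.hα, hp5] at h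
  -- no element of order seven
  have h7 : ¬ 7 ∣ Nat.card G := by
    intro h7
    haveI : Fact (Nat.Prime 7) := ⟨by norm_num⟩
    obtain ⟨y, hy⟩ := exists_prime_orderOf_dvd_card' 7 h7
    have hy1 : y ≠ 1 := fun e => by rw [e, orderOf_one] at hy; omega
    set Z := Subgroup.zpowers y
    haveI : Fintype Z := Fintype.ofFinite _
    have hZc : Nat.card Z = 7 := by rw [Nat.card_zpowers, hy]
    have hval : ∀ w : Z, tz (w : G) = if w = 1 then 4 else tz y := by
      intro w
      by_cases hw : w = 1
      · rw [if_pos hw, hw, show ((1 : Z) : G) = 1 from rfl, hT.deg, hn, hp5]; norm_num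
      · rw [if_neg hw]
        obtain ⟨j, hj⟩ := (mem_powers_iff_mem_zpowers (x := y)).2 w.2
        have hjc : j.Coprime (orderOf y) := by
          rw [hy]
          refine ((Nat.Prime.coprime_iff_not_dvd (by norm_num)).2 fun hd => hw (Subtype.ext ?_)).symm
          obtain ⟨i, rfl⟩ := hd
          rw [← hj]
          show y ^ (7 * i) = 1
          rw [pow_mul, ← hy, pow_orderOf_eq_one, one_pow]
        have h := apply_pow_of_int (isCharacter_irr θ) (hT.val y) hjc
        rw [show y ^ j = (w : G) from hj, hT.val] at h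
        exact_mod_cast h
    obtain ⟨i, hi⟩ := IsCharacter.classInner_nat (IsCharacter.restrict (isCharacter_irr θ) Z)
      (isCharacter_one (G := Z))
    obtain ⟨lam, hlam⟩ : ∃ lam : Z →* ℂˣ, lam ≠ 1 := by
      haveI : Finite (Z →* ℂˣ) := Finite.of_equiv _ (homEquivLinear (G := Z)).symm
      by_contra hno
      push Not at hno
      haveI : IsCyclic Z := isCyclic_of_prime_card hZc
      letI : CommGroup Z := IsCyclic.commGroup
      obtain ⟨φ, hφ⟩ := CommGroup.exists_apply_ne_one_of_hasEnoughRootsOfUnity Z ℂ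
        (a := (⟨y, Subgroup.mem_zpowers y⟩ : Z)) fun e => hy1 (congrArg Subtype.val e)
      rw [hno φ] at hφ
      exact hφ rfl
    obtain ⟨j, hj⟩ := IsCharacter.classInner_nat (IsCharacter.restrict (isCharacter_irr θ) Z)
      (isCharacter_hom lam)
    have hlsum : ∑ w : Z, (lam w : ℂ) = 0 := by
      obtain ⟨w₀, hw₀⟩ : ∃ w₀, lam w₀ ≠ 1 := by
        by_contra hall
        push Not at hall
        exact hlam (MonoidHom.ext hall)
      refine (mul_left_eq_self₀.1 ?_).resolve_left (fun e => hw₀ (Units.ext e))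
      rw [Finset.mul_sum]
      exact Fintype.sum_equiv (Equiv.mulLeft w₀) _ _ fun w => by simp
    have hlsum' : ∑ w : Z, (starRingEnd ℂ) (lam w : ℂ) = 0 := by rw [← map_sum, hlsum, map_zero]
    have e : ∀ w : Z, (θ : G → ℂ) (w : G) =
        (tz y : ℂ) + if w = 1 then (4 : ℂ) - tz y else 0 := fun w => by
      rw [hT.val, hval]
      split_ifs <;> push_cast <;> ring
    simp only [Cfsg.classInner, hZc, e, map_one, mul_one, add_mul, ite_mul, zero_mul,
      Finset.sum_add_distrib, Finset.sum_ite_eq', Finset.mem_univ, if_true, Finset.sum_const,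
      Finset.card_univ, ← Nat.card_eq_fintype_card, ← Finset.mul_sum, hlsum', mul_zero, zero_add,
      Units.val_one, nsmul_eq_mul] at hi hj
    rw [inv_mul_eq_iff_eq_mul₀ (by norm_num)] at hi hj
    have hi' : (7 : ℤ) * tz y + (4 - tz y) = 7 * i := by
      have : (((7 : ℤ) * tz y + (4 - tz y) : ℤ) : ℂ) = (((7 : ℤ) * i : ℤ) : ℂ) := by
        push_cast at hi ⊢
        linear_combination hi
      exact_mod_cast this
    have hj' : (4 : ℤ) - tz y = 7 * j := by
      have : (((4 : ℤ) - tz y : ℤ) : ℂ) = (((7 : ℤ) * j : ℤ) : ℂ) := by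
        push_cast at hj ⊢
        linear_combination hj
      exact_mod_cast this
    have hz : tz y = tz 1 := by
      rw [hT.deg, hn, hp5]
      push_cast
      omega
    exact hy1 (S.apply_eq_one (hT.ne_one S) (by rw [hT.val, hT.val, hz]))
  -- the possible orders
  have ho7 : ¬ 7 ∣ o := fun h => h7 (hgo ▸ dvd_mul_of_dvd_right (dvd_pow h two_ne_zero) 60)
  have ho5 : ¬ 5 ∣ o := fun h => by
    have h25 : 5 ^ 2 ∣ Nat.card G := hgo ▸ dvd_mul_of_dvd_right (pow_dvd_pow_of_dvd h 2) 60
    have h1 := ((Fact.out : p.Prime).pow_dvd_iff_le_factorization Nat.card_pos.ne').1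
      (show p ^ 2 ∣ Nat.card G by rw [hp5]; exact h25)
    have h2 := P.card_eq_multiplicity
    rw [show Nat.card P = p from S.card_P] at h2
    have h3 : p ^ 1 = p ^ (Nat.card G).factorization p := by rw [pow_one]; exact h2
    have := Nat.pow_right_injective (Fact.out : p.Prime).two_le h3
    omega
  have hod : o ^ 2 ∣ 34749 := by
    have h1 : 60 * o ^ 2 ∣ 60 * 21794572800 :=
      hgo ▸ hemb.trans (dvd_of_eq (by norm_num [Nat.factorial]))
    have h2 := Nat.dvd_of_mul_dvd_mul_left (by norm_num) h1
    rw [show (21794572800 : ℕ) = 2 ^ 9 * 5 ^ 2 * 7 ^ 2 * 34749 by norm_num] at h2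
    refine Nat.Coprime.dvd_of_dvd_mul_left (Nat.Coprime.pow_left 2 ?_) h2
    refine Nat.Coprime.mul_right (Nat.Coprime.mul_right ?_ ?_) ?_
    · exact (Nat.coprime_two_right.2 ho).pow_right 9
    · exact (((Nat.Prime.coprime_iff_not_dvd (by norm_num)).2 ho5).symm).pow_right 2
    · exact (((Nat.Prime.coprime_iff_not_dvd (by norm_num)).2 ho7).symm).pow_right 2
  have hob : o < 187 := by
    by_contra h
    have : 187 ^ 2 ≤ o ^ 2 := Nat.pow_le_pow_left (by omega) 2
    have := Nat.le_of_dvd (by norm_num) hod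
    omega
  have hcases : o = 1 ∨ o = 3 ∨ o = 9 := sq_dvd_cases o hob (by rwa [← sq])
  rcases hcases with rfl | rfl | rfl
  · -- order 60: a point stabilizer is a Sylow subgroup
    haveI := S.trans
    obtain ⟨a⟩ := S.nonempty
    set A := stabilizer G a with hA
    have hAc : Nat.card A = 4 := by
      have := S.card_stab a
      rw [← hA, hgo, hp5] at this
      omega
    let U : Sylow 2 G := Sylow.ofCard A (by
      rw [hAc, hgo]
      simp only [one_pow, mul_one]
      rw [show (60 : ℕ) = 2 ^ 2 * 15 by norm_num, Nat.factorization_mul (by norm_num) (by norm_num),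
        Finsupp.add_apply, Nat.prime_two.factorization_pow,
        Nat.factorization_eq_zero_of_not_dvd (show ¬ 2 ∣ 15 by norm_num)]
      simp)
    have hUA : (U : Subgroup G) = A := rfl
    have hUne : (U : Subgroup G) ≠ ⊥ := fun h => by
      rw [← hUA, h, Subgroup.card_bot] at hAc
      omega
    have hUlt : Nat.card U < Nat.card G := by
      show Nat.card A < _
      rw [hAc, hgo]; norm_num
    have hcommA : ∀ x y : A, x * y = y * x :=
      IsPGroup.commutative_of_card_eq_prime_sq (p := 2) (by rw [hAc]; norm_num)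
    have hle : Subgroup.normalizer ((U : Subgroup G) : Set G) ≤
        Subgroup.centralizer ((U : Subgroup G) : Set G) := by
      have hN : Subgroup.normalizer ((U : Subgroup G) : Set G) = A := by
        rcases eq_or_lt_of_le (show A ≤ Subgroup.normalizer ((U : Subgroup G) : Set G) from
          Subgroup.le_normalizer) with h | h
        · exact h.symm
        · exact absurd ((S.coatom hprim a).2 _ h) (S.sylow_normalizer_ne_top U hUne hUlt)
      rw [hN]
      exact fun x hx => Subgroup.mem_centralizer_iff.2 fun y hy =>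
        congrArg Subtype.val (hcommA ⟨y, hy⟩ ⟨x, hx⟩)
    have hK := (MonoidHom.ker_transferSylow_isComplement' U hle).card_mul
    rcases S.normal_bot_or_top (MonoidHom.transferSylow U hle).ker with h | h
    · rw [h, Subgroup.card_bot, one_mul] at hK
      omega
    · rw [h, Subgroup.card_top] at hK
      have := hAc
      rw [show Nat.card U = 4 from hAc] at hK
      have := Nat.card_pos (α := G)
      omega
  · -- order 540
    have h1 := card_sylow_modEq_one p G
    rw [P.card_eq_index_normalizer] at h1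
    have h2 := (Subgroup.normalizer ((P : Subgroup G) : Set G)).card_mul_index
    rw [S.hN, hgo] at h2
    generalize hI : (Subgroup.normalizer ((P : Subgroup G) : Set G)).index = I at h1 h2
    subst hp5
    have h3 : I = 54 := by omega
    rw [h3] at h1
    simp [Nat.ModEq] at h1
  · -- order 4860
    obtain ⟨U⟩ : Nonempty (Sylow 3 G) := inferInstance
    have hUc : Nat.card U = 243 := by
      rw [U.card_eq_multiplicity, hgo, show (60 * 9 ^ 2 : ℕ) = 3 ^ 5 * 20 by norm_num,
        Nat.factorization_mul (by norm_num) (by norm_num), Finsupp.add_apply,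
        Nat.prime_three.factorization_pow, Nat.factorization_eq_zero_of_not_dvd (show ¬ 3 ∣ 20 by norm_num)]
      simp
    set k := Nat.card (Sylow 3 G) with hk
    have hk20 : k ∣ 20 := by
      have h1 := U.card_dvd_index
      have h2 := (U : Subgroup G).card_mul_index
      rw [show Nat.card (U : Subgroup G) = 243 from hUc, hgo] at h2
      have h3 : (U : Subgroup G).index = 20 := by omega
      rwa [h3] at h1
    have hk3 : k % 3 = 1 := by
      have h := card_sylow_modEq_one 3 G
      rw [← hk] at h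
      exact h
    have hk10 : k ≤ 10 := by
      have := Nat.le_of_dvd (by norm_num) hk20
      interval_cases k <;> omega
    let φ : G →* Equiv.Perm (Sylow 3 G) := MulAction.toPermHom G (Sylow 3 G)
    rcases S.normal_bot_or_top φ.ker with h | h
    · have hinj := φ.ker_eq_bot_iff.1 h
      have hd : Nat.card G ∣ Nat.card (Equiv.Perm (Sylow 3 G)) := Subgroup.card_dvd_of_injective φ hinj
      haveI := Fintype.ofFinite (Sylow 3 G)
      rw [Nat.card_eq_fintype_card (α := Equiv.Perm _), Fintype.card_perm, ← Nat.card_eq_fintype_card,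
        ← hk, hgo] at hd
      have h1 : 243 ∣ Nat.factorial 10 :=
        ((Dvd.dvd.trans (dvd_mul_right 243 20) (show 243 * 20 ∣ Nat.factorial k from hd)).trans
          (Nat.factorial_dvd_factorial hk10))
      norm_num [Nat.factorial] at h1
    · have hn : Subgroup.normalizer ((U : Subgroup G) : Set G) = ⊤ := by
        refine eq_top_iff.2 fun g _ => ?_
        have hg : φ g = 1 := MonoidHom.mem_ker.1 (h ▸ Subgroup.mem_top g)
        exact Sylow.smul_eq_iff_mem_normalizer.1 (congrArg (fun σ : Equiv.Perm _ => σ U) hg)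
      refine S.sylow_normalizer_ne_top U (fun e => ?_) ?_ hn
      · rw [show Nat.card U = Nat.card (U : Subgroup G) from rfl, e, Subgroup.card_bot] at hUc
        omega
      · rw [hUc, hgo]; norm_num

theorem Theta.ne_one_deg (S : Setup G p P) (hprim : IsPreprimitive G α) (hT : Theta P θ tz n) :
    n ≠ 1 := by
  intro hn
  rcases Nat.lt_or_ge p 7 with h | h
  · refine hT.false_of_one_five S hprim hn ?_
    have := S.five_le
    have := S.odd_p
    omega
  · exact hT.false_of_one_large S hprim hn h

end CfsgLib.Perm.ThricePrime
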