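import Cfsg.Agent.Lib.Perm.ThricePrime.Eight
import Cfsg.Agent.Lib.Involution.DihedralSylowFusion
import Cfsg.Agent.Lib.Involution.TwoGroupLifts
import Cfsg.Agent.Lib.Blocks.SectionSums

/-!
# Degree thrice a prime: the sections of the elements of the Sylow two-subgroup
-/

set_option autoImplicit false

open scoped Classical

namespace CfsgLib.Perm.ThricePrime

open MulAction CfsgLib.Char CfsgLib.Char.InvertedPrime CfsgLib.Perm.PrimeDegreeDihedral

universe u

variable {α : Type u} [Fintype α] {G : Subgroup (Equiv.Perm α)} {p : ℕ} [Fact p.Prime]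
  {P : Sylow p G}

variable {T : Sylow 2 G} {W : Subgroup G} {F : Finset α} {σ s : G} {a : α}

theorem Eight.orderOf_σ (E : Eight (p := p) T W F σ s a) : orderOf σ = 4 := E.gen.ord

theorem Eight.z_ne (E : Eight (p := p) T W F σ s a) : σ ^ 2 ≠ 1 := fun h => by
  have := orderOf_dvd_of_pow_eq_one h
  rw [E.orderOf_σ] at this
  omega

theorem Eight.orderOf_z (E : Eight (p := p) T W F σ s a) : orderOf (σ ^ 2) = 2 := by
  rw [orderOf_pow, E.orderOf_σ]
  rfl

theorem Eight.orderOf_s (E : Eight (p := p) T W F σ s a) : orderOf s = 2 :=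
  orderOf_eq_prime (by rw [sq]; exact E.gen.bb) fun e => E.sW (e ▸ W.one_mem)

theorem Eight.s_mem (E : Eight (p := p) T W F σ s a) : s ∈ (T : Subgroup G) := E.gen.bmem

theorem Eight.z_comm (E : Eight (p := p) T W F σ s a) {x : G} (hx : x ∈ (T : Subgroup G)) :
    Commute (σ ^ 2) x := by
  have h := CfsgLib.Involution.DihedralSylow.z_comm E.gen x hx
  rwa [show σ ^ ((2 : ℤ) ^ 1) = σ ^ 2 by rw [pow_one]; exact zpow_natCast σ 2] at h

theorem Eight.npc (E : Eight (p := p) T W F σ s a) :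
    Cfsg.HasNormalPComplement 2 (Subgroup.centralizer ({σ ^ 2} : Set G)) := by
  have h := CfsgLib.Involution.DihedralSylow.npc_centralizer E.gen
  rwa [show σ ^ ((2 : ℤ) ^ 1) = σ ^ 2 by rw [pow_one]; exact zpow_natCast σ 2] at h

theorem Eight.iso (E : Eight (p := p) T W F σ s a) :
    Nonempty ((T : Subgroup G) ≃* DihedralGroup (2 ^ (1 + 1))) := by
  have h := E.gen
  have hrN : σ ^ 2 ^ (1 + 1) = 1 := by rw [← h.ord]; exact pow_orderOf_eq_one σ
  set f := CfsgLib.Involution.TwoGroupLifts.dihedralHom (N := 2 ^ (1 + 1)) σ s hrN h.bb h.conj with hf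
  have hfi : Function.Injective f :=
    CfsgLib.Involution.TwoGroupLifts.dihedralHom_injective hrN h.bb h.conj h.ord h.nb
  have hr : f (DihedralGroup.r 1) = σ := by
    show CfsgLib.Involution.TwoGroupLifts.zp σ (1 : ZMod (2 ^ (1 + 1))) = σ
    rw [← Int.cast_one, CfsgLib.Involution.TwoGroupLifts.zp_intCast hrN, zpow_one]
  have hs : f (DihedralGroup.sr 0) = s := by
    show s * CfsgLib.Involution.TwoGroupLifts.zp σ (0 : ZMod (2 ^ (1 + 1))) = s
    rw [CfsgLib.Involution.TwoGroupLifts.zp_zero, mul_one]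
  have mσ : σ ∈ f.range := ⟨_, hr⟩
  have ms : s ∈ f.range := ⟨_, hs⟩
  have hrange : f.range = (T : Subgroup G) := by
    refine le_antisymm ?_ fun x hx => ?_
    · rintro _ ⟨d, rfl⟩
      rcases d with i | i
      · exact Subgroup.pow_mem _ h.amem _
      · exact mul_mem h.bmem (Subgroup.pow_mem _ h.amem _)
    · rcases h.cases x hx with ⟨i, rfl⟩ | ⟨i, rfl⟩
      · exact Subgroup.zpow_mem _ mσ i
      · exact mul_mem (Subgroup.zpow_mem _ mσ i) ms
  exact ⟨((MonoidHom.ofInjective hfi).trans (MulEquiv.subgroupCongr hrange)).symm⟩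

theorem Eight.mem_F_of_z (E : Eight (p := p) T W F σ s a) {x : α} (h : (σ ^ 2) • x = x) : x ∈ F :=
  E.ker.fix _ E.zW E.z_ne x h

theorem Eight.smul_z (E : Eight (p := p) T W F σ s a) {x : α} (h : x ∈ F) : (σ ^ 2) • x = x :=
  ((E.ker.mem _).1 E.zW).2 x h

theorem Eight.σ_eq (E : Eight (p := p) T W F σ s a) {x : α} (hx : x ∈ F) (h : σ • x = x) : x = a := by
  by_contra hne
  refine E.σW ((E.ker.mem σ).2 ⟨E.gen.amem, fun u hu => ?_⟩)
  have ha : σ • a = a := E.le_stab E.gen.amem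
  obtain ⟨w, hw⟩ : ∃ w, (F.erase a).erase x = {w} := Finset.card_eq_one.1 (by
    rw [Finset.card_erase_of_mem (Finset.mem_erase.2 ⟨hne, hx⟩), Finset.card_erase_of_mem E.aF,
      E.ker.card_F])
  by_cases hua : u = a
  · rw [hua, ha]
  by_cases hux : u = x
  · rw [hux, h]
  have huw : u = w := Finset.mem_singleton.1
    (hw ▸ Finset.mem_erase.2 ⟨hux, Finset.mem_erase.2 ⟨hua, hu⟩⟩)
  have h1 : σ • u ∈ ({w} : Finset α) := hw ▸ Finset.mem_erase.2
    ⟨fun e => hux (MulAction.injective σ (e.trans h.symm)),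
      Finset.mem_erase.2 ⟨fun e => hua (MulAction.injective σ (e.trans ha.symm)),
        E.ker.stable σ E.gen.amem u hu⟩⟩
  rw [Finset.mem_singleton.1 h1, huw]

theorem Eight.fix_σ (E : Eight (p := p) T W F σ s a) {y : G}
    (hy : Commute y σ) (hodd : ¬ 2 ∣ orderOf y) : fixNum (σ * y) = 1 := by
  have ha : σ • a = a := E.le_stab E.gen.amem
  have hstab : ∀ x ∈ F, y • x ∈ F := fun x hx => E.mem_F_of_z (by
    rw [← mul_smul, ← ((hy.pow_right 2).eq), mul_smul, E.smul_z hx])
  have hya : y • a = a := E.σ_eq (hstab a E.aF) (by rw [← mul_smul, ← hy.eq, mul_smul, ha])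
  have hyF : ∀ x ∈ F, y • x = x := by
    intro x hx
    by_cases hxa : x = a
    · rw [hxa, hya]
    have h1 : y • x ≠ a := fun e => hxa (MulAction.injective y (e.trans hya.symm))
    have h2 : y • y • x ≠ a := fun e => h1 (MulAction.injective y (e.trans hya.symm))
    have h3 : y • x = x ∨ y • y • x = x := by
      obtain ⟨w, hw⟩ : ∃ w, (F.erase a).erase x = {w} := Finset.card_eq_one.1 (by
        rw [Finset.card_erase_of_mem (Finset.mem_erase.2 ⟨hxa, hx⟩), Finset.card_erase_of_mem E.aF,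
          E.ker.card_F])
      by_contra hc
      rw [not_or] at hc
      have e1 : y • x ∈ ({w} : Finset α) := hw ▸ Finset.mem_erase.2
        ⟨hc.1, Finset.mem_erase.2 ⟨h1, hstab x hx⟩⟩
      have e2 : y • y • x ∈ ({w} : Finset α) := hw ▸ Finset.mem_erase.2
        ⟨hc.2, Finset.mem_erase.2 ⟨h2, hstab _ (hstab x hx)⟩⟩
      exact hc.1 (MulAction.injective y ((Finset.mem_singleton.1 e2).trans
        (Finset.mem_singleton.1 e1).symm))
    rcases h3 with h3 | h3
    · exact h3
    · obtain ⟨i, hi⟩ := Nat.odd_iff.2 (Nat.two_dvd_ne_zero.1 hodd)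
      have hsq : (y ^ 2) ^ i ∈ stabilizer G x := pow_mem (by
        rw [mem_stabilizer_iff, sq, mul_smul, h3]) i
      calc y • x = y • ((y ^ 2) ^ i • x) := by rw [show (y ^ 2) ^ i • x = x from hsq]
        _ = y ^ orderOf y • x := by rw [← mul_smul, ← pow_mul, ← pow_succ', hi]
        _ = x := by rw [pow_orderOf_eq_one, one_smul]
  rw [fixNum, Finset.card_eq_one]
  refine ⟨a, Finset.eq_singleton_iff_unique_mem.2 ⟨?_, fun x hx => ?_⟩⟩
  · simp [mul_smul, hya, ha]
  · simp only [Finset.mem_filter, Finset.mem_univ, true_and] at hx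
    obtain ⟨i, hi⟩ := Nat.odd_iff.2 (Nat.two_dvd_ne_zero.1 hodd)
    have hm : (σ * y) ^ (2 * orderOf y) = σ ^ 2 := by
      rw [hy.symm.mul_pow, mul_comm 2, pow_mul y, pow_orderOf_eq_one, one_pow, mul_one, hi,
        show (2 * i + 1) * 2 = 4 * i + 2 by ring, pow_add, pow_mul,
        show σ ^ 4 = 1 from E.orderOf_σ ▸ pow_orderOf_eq_one σ, one_pow, one_mul]
    have hxF : x ∈ F := E.mem_F_of_z (hm ▸ Subgroup.pow_mem (stabilizer G x) hx _)
    refine E.σ_eq hxF ?_
    rwa [mul_smul, hyF x hxF] at hx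

/-- An element of order divisible by four has order different from `p`. -/
theorem Eight.order_ne (E : Eight (p := p) T W F σ s a) (S : Setup G p P) {y : G} (hy : Commute y σ)
    (hodd : ¬ 2 ∣ orderOf y) : orderOf (σ * y) ≠ p := by
  intro h
  have hc : Nat.Coprime (orderOf σ) (orderOf y) := by
    rw [E.orderOf_σ]
    exact ((Nat.prime_two.coprime_iff_not_dvd).2 hodd).pow_left 2
  rw [hy.symm.orderOf_mul_eq_mul_orderOf_of_coprime hc, E.orderOf_σ] at h
  rcases Nat.Prime.eq_one_or_self_of_dvd (Fact.out : p.Prime) 4 ⟨orderOf y, h.symm⟩ with h' | h'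
  · omega
  · have h4 : p.Prime := Fact.out
    rw [← h'] at h4
    norm_num at h4

/-- A character that is a nonzero constant on the section of `σ` lies in the principal block. -/
theorem Eight.mem_principal (E : Eight (p := p) T W F σ s a) {M : Ideal Cfsg.AlgInt}
    (hM : Cfsg.IsPModular 2 M) {χ : Cfsg.IrrCharacter G} {k : ℂ} (hk : k ≠ 0)
    (h : ∀ y : G, Commute y σ → ¬ 2 ∣ orderOf y → (χ : G → ℂ) (σ * y) = k) :
    χ ∈ Cfsg.principalBlock M G := by
  haveI : Fact (Nat.Prime 2) := ⟨Nat.prime_two⟩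
  by_contra hχ
  have h0 := CfsgLib.Blocks.SectionSums.sum_section_eq_zero hM hχ (z := σ)
    ⟨2, by rw [E.orderOf_σ]; rfl⟩
  rw [Finset.sum_congr rfl fun (y : ↥(Subgroup.centralizer ({σ} : Set G))) hy => h (y : G)
    (Subgroup.mem_centralizer_singleton_iff.1 y.2) (by
      rw [Subgroup.orderOf_coe]; exact (Finset.mem_filter.1 hy).2), Finset.sum_const, nsmul_eq_mul] at h0
  refine (mul_eq_zero.1 h0).elim (fun e => ?_) hk
  rw [Nat.cast_eq_zero, Finset.card_eq_zero] at e
  have h1 : (1 : Subgroup.centralizer ({σ} : Set G)) ∈ (∅ : Finset _) :=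
    e ▸ Finset.mem_filter.2 ⟨Finset.mem_univ _, by simp [Cfsg.IsPRegular]⟩
  simp at h1

end CfsgLib.Perm.ThricePrime
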