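import Cfsg.Agent.Lib.Perm.ThricePrime.NThree
import Cfsg.Agent.Lib.Perm.ThricePrime.Sections
import Cfsg.Agent.Lib.Blocks.Eigen
import Cfsg.Agent.S4481

/-!
# Degree thrice a prime: `θ` of degree `3 * p - 1` does not occur
-/

set_option autoImplicit false

open scoped Classical

namespace CfsgLib.Perm.ThricePrime

open MulAction CfsgLib.Char CfsgLib.Char.InvertedPrime CfsgLib.Perm.PrimeDegreeDihedral

universe u

variable {α : Type u} [Fintype α] {G : Subgroup (Equiv.Perm α)} {p : ℕ} [Fact p.Prime]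
  {P : Sylow p G}

variable {θ : Cfsg.IrrCharacter G} {tz : G → ℤ} {n : ℕ}

omit [Fintype α] [Fact p.Prime] in
theorem mod_eight {p : ℕ} (hp : p % 4 = 1) (h1 : 1 < p) (h : (p - 1).factorization 2 = 2) :
    p % 8 = 5 := by
  have h8 : ¬ 2 ^ 3 ∣ p - 1 := fun hd => by
    have := (Nat.prime_two.pow_dvd_iff_le_factorization (by omega)).1 hd
    omega
  omega

theorem Setup.exists_lam_three (S : Setup G p P) (hp : 6 < p) :
    ∃ l₁ l₂ l₃ : ↥(P : Subgroup G) →* ℂˣ, l₁ ≠ 1 ∧ l₂ ≠ 1 ∧ l₃ ≠ 1 ∧ l₂ ≠ l₁ ∧ l₂ ≠ l₁⁻¹ ∧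
      l₃ ≠ l₁ ∧ l₃ ≠ l₁⁻¹ ∧ l₃ ≠ l₂ ∧ l₃ ≠ l₂⁻¹ := by
  obtain ⟨l₁, h1, -⟩ := S.exists_lam ∅ (by simp; omega)
  obtain ⟨l₂, h2, h2'⟩ := S.exists_lam {l₁, l₁⁻¹} (by
    have := Finset.card_le_two (a := l₁) (b := l₁⁻¹); omega)
  obtain ⟨l₃, h3, h3'⟩ := S.exists_lam {l₁, l₁⁻¹, l₂, l₂⁻¹} (by
    have h4 : ({l₁, l₁⁻¹, l₂, l₂⁻¹} : Finset (↥(P : Subgroup G) →* ℂˣ)).card ≤ 4 :=
      Finset.card_le_four
    omega)
  simp only [Finset.mem_insert, Finset.mem_singleton, not_or] at h2' h3'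
  exact ⟨l₁, l₂, l₃, h1, h2, h3, h2'.1, h2'.2, h3'.1, h3'.2.1, h3'.2.2.1, h3'.2.2.2⟩

theorem Theta.ne_three_deg (S : Setup G p P) (hT : Theta P θ tz n) : n ≠ 3 := by
  intro hn
  haveI : Fact (Nat.Prime 2) := ⟨Nat.prime_two⟩
  have hp : p.Prime := Fact.out
  obtain ⟨t, ht, htP, ht2⟩ := S.exists_t
  obtain ⟨hf, he, hv⟩ := hT.two_part_three S hn ht htP
  have hp5 := S.five_le
  have hp4 : p % 4 = 1 := by
    rcases S.fix_outer ht htP with ⟨h1, -⟩ | ⟨-, h2⟩ <;> omega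
  have h8 := mod_eight hp4 (by omega) he
  have hfix := hT.fix_three S ht htP hf
  have hone : ∀ x y : G, orderOf x = 2 → orderOf y = 2 → IsConj x y := fun x y hx hy =>
    (hT.one_class S ht htP hx).trans (hT.one_class S ht htP hy).symm
  obtain ⟨T⟩ : Nonempty (Sylow 2 G) := inferInstance
  have hTc : Nat.card (T : Subgroup G) = 8 := by
    rw [show Nat.card (T : Subgroup G) = 2 ^ (Nat.card G).factorization 2 from T.card_eq_multiplicity, hv]
    rfl
  obtain ⟨W, F, hK⟩ := S.exists_ker hfix T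
  have hW : Nat.card W = 4 := by
    obtain ⟨j, hj⟩ := (T.isPGroup'.to_le hK.le).exists_card_eq
    have h1 : j ≤ 2 := he ▸ (Nat.prime_two.pow_dvd_iff_le_factorization (by omega)).1 (hj ▸ hK.dvd)
    have h2 := hK.index
    have h3 : 2 ^ j ≤ 2 ^ 2 := Nat.pow_le_pow_right two_pos h1
    omega
  obtain ⟨σ, s, a, E⟩ := S.exists_eight hK hTc hW h8 hfix hone
  obtain ⟨M, hM⟩ := CfsgLib.Blocks.exists_isPModular Nat.prime_two
  have hI : IsPrimitiveRoot Complex.I (2 ^ (3 - 1)) := by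
    rw [show 2 ^ (3 - 1) = 4 from rfl]
    exact Complex.isPrimitiveRoot_I
  obtain ⟨-, χ1, χ2, χ3, χ', d1, d2, d3, hd1, hd2, hd3, -, -, -, -, -, -, -, -, hB, hval, hrel⟩ :=
    Cfsg.Agent.S4481.result M hM 3 le_rfl T (by simpa using E.iso) σ E.gen.amem
      (by simpa using E.gen.ord) Complex.I hI
  obtain ⟨hv11, hv21, hv31, hv'1⟩ := hval 1 one_pos (by norm_num)
  obtain ⟨hv12, hv22, hv32, hv'2⟩ := hval 2 two_pos (by norm_num)
  -- a companion of `θ` is the second or third character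
  have hX : ∀ (l : ↥(P : Subgroup G) →* ℂˣ) (X : Cfsg.IrrCharacter G), IsDec l X θ →
      (X = χ2 ∧ d2 = -1 ∨ X = χ3 ∧ d3 = -1) ∧ (X : G → ℂ) 1 = ((3 * p - 2 : ℕ) : ℂ) := by
    intro l X hdec
    have hval' : ∀ g : G, orderOf g ≠ p → (X : G → ℂ) g = (fixNum g : ℂ) - 2 := fun g hg => by
      have h1 := S.dec_apply hdec hg
      rw [hT.val] at h1
      have h2 : (fixNum g : ℂ) = 1 + (tz g : ℂ) := by exact_mod_cast hT.eq_three S hn g
      linear_combination h1 - h2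
    have hσ : ∀ y : G, Commute y σ → ¬ 2 ∣ orderOf y → (X : G → ℂ) (σ * y) = -1 := fun y hy hodd => by
      rw [hval' _ (E.order_ne S hy hodd), E.fix_σ hy hodd]
      norm_num
    have hmem := E.mem_principal hM (by norm_num : (-1 : ℂ) ≠ 0) hσ
    have hX1 : (X : G → ℂ) (σ ^ 1) = -1 := by
      have := hσ 1 (Commute.one_left σ) (by simp)
      simpa using this
    have hX2 : (X : G → ℂ) (σ ^ 2) = 1 := by
      rw [hval' _ (by rw [E.orderOf_z]; omega), hfix _ E.orderOf_z]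
      norm_num
    refine ⟨?_, ?_⟩
    · rw [hB] at hmem
      rcases hmem with h | h | h | h | ⟨j, h⟩
      · exfalso
        rw [h] at hX1
        norm_num at hX1
      · exfalso
        rw [h, hv11] at hX1
        rw [h, hv12, hX1] at hX2
        norm_num at hX2
      · left
        refine ⟨h, ?_⟩
        rw [h, hv21] at hX1
        norm_num at hX1
        exact_mod_cast hX1
      · right
        refine ⟨h, ?_⟩
        rw [h, hv31] at hX1
        norm_num at hX1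
        exact_mod_cast hX1
      · exfalso
        rw [h, hv'1 j] at hX1
        have hj : (j : ℕ) = 0 := by
          have hlt : (j : ℕ) < 2 ^ (3 - 2) - 1 := j.2
          norm_num at hlt
          omega
        rw [hj] at hX1
        norm_num [Complex.inv_I] at hX1
    · rw [hval' 1 (by rw [orderOf_one]; omega), fixNum_one, S.hα, Nat.cast_sub (by omega)]
      push_cast
      ring
  by_cases hp6 : 6 < p
  · obtain ⟨l₁, l₂, l₃, h1, h2, h3, h21, h21', h31, h31', h32, h32'⟩ := S.exists_lam_three hp6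
    obtain ⟨X₁, hX₁⟩ := hT.dec l₁ h1
    obtain ⟨X₂, hX₂⟩ := hT.dec l₂ h2
    obtain ⟨X₃, hX₃⟩ := hT.dec l₃ h3
    have hne : ∀ {l m : ↥(P : Subgroup G) →* ℂˣ} {X Y : Cfsg.IrrCharacter G}, l ≠ 1 → m ≠ 1 →
        IsDec l X θ → IsDec m Y θ → l ≠ m → l ≠ m⁻¹ → X ≠ Y := fun hl hm hXl hYm hn1 hn2 e =>
      (((hXl.share S.inv hl hm hYm).2.2 e rfl).elim hn1 hn2).elim
    have e12 := hne h2 h1 hX₂ hX₁ h21 h21'
    have e13 := hne h3 h1 hX₃ hX₁ h31 h31'
    have e23 := hne h3 h2 hX₃ hX₂ h32 h32'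
    rcases (hX _ _ hX₁).1 with ⟨a1, -⟩ | ⟨a1, -⟩ <;> rcases (hX _ _ hX₂).1 with ⟨a2, -⟩ | ⟨a2, -⟩ <;>
      rcases (hX _ _ hX₃).1 with ⟨a3, -⟩ | ⟨a3, -⟩ <;> subst a1 a2 a3 <;> contradiction
  · have hp' : p = 5 := by omega
    obtain ⟨l₁, h1, -⟩ := S.exists_lam ∅ (by simp; omega)
    obtain ⟨l₂, h2, h2'⟩ := S.exists_lam {l₁, l₁⁻¹} (by
      have := Finset.card_le_two (a := l₁) (b := l₁⁻¹); omega)
    simp only [Finset.mem_insert, Finset.mem_singleton, not_or] at h2'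
    obtain ⟨X₁, hX₁⟩ := hT.dec l₁ h1
    obtain ⟨X₂, hX₂⟩ := hT.dec l₂ h2
    have e12 : X₂ ≠ X₁ := fun e =>
      ((hX₂.share S.inv h2 h1 hX₁).2.2 e rfl).elim h2'.1 h2'.2
    obtain ⟨c1, c1'⟩ := hX _ _ hX₁
    obtain ⟨c2, c2'⟩ := hX _ _ hX₂
    obtain ⟨hd2', hd3', hx2, hx3⟩ : d2 = -1 ∧ d3 = -1 ∧ (χ2 : G → ℂ) 1 = 13 ∧ (χ3 : G → ℂ) 1 = 13 := by
      rcases c1 with ⟨a1, b1⟩ | ⟨a1, b1⟩ <;> rcases c2 with ⟨a2, b2⟩ | ⟨a2, b2⟩ <;> subst a1 a2
      · exact absurd rfl e12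
      · exact ⟨b1, b2, by rw [c1', hp']; norm_num, by rw [c2', hp']; norm_num⟩
      · exact ⟨b2, b1, by rw [c2', hp']; norm_num, by rw [c1', hp']; norm_num⟩
      · exact absurd rfl e12
    have hr := (hrel 1 (by simp) ⟨0, by norm_num⟩).1
    rw [hd2', hd3', hx2, hx3] at hr
    push_cast at hr
    obtain ⟨d, hd0, hd⟩ := IsIrrCharacter.apply_one_eq χ1.2
    have h25 : d = 25 := by
      rw [hd] at hr
      rcases hd1 with e | e <;> rw [e] at hr
      · have : ((d : ℕ) : ℂ) = ((25 : ℕ) : ℂ) := by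
          push_cast at hr ⊢
          linear_combination hr
        exact_mod_cast this
      · exfalso
        have : (((d + 25 : ℕ)) : ℂ) = ((0 : ℕ) : ℂ) := by
          push_cast at hr ⊢
          linear_combination -hr
        have h0 : d + 25 = 0 := by exact_mod_cast this
        omega
    obtain ⟨d', hd', hdvd⟩ := IsIrrCharacter.apply_one_dvd_card χ1.2
    have hdd : d' = d := by exact_mod_cast hd'.symm.trans hd
    rw [hdd, h25] at hdvd
    have h := S.card_P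
    rw [P.card_eq_multiplicity] at h
    have h' : (Nat.card G).factorization p = 1 := Nat.pow_right_injective hp.two_le (h.trans (pow_one p).symm)
    have := (hp.pow_dvd_iff_le_factorization Nat.card_pos.ne').1 (show p ^ 2 ∣ Nat.card G by
      rw [hp']; exact hdvd)
    omega

end CfsgLib.Perm.ThricePrime
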