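import Cfsg.Agent.Lib.Perm.ThricePrime.Orders
import Cfsg.Agent.Lib.Perm.ThricePrime.NThreeFinal
import Cfsg.Agent.Lib.Perm.ThricePrime.NOne
import Cfsg.Agent.Lib.Sporadic.SimpleIso360
import Cfsg.Agent.S4482
import Mathlib.GroupTheory.GroupAction.Jordan

/-!
# Degree thrice a prime: the primitive case
-/

set_option autoImplicit false

open scoped Classical

namespace CfsgLib.Perm.ThricePrime

open MulAction CfsgLib.Char CfsgLib.Char.InvertedPrime CfsgLib.Perm.PrimeDegreeDihedral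

universe u

variable {α : Type u} [Fintype α] {G : Subgroup (Equiv.Perm α)} {p : ℕ} [Fact p.Prime]
  {P : Sylow p G}

variable {θ : Cfsg.IrrCharacter G} {tz : G → ℤ} {n : ℕ}

theorem fourth_dvd_cases : ∀ w < 246, w % 2 = 1 → w * w * w * w ∣ 3632428800 → w = 1 ∨ w = 3 := by
  decide +kernel

omit [Fintype α] in
theorem card_centralizer_conj (k u : G) :
    Nat.card (Subgroup.centralizer ({k * u * k⁻¹} : Set G)) =
      Nat.card (Subgroup.centralizer ({u} : Set G)) := by
  refine (Nat.card_congr (Equiv.subtypeEquiv (MulAut.conj k).toEquiv fun y => ?_)).symm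
  rw [Subgroup.mem_centralizer_singleton_iff, Subgroup.mem_centralizer_singleton_iff]
  change Commute y u ↔ Commute (MulAut.conj k y) (MulAut.conj k u)
  rw [commute_map_iff (MulAut.conj k).injective]

theorem Theta.order_two_deg (S : Setup G p P) (hT : Theta P θ tz n) (hn : n = 2) :
    p = 5 ∧ ∃ w : ℕ, w % 2 = 1 ∧ Nat.card G = 360 * (w * w * w * w) := by
  haveI : Fact (Nat.Prime 2) := ⟨Nat.prime_two⟩
  obtain ⟨t, ht, htP, ht2⟩ := S.exists_t
  have h2 := hT.two S hn ht htP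
  obtain ⟨ψ, pz, hψ⟩ := hT.exists_psi S hn
  obtain ⟨T⟩ : Nonempty (Sylow 2 G) := inferInstance
  obtain ⟨W, F, σ₀, a₀, b₀, hK, hσ₀, hσ₀W, ha₀, hσa₀, hb₀, hba₀, hT8, hW4, hinv, -, hk4, hk5⟩ :=
    hψ.rank_data S hT hn ht htP T
  have hv : (Nat.card G).factorization 2 = 3 := by
    have h := T.card_eq_multiplicity
    rw [show Nat.card T = 8 from hT8] at h
    exact (Nat.pow_right_injective le_rfl (h.symm.trans (show 8 = 2 ^ 3 from rfl)))
  have hp5 := S.five_le
  have h8 : p % 8 = 5 := mod_eight h2.four (by omega) (by have := h2.two_part; omega)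
  have hone : ∀ x y : G, orderOf x = 2 → orderOf y = 2 → IsConj x y := fun x y hx hy =>
    (hT.one_class S ht htP hx).trans (hT.one_class S ht htP hy).symm
  obtain ⟨σ, s, a, E⟩ := S.exists_eight hK hT8 hW4 h8 h2.fixes hone
  obtain ⟨M, hM⟩ := CfsgLib.Blocks.exists_isPModular Nat.prime_two
  obtain ⟨Sp, hθB⟩ := hT.exists_special S hn hψ E hM hv h2.four h2.fixes hone
  obtain ⟨b, hbF, hba, hbc⟩ := Sp.point
  have haa : a₀ = a := E.out_eq hσ₀ hσ₀W ha₀ hσa₀
  subst haa
  have hz2 := E.orderOf_z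
  have hbb : orbit (stabilizer G a₀) b₀ = orbit (stabilizer G a₀) b := by
    refine (orbit_eq_iff.2 ?_).symm
    exact (CfsgLib.Perm.Suborbits.inOrbital_left_iff a₀ b₀ b).1
      (hinv _ hz2 a₀ b hba.symm (E.smul_z E.aF) (E.smul_z hbF))
  rw [hbb] at hk4 hk5
  have e2 := Sp.count_pair S hbF hbc hk4
  have e3 := Sp.count_half S hM
  have e0 := h2.eqn
  obtain ⟨g₀, hg₀⟩ := isConj_iff.1 (hone t (σ ^ 2) ht2 hz2)
  rw [← card_centralizer_conj g₀ t, hg₀] at e0
  set k := Nat.card (orbit (stabilizer G a₀) b)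
  set c := Nat.card (Subgroup.centralizer ({σ ^ 2} : Set G)) with hc
  set c1 := Nat.card (Subgroup.centralizer ({σ ^ 2, s} : Set G)) with hc1
  set c2 := Nat.card (Subgroup.centralizer ({σ ^ 2, σ * s} : Set G)) with hc2
  set g := Nat.card G with hgdef
  have e1 : g * (p - 1) ^ 2 * c1 ^ 2 * c2 ^ 2 = p * (2 * p - 1) * c ^ 3 * (c1 + c2) ^ 2 := by
    have hgen : Subgroup.closure ({σ, s} : Set G) = (T : Subgroup G) := by
      refine le_antisymm ((Subgroup.closure_le _).2 ?_) fun x hx => ?_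
      · rintro x (rfl | rfl)
        exacts [E.gen.amem, E.gen.bmem]
      · rcases E.gen.cases x hx with ⟨i, rfl⟩ | ⟨i, rfl⟩
        · exact Subgroup.zpow_mem _ (Subgroup.subset_closure (show σ ∈ ({σ, s} : Set G) from Or.inl rfl)) i
        · exact mul_mem (Subgroup.zpow_mem _ (Subgroup.subset_closure (show σ ∈ ({σ, s} : Set G) from Or.inl rfl)) i)
            (Subgroup.subset_closure (show s ∈ ({σ, s} : Set G) from Or.inr rfl))
    have hval : ∀ l : ℕ, 0 < l → l < 2 ^ (3 - 1) → (θ : G → ℂ) (σ ^ l) = ((1 : ℤ) : ℂ) := by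
      intro l hl hl'
      rw [hT.val, hT.value_even S hn hv h2.four]
      rw [orderOf_pow' σ (by omega), E.orderOf_σ]
      norm_num at hl'
      interval_cases l <;> decide
    have h := (Cfsg.Agent.S4482.result M hM 3 le_rfl T σ s E.gen.amem E.gen.bmem
      (by simpa using E.gen.ord) E.orderOf_s E.gen.conj hgen
      ⟨by simpa using hone _ _ hz2 E.orderOf_s, by simpa using hone _ _ hz2 E.orderOf_σs⟩
      θ hθB (fun e => hT.ne_one S (Subtype.ext e)) 1 (Or.inl rfl) hval).2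
    have hdeg : Cfsg.charDegree (θ : G → ℂ) = 2 * p - 1 := by
      have e : (θ : G → ℂ) 1 = ((2 * p - 1 : ℕ) : ℂ) := by
        rw [hT.val, hT.deg, hn, Nat.cast_sub (by omega)]
        push_cast
        ring
      rw [Cfsg.charDegree, e, Complex.natCast_re, Nat.floor_natCast]
    rw [hdeg] at h
    norm_num only at h
    rw [← hc, ← hc1, ← hc2, ← hgdef] at h
    have h0 : (c1 : ℚ) ≠ 0 := Nat.cast_ne_zero.2 Nat.card_pos.ne'
    have h0' : (c2 : ℚ) ≠ 0 := Nat.cast_ne_zero.2 Nat.card_pos.ne'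
    field_simp at h
    have hQ : ((g * (p - 1) ^ 2 * c1 ^ 2 * c2 ^ 2 : ℕ) : ℚ) =
        ((p * (2 * p - 1) * c ^ 3 * (c1 + c2) ^ 2 : ℕ) : ℚ) := by
      push_cast [Nat.cast_sub (show 1 ≤ p by omega), Nat.cast_sub (show 1 ≤ 2 * p by omega)] at h ⊢
      linear_combination h / 4
    exact_mod_cast hQ
  have hc0 : 0 < c := Nat.card_pos
  have hc10 : 0 < c1 := Nat.card_pos
  have hg0 : 0 < g := Nat.card_pos
  obtain ⟨q, hq⟩ : ∃ q, p = q + 1 := ⟨p - 1, by omega⟩
  have hN : 2 * p - 1 = 2 * q + 1 := by omega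
  have hq' : p - 1 = q := by omega
  rw [hN, hq'] at e0 e1
  -- eliminate the order
  have f2 : 4 * (2 * q + 1) * c2 ^ 2 = 3 * q * k * c := by
    refine Nat.eq_of_mul_eq_mul_left (show 0 < p * c ^ 2 by positivity) ?_
    calc p * c ^ 2 * (4 * (2 * q + 1) * c2 ^ 2) = 4 * c2 ^ 2 * (p * c ^ 2 * (2 * q + 1)) := by ring
      _ = q * (8 * g * c2 ^ 2) := by rw [← e0]; ring
      _ = _ := by rw [e2]; ring
  have f3 : 3 * q * c ≤ (2 * q + 1) * c1 ^ 2 := by
    refine Nat.le_of_mul_le_mul_left ?_ (show 0 < p * c ^ 2 by positivity)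
    calc p * c ^ 2 * (3 * q * c) = q * (3 * p * c ^ 3) := by ring
      _ ≤ q * (2 * g * c1 ^ 2) := Nat.mul_le_mul_left _ e3
      _ = c1 ^ 2 * (2 * g * q) := by ring
      _ = _ := by rw [e0]; ring
  have f1 : q * c1 ^ 2 * c2 ^ 2 = 2 * c * (c1 + c2) ^ 2 := by
    refine Nat.eq_of_mul_eq_mul_left (show 0 < p * c ^ 2 * (2 * q + 1) by positivity) ?_
    calc p * c ^ 2 * (2 * q + 1) * (q * c1 ^ 2 * c2 ^ 2) = 2 * (g * q ^ 2 * c1 ^ 2 * c2 ^ 2) := by
          rw [← e0]; ring
      _ = _ := by rw [e1]; ring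
  have f4 : 4 * c2 ^ 2 ≤ k * c1 ^ 2 := by
    refine Nat.le_of_mul_le_mul_left ?_ (show 0 < 2 * q + 1 by omega)
    calc (2 * q + 1) * (4 * c2 ^ 2) = k * (3 * q * c) := by rw [← mul_assoc, mul_comm _ 4, f2]; ring
      _ ≤ k * ((2 * q + 1) * c1 ^ 2) := Nat.mul_le_mul_left _ f3
      _ = _ := by ring
  have f5 : 3 * q ^ 2 * k * c1 ^ 2 = 8 * (2 * q + 1) * (c1 + c2) ^ 2 := by
    refine Nat.eq_of_mul_eq_mul_left hc0 ?_
    calc c * (3 * q ^ 2 * k * c1 ^ 2) = q * c1 ^ 2 * (3 * q * k * c) := by ring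
      _ = 4 * (2 * q + 1) * (q * c1 ^ 2 * c2 ^ 2) := by rw [← f2]; ring
      _ = _ := by rw [f1]; ring
  have f6 : 2 * (c1 + c2) ^ 2 ≤ 3 * k * c1 ^ 2 := by
    have h1 : 2 * (c1 + c2) ^ 2 ≤ 4 * c1 ^ 2 + 4 * c2 ^ 2 := by
      have := two_mul_le_add_sq (c1 : ℤ) c2
      zify
      linarith
    have h3 : 4 * c1 ^ 2 ≤ 2 * k * c1 ^ 2 := Nat.mul_le_mul_right _ (by omega)
    linarith
  have hq8 : q ^ 2 ≤ 4 * (2 * q + 1) := by
    have h1 : q ^ 2 * (3 * k * c1 ^ 2) ≤ 4 * (2 * q + 1) * (3 * k * c1 ^ 2) := by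
      calc q ^ 2 * (3 * k * c1 ^ 2) = 3 * q ^ 2 * k * c1 ^ 2 := by ring
        _ = 4 * (2 * q + 1) * (2 * (c1 + c2) ^ 2) := by rw [f5]; ring
        _ ≤ _ := Nat.mul_le_mul_left _ f6
    exact Nat.le_of_mul_le_mul_right h1 (Nat.mul_pos (by omega) (by positivity))
  have hp5' : p = 5 := by
    by_contra hne
    have : 12 ≤ q := by omega
    have : 12 * q ≤ q ^ 2 := by rw [sq]; exact Nat.mul_le_mul_right q this
    omega
  have hk := hk5 hp5'
  have hq4 : q = 4 := by omega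
  rw [hq4, hk] at f5 f2
  have h12 : c1 = c2 := by
    have h1 : (2 * c1) ^ 2 = (c1 + c2) ^ 2 := by linarith
    have := Nat.pow_left_injective (n := 2) (by norm_num) h1
    omega
  have hc22 : c2 ^ 2 = 2 * c := by linarith
  have h8c : 8 ∣ c := ⟨_, E.card_oddCent⟩
  obtain ⟨w, hw⟩ : 4 ∣ c2 := by
    have h16 : 4 ^ 2 ∣ c2 ^ 2 := by obtain ⟨d, hd⟩ := h8c; exact ⟨d, by rw [hc22, hd]; ring⟩
    exact (Nat.pow_dvd_pow_iff (by norm_num)).1 h16
  have hcw : c = 8 * (w * w) := by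
    rw [hw] at hc22
    linarith
  have hgw : g = 360 * (w * w * w * w) := by
    rw [hp5', hq4, hcw] at e0
    linarith
  refine ⟨hp5', w, ?_, hgw⟩
  by_contra hw2
  obtain ⟨i, hi⟩ : 2 ∣ w := by omega
  have h16 : 2 ^ 4 ∣ g := ⟨360 * (i * i * i * i), by rw [hgw, hi]; ring⟩
  have := (Nat.prime_two.pow_dvd_iff_le_factorization hg0.ne').1 h16
  omega

/-- **The primitive case.** -/
theorem Setup.primitive (S : Setup G p P) (hprim : IsPreprimitive G α) :
    p = 5 ∧ Nonempty (G ≃* alternatingGroup (Fin 6)) := by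
  obtain ⟨θ, tz, n, hT⟩ := S.exists_theta
  have h1 := hT.ne_one_deg S hprim
  have h3 := hT.ne_three_deg S
  have hn : n = 2 := by have := hT.one_le; have := hT.le_three; omega
  obtain ⟨hp, w, hw2, hg⟩ := hT.order_two_deg S hn
  refine ⟨hp, ?_⟩
  haveI := S.simple
  have hα : Fintype.card α = 15 := by rw [S.hα, hp]
  have hdvd : Nat.card G ∣ Nat.factorial 15 := by
    have h := Subgroup.card_subgroup_dvd_card G
    rwa [Nat.card_eq_fintype_card (α := Equiv.Perm α), Fintype.card_perm, hα] at h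
  have hd : w * w * w * w ∣ 3632428800 := by
    rw [hg, show Nat.factorial 15 = 360 * 3632428800 by norm_num [Nat.factorial]] at hdvd
    exact Nat.dvd_of_mul_dvd_mul_left (by norm_num) hdvd
  have hwb : w < 246 := by
    by_contra hcon
    have h1 : 246 * 246 * 246 * 246 ≤ w * w * w * w := by gcongr <;> omega
    have := Nat.le_of_dvd (by norm_num) hd
    omega
  rcases fourth_dvd_cases w hwb hw2 hd with rfl | rfl
  · exact CfsgLib.Sporadic.SimpleIso360.equiv_alternating (by rw [hg])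
  · exfalso
    haveI : Fact (Nat.Prime 3) := ⟨Nat.prime_three⟩
    obtain ⟨Q⟩ : Nonempty (Sylow 3 G) := inferInstance
    have hQ : Nat.card (Q : Subgroup G) = 3 ^ 6 := by
      rw [show Nat.card (Q : Subgroup G) = 3 ^ (Nat.card G).factorization 3 from Q.card_eq_multiplicity,
        hg, show 360 * (3 * 3 * 3 * 3) = 3 ^ 6 * 40 by norm_num,
        Nat.factorization_mul (by norm_num) (by norm_num), Finsupp.add_apply,
        Nat.prime_three.factorization_pow, Nat.factorization_eq_zero_of_not_dvd (show ¬ 3 ∣ 40 by norm_num)]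
      simp
    let R : Sylow 3 (Equiv.Perm α) := Sylow.ofCard ((Q : Subgroup G).map G.subtype) (by
      rw [Subgroup.card_subtype, hQ, Nat.card_eq_fintype_card (α := Equiv.Perm α), Fintype.card_perm, hα,
        show Nat.factorial 15 = 3 ^ 6 * 1793792000 by norm_num [Nat.factorial],
        Nat.factorization_mul (by norm_num) (by norm_num), Finsupp.add_apply,
        Nat.prime_three.factorization_pow,
        Nat.factorization_eq_zero_of_not_dvd (show ¬ 3 ∣ 1793792000 by norm_num)]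
      simp)
    obtain ⟨a, b, c, hab, hac, hbc⟩ := Fintype.two_lt_card_iff.1 (show 2 < Fintype.card α by omega)
    have hcyc := Equiv.Perm.isThreeCycle_swap_mul_swap_same hab hac hbc
    obtain ⟨u, hu⟩ := CfsgLib.Blocks.TIAbelian.exists_conj_mem_sylow_p R
      (R := Subgroup.zpowers (Equiv.swap a b * Equiv.swap a c))
      (IsPGroup.of_card (n := 1) (by rw [Nat.card_zpowers, hcyc.orderOf, pow_one]))
    have hmem : u * (Equiv.swap a b * Equiv.swap a c) * u⁻¹ ∈ G :=
      Subgroup.map_subtype_le _ (hu _ (Subgroup.mem_zpowers _))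
    have h3c : Equiv.Perm.IsThreeCycle (u * (Equiv.swap a b * Equiv.swap a c) * u⁻¹) := by
      rw [Equiv.Perm.IsThreeCycle, Equiv.Perm.cycleType_conj]
      exact hcyc.cycleType
    have hle := Equiv.Perm.alternatingGroup_le_of_isPreprimitive_of_isThreeCycle_mem hprim h3c hmem
    haveI : Nontrivial α := Fintype.one_lt_card_iff_nontrivial.1 (by omega)
    have h2 := Nat.le_of_dvd Nat.card_pos (Subgroup.card_dvd_of_le hle)
    have hA := two_mul_nat_card_alternatingGroup (α := α)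
    rw [Nat.card_eq_fintype_card (α := Equiv.Perm α), Fintype.card_perm, hα] at hA
    rw [hg] at h2
    rw [show Nat.factorial 15 = 1307674368000 by norm_num [Nat.factorial]] at hA
    omega

end CfsgLib.Perm.ThricePrime
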