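import Cfsg.Agent.Lib.Perm.ThricePrime.Setup

/-!
# Degree thrice a prime: class multiplication against the decompositions
-/

set_option autoImplicit false

open scoped Classical ComplexConjugate

namespace CfsgLib.Perm.ThricePrime

open MulAction CfsgLib.Char CfsgLib.Char.InvertedPrime CfsgLib.Perm.PrimeDegreeDihedral
  CfsgLib.Blocks

universe u

variable {α : Type u} [Fintype α] {G : Subgroup (Equiv.Perm α)} {p : ℕ} [Fact p.Prime]
  {P : Sylow p G}

theorem Setup.sum_hom (S : Setup G p P) {lam : ↥(P : Subgroup G) →* ℂˣ} (hl : lam ≠ 1) :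
    ∑ y : (P : Subgroup G), (lam y : ℂ) = 0 := by
  have h := classInner_hom (P := (P : Subgroup G)) lam 1
  rw [if_neg hl] at h
  simp only [Cfsg.classInner, MonoidHom.one_apply, Units.val_one, map_one, mul_one] at h
  rw [mul_eq_zero, inv_eq_zero] at h
  exact h.resolve_left (Nat.cast_ne_zero.2 Nat.card_pos.ne')

theorem Setup.al_classInner_const (S : Setup G p P) {lam : ↥(P : Subgroup G) →* ℂˣ} (hl : lam ≠ 1)
    {F : G → ℂ} (hF : Cfsg.IsClassFunction G F) (k : ℂ)
    (hk : ∀ z ∈ (P : Subgroup G), z ≠ 1 → F z = k) :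
    Cfsg.classInner (al lam) F = conj k := by
  have hp : (p : ℂ) ≠ 0 := Nat.cast_ne_zero.2 (Fact.out : p.Prime).ne_zero
  rw [al_inner_class lam hF, ← classInner_sub_left, Cfsg.classInner, S.card_P]
  have e : ∀ y : (P : Subgroup G),
      ((fun _ : (P : Subgroup G) => (1 : ℂ)) - fun y => (lam y : ℂ)) y * conj (F (y : G)) =
        (1 - (lam y : ℂ)) * conj k := by
    intro y
    by_cases hy : y = 1
    · subst hy; simp
    · rw [hk y y.2 fun e => hy (Subtype.ext e)]; rfl
  rw [Finset.sum_congr rfl fun y _ => e y, ← Finset.sum_mul, Finset.sum_sub_distrib, S.sum_hom hl,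
    Finset.sum_const, Finset.card_univ, ← Nat.card_eq_fintype_card, S.card_P, nsmul_eq_mul, mul_one,
    sub_zero, inv_mul_cancel_left₀ hp]

/-- Two conjugates of `y` with product in `P` lie in the normalizer of `P`. -/
theorem Setup.pair_mem (S : Setup G p P) {y x z : G} (hy : orderOf y = 2)
    (hz : z ∈ (P : Subgroup G)) (hz1 : z ≠ 1) (h1 : IsConj y x) (h2 : IsConj y (x⁻¹ * z⁻¹)) :
    x ∈ Subgroup.normalizer ((P : Subgroup G) : Set G) ∧ x ∉ (P : Subgroup G) := by
  have hI := S.inv
  have ho : ∀ w, IsConj y w → orderOf w = 2 := by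
    intro w hw
    obtain ⟨c, rfl⟩ := isConj_iff.1 hw
    rw [← MulAut.conj_apply, MulEquiv.orderOf_eq, hy]
  have hx := ho x h1
  have hxx : x⁻¹ = x := by
    rw [inv_eq_iff_mul_eq_one, ← sq, ← hx, pow_orderOf_eq_one]
  have hw : (x⁻¹ * z⁻¹) * (x⁻¹ * z⁻¹) = 1 := by
    rw [← sq, ← ho _ h2, pow_orderOf_eq_one]
  have hconj : x * z⁻¹ * x⁻¹ = z := by
    rw [hxx] at hw
    calc x * z⁻¹ * x⁻¹ = (x * z⁻¹ * (x * z⁻¹)) * z * 1 := by rw [hxx]; group
      _ = z := by rw [hw, one_mul, mul_one]
  refine ⟨hI.ti (inv_mem hz) (fun e => hz1 (inv_eq_one.1 e)) (by rw [hconj]; exact hz), fun hxP => ?_⟩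
  have h := (hI.zpowers_eq hxP fun e => by rw [e, orderOf_one] at hx; omega).2
  rw [hx] at h
  have := S.hp
  omega

/-- The class multiplication coefficient of an involution at an element of `P`. -/
theorem Setup.pairs_card (S : Setup G p P) {t y : G}
    (ht : t ∈ Subgroup.normalizer ((P : Subgroup G) : Set G)) (htP : t ∉ (P : Subgroup G))
    (hy : orderOf y = 2) {z : G} (hz : z ∈ (P : Subgroup G)) (hz1 : z ≠ 1) :
    ∑ x : G, classInd y x * classInd y (x⁻¹ * z⁻¹) = if IsConj y t then (p : ℂ) else 0 := by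
  have hI := S.inv
  have hterm : ∀ x : G, classInd y x * classInd y (x⁻¹ * z⁻¹) =
      if IsConj y x ∧ IsConj y (x⁻¹ * z⁻¹) then 1 else 0 := fun x => by
    simp only [classInd]
    split_ifs <;> simp_all
  rw [Finset.sum_congr rfl fun x _ => hterm x, Finset.sum_boole]
  -- all elements of the outer coset are conjugate
  have hcl : ∀ w ∈ Subgroup.normalizer ((P : Subgroup G) : Set G), w ∉ (P : Subgroup G) →
      IsConj t w := by
    intro w hw hwP
    have hxp : (t⁻¹ * w) ^ p = 1 := by
      have h := pow_card_eq_one' (x := (⟨_, S.coset ht htP hw hwP⟩ : (P : Subgroup G)))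
      rw [hI.card] at h
      exact congrArg Subtype.val h
    obtain ⟨k, hk⟩ := (Fact.out : p.Prime).odd_of_ne_two (by have := S.hp; omega)
    set v : G := (t⁻¹ * w) ^ (k + 1) with hv
    have hvv : v * v = t⁻¹ * w := by
      rw [hv, ← pow_add, show k + 1 + (k + 1) = p + 1 by omega, pow_succ, hxp, one_mul]
    have hvi := (hI.involution ht htP).2 v (pow_mem (S.coset ht htP hw hwP) _)
    refine isConj_iff.2 ⟨v⁻¹, ?_⟩
    rw [inv_inv, ← hvi]
    calc t * v * t⁻¹ * t * v = t * (v * v) := by group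
      _ = w := by rw [hvv, mul_inv_cancel_left]
  by_cases hc : IsConj y t
  · rw [if_pos hc]
    have : (Finset.univ.filter fun x => IsConj y x ∧ IsConj y (x⁻¹ * z⁻¹)) =
        Finset.univ.filter fun x => x ∈ Subgroup.normalizer ((P : Subgroup G) : Set G) ∧
          x ∉ (P : Subgroup G) := by
      refine Finset.filter_congr fun x _ => ⟨fun h => S.pair_mem hy hz hz1 h.1 h.2, fun h => ?_⟩
      refine ⟨hc.trans (hcl x h.1 h.2), hc.trans (hcl _ ?_ ?_)⟩
      · exact mul_mem (inv_mem h.1) (Subgroup.le_normalizer (inv_mem hz))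
      · intro hm
        exact h.2 (inv_mem_iff.1 (by simpa using mul_mem hm hz))
    rw [this]
    norm_cast
    have h1 : (Finset.univ.filter fun x : G =>
        x ∈ Subgroup.normalizer ((P : Subgroup G) : Set G)).card = 2 * p := by
      refine Eq.trans ?_ hI.norm
      rw [Nat.card_eq_fintype_card]; exact (Fintype.card_subtype _).symm
    have hP : (Finset.univ.filter fun x : G => x ∈ (P : Subgroup G)).card = p := by
      refine Eq.trans ?_ hI.card
      rw [Nat.card_eq_fintype_card]; exact (Fintype.card_subtype _).symm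
    have h2 := Finset.card_filter_add_card_filter_not
      (s := Finset.univ.filter fun x : G => x ∈ Subgroup.normalizer ((P : Subgroup G) : Set G))
      (fun x => x ∈ (P : Subgroup G))
    rw [Finset.filter_filter, Finset.filter_filter, h1,
      show (Finset.univ.filter fun x : G => x ∈ Subgroup.normalizer ((P : Subgroup G) : Set G) ∧
          x ∈ (P : Subgroup G)) = Finset.univ.filter fun x : G => x ∈ (P : Subgroup G) from
        Finset.filter_congr fun x _ => ⟨And.right, fun e => ⟨Subgroup.le_normalizer e, e⟩⟩, hP] at h2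
    omega
  · rw [if_neg hc, Nat.cast_eq_zero, Finset.card_eq_zero, Finset.filter_eq_empty_iff]
    intro x _ h
    obtain ⟨hx, hxP⟩ := S.pair_mem hy hz hz1 h.1 h.2
    exact hc (h.1.trans (hcl x hx hxP).symm)

variable {lam : ↥(P : Subgroup G) →* ℂˣ} {X T : Cfsg.IrrCharacter G}

/-- The decomposition against the square of the class of an involution. -/
theorem Setup.formula (S : Setup G p P) {t y : G}
    (ht : t ∈ Subgroup.normalizer ((P : Subgroup G) : Set G)) (htP : t ∉ (P : Subgroup G))
    (hy : orderOf y = 2) (hl : lam ≠ 1) (hd : IsDec lam X T) :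
    (Nat.card G : ℂ) * (1 + (X : G → ℂ) y ^ 2 / (X : G → ℂ) 1 - (T : G → ℂ) y ^ 2 / (T : G → ℂ) 1) =
      (Nat.card (Subgroup.centralizer ({y} : Set G)) : ℂ) ^ 2 *
        if IsConj y t then (p : ℂ) else 0 := by
  set c : ℂ := (Nat.card (Subgroup.centralizer ({y} : Set G)) : ℂ) with hc
  have hreal : ∀ χ : Cfsg.IrrCharacter G, conj ((χ : G → ℂ) y) = (χ : G → ℂ) y := fun χ => by
    rw [← IsIrrCharacter.apply_inv χ.2, inv_eq_iff_mul_eq_one.2 (by rw [← sq, ← hy, pow_orderOf_eq_one])]
  set a : Cfsg.IrrCharacter G → ℂ := fun χ =>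
    (Nat.card G : ℂ) * (χ : G → ℂ) y ^ 2 / (χ : G → ℂ) 1 with ha
  have hra : ∀ χ, conj (a χ) = a χ := fun χ => by
    simp only [ha, map_div₀, map_mul, map_pow, map_natCast, hreal]
    rw [Blocks.irr_one_eq, map_natCast]
  set F : G → ℂ := ∑ χ : Cfsg.IrrCharacter G, a χ • (χ : G → ℂ) with hF
  have hFc : Cfsg.IsClassFunction G F := fun w v => by
    simp only [hF, Finset.sum_apply, Pi.smul_apply]
    exact Finset.sum_congr rfl fun χ _ => by rw [IsIrrCharacter.isClassFunction χ.2 w v]
  have hFv : ∀ w : G, F w = c ^ 2 * ∑ x : G, classInd y x * classInd y (x⁻¹ * w⁻¹) := fun w => by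
    rw [← FourGroup.sum_sq_mul_div_eq y w, hF, Finset.sum_apply, Finset.mul_sum]
    refine Finset.sum_congr rfl fun χ _ => ?_
    simp only [ha, Pi.smul_apply, smul_eq_mul]
    ring
  have h1 := S.al_classInner_const hl hFc (c ^ 2 * if IsConj y t then (p : ℂ) else 0)
    fun z hz hz1 => by rw [hFv, S.pairs_card ht htP hy hz hz1]
  have hk : conj (c ^ 2 * if IsConj y t then (p : ℂ) else 0) =
      c ^ 2 * if IsConj y t then (p : ℂ) else 0 := by
    simp [hc, apply_ite conj]
  rw [hk, hF, classInner_sum_right] at h1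
  rw [← h1]
  simp only [classInner_smul_right, hra]
  simp only [hd.coeff_irr, mul_sub, mul_add, mul_ite, mul_one, mul_zero,
    Finset.sum_sub_distrib, Finset.sum_add_distrib, Finset.sum_ite_eq', Finset.mem_univ, if_true, ha,
    one_pow, div_one]
  ring

/-- The decomposition at an element whose order is not `p`. -/
theorem Setup.dec_apply (S : Setup G p P) (hd : IsDec lam X T) {g : G} (hg : orderOf g ≠ p) :
    1 + (X : G → ℂ) g - (T : G → ℂ) g = 0 := by
  have h := congrFun hd.2 g
  rw [al_eq_zero S.inv lam hg] at h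
  simp only [Pi.add_apply, Pi.sub_apply] at h
  linear_combination -h

/-- The sums over the normalizer of `P` against its two real linear characters. -/
theorem Setup.two_sums (S : Setup G p P) {t : G}
    (ht : t ∈ Subgroup.normalizer ((P : Subgroup G) : Set G)) (htP : t ∉ (P : Subgroup G))
    {χ : G → ℂ} (hχ : Cfsg.IsCharacter G χ) {c : ℂ} (hc : ∀ z ∈ (P : Subgroup G), z ≠ 1 → χ z = c) :
    (∃ i : ℕ, χ 1 + ((p : ℂ) - 1) * c + p * χ t = 2 * p * i) ∧
      ∃ j : ℕ, χ 1 + ((p : ℂ) - 1) * c - p * χ t = 2 * p * j := by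
  have hI := S.inv
  set N := Subgroup.normalizer ((P : Subgroup G) : Set G) with hN
  haveI : Fintype N := Fintype.ofFinite _
  have hidx : ((P : Subgroup G).subgroupOf N).index = 2 := by
    have := ((P : Subgroup G).subgroupOf N).card_mul_index
    rw [Nat.card_congr (Subgroup.subgroupOfEquivOfLe Subgroup.le_normalizer).toEquiv, hI.card,
      show Nat.card N = 2 * p from S.hN] at this
    exact Nat.eq_of_mul_eq_mul_left hI.prime.pos (by linarith)
  let ε : N →* ℂˣ :=
    { toFun := fun g => if (g : G) ∈ (P : Subgroup G) then 1 else -1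
      map_one' := if_pos (one_mem _)
      map_mul' := fun a b => by
        have h := Subgroup.mul_mem_iff_of_index_two hidx (a := a) (b := b)
        simp only [Subgroup.mem_subgroupOf] at h
        by_cases ha : (a : G) ∈ (P : Subgroup G) <;> by_cases hb : (b : G) ∈ (P : Subgroup G) <;>
          simp_all [Subgroup.coe_mul] }
  have hcl : Cfsg.IsClassFunction G χ := IsCharacter.isClassFunction hχ
  have hP' : (Finset.univ.filter fun g : N => (g : G) ∈ (P : Subgroup G)).card = p := by
    refine Eq.trans ?_ hI.card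
    rw [← Fintype.card_subtype, ← Nat.card_eq_fintype_card]
    exact Nat.card_congr (Subgroup.subgroupOfEquivOfLe Subgroup.le_normalizer).toEquiv
  have hout : ∀ g : N, (g : G) ∉ (P : Subgroup G) → χ (g : G) = χ t := by
    intro g hg
    have hm := S.coset ht htP g.2 hg
    have hxp : (t⁻¹ * (g : G)) ^ p = 1 := by
      have h := pow_card_eq_one' (x := (⟨_, hm⟩ : (P : Subgroup G)))
      rw [hI.card] at h
      exact congrArg Subtype.val h
    obtain ⟨k, hk⟩ := (Fact.out : p.Prime).odd_of_ne_two (by have := S.hp; omega)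
    set v : G := (t⁻¹ * (g : G)) ^ (k + 1) with hv
    have hvv : v * v = t⁻¹ * (g : G) := by
      rw [hv, ← pow_add, show k + 1 + (k + 1) = p + 1 by omega, pow_succ, hxp, one_mul]
    have hvi := (hI.involution ht htP).2 v (pow_mem hm _)
    have e : v⁻¹ * t * v⁻¹⁻¹ = (g : G) := by
      rw [inv_inv, ← hvi]
      calc t * v * t⁻¹ * t * v = t * (v * v) := by group
        _ = g := by rw [hvv, mul_inv_cancel_left]
    rw [← e, hcl t v⁻¹]
  have hsum : ∀ s : ℂ, (∑ g : N, χ (g : G) * (if (g : G) ∈ (P : Subgroup G) then 1 else s)) =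
      χ 1 + ((p : ℂ) - 1) * c + p * χ t * s := by
    intro s
    have e : ∀ g : N, χ (g : G) * (if (g : G) ∈ (P : Subgroup G) then 1 else s) =
        (if (g : G) ∈ (P : Subgroup G) then c else χ t * s) + if g = 1 then χ 1 - c else 0 := by
      intro g
      by_cases h : (g : G) ∈ (P : Subgroup G)
      · rw [if_pos h, if_pos h, mul_one]
        by_cases h1 : g = 1
        · subst h1; simp
        · rw [if_neg h1, add_zero, hc _ h fun e => h1 (Subtype.ext e)]
      · rw [if_neg h, if_neg h, hout g h, if_neg fun e => h (by rw [e]; exact one_mem _), add_zero]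
    rw [Finset.sum_congr rfl fun g _ => e g, Finset.sum_add_distrib, Finset.sum_ite_eq',
      if_pos (Finset.mem_univ _), Finset.sum_ite, Finset.sum_const, Finset.sum_const, hP']
    have hNc : (Finset.univ.filter fun g : N => (g : G) ∉ (P : Subgroup G)).card = p := by
      have h := Finset.card_filter_add_card_filter_not (s := (Finset.univ : Finset N))
        (fun g : N => (g : G) ∈ (P : Subgroup G))
      rw [hP', Finset.card_univ, ← Nat.card_eq_fintype_card, show Nat.card N = 2 * p from S.hN] at h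
      omega
    rw [hNc, nsmul_eq_mul, nsmul_eq_mul]
    ring
  have hp0 : (2 * p : ℂ) ≠ 0 :=
    mul_ne_zero two_ne_zero (Nat.cast_ne_zero.2 (Fact.out : p.Prime).ne_zero)
  have hres := IsCharacter.restrict hχ N
  have hinner : ∀ φ : N → ℂ, Cfsg.classInner (fun g : N => χ (g : G)) φ =
      (2 * p : ℂ)⁻¹ * ∑ g : N, χ (g : G) * conj (φ g) := fun φ => by
    rw [Cfsg.classInner, show Nat.card N = 2 * p from S.hN]
    push_cast
    rfl
  constructor
  · obtain ⟨i, hi⟩ := IsCharacter.classInner_nat hres (isCharacter_hom (1 : N →* ℂˣ))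
    refine ⟨i, ?_⟩
    have h := hsum 1
    rw [mul_one] at h
    rw [← h, ← hi, hinner, mul_inv_cancel_left₀ hp0]
    refine Finset.sum_congr rfl fun g _ => ?_
    simp
  · obtain ⟨j, hj⟩ := IsCharacter.classInner_nat hres (isCharacter_hom ε)
    refine ⟨j, ?_⟩
    rw [show χ 1 + ((p : ℂ) - 1) * c - p * χ t = χ 1 + ((p : ℂ) - 1) * c + p * χ t * (-1) by ring,
      ← hsum (-1), ← hj, hinner, mul_inv_cancel_left₀ hp0]
    refine Finset.sum_congr rfl fun g _ => ?_
    by_cases h : (g : G) ∈ (P : Subgroup G) <;> simp [ε, h]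

end CfsgLib.Perm.ThricePrime
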