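import Cfsg.Agent.Lib.Perm.ThricePrime.Setup
import Cfsg.Agent.Lib.Perm.SharpThreeOdd
import Mathlib.GroupTheory.GroupAction.Primitive

/-!
# The imprimitive groups of degree thrice a prime
-/

set_option autoImplicit false

open scoped Classical Pointwise

namespace CfsgLib.Perm.ThricePrime

open MulAction

universe u

variable {α : Type u} [Fintype α] {G : Subgroup (Equiv.Perm α)} {p : ℕ} [Fact p.Prime]
  {P : Sylow p G}

theorem Setup.imprimitive (S : Setup G p P) (hnp : ¬ IsPreprimitive G α) :
    ∃ (F : Type) (_ : Field F) (_ : Fintype F) (m : ℕ), Fintype.card F = 2 ^ m ∧ p = 2 ^ m + 1 ∧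
      Nonempty (G ≃* Matrix.ProjectiveSpecialLinearGroup (Fin 2) F) := by
  have hp : p.Prime := Fact.out
  have h3 := S.hp
  haveI := S.trans
  obtain ⟨B, hB, hBs, hBu⟩ : ∃ B : Set α, IsBlock G B ∧ ¬ B.Subsingleton ∧ B ≠ Set.univ := by
    by_contra hc
    push Not at hc
    refine hnp { isTrivialBlock_of_isBlock := fun {B} hB => ?_ }
    by_cases hs : B.Subsingleton
    · exact Or.inl hs
    · exact Or.inr (hc B hB (Set.not_subsingleton_iff.1 hs))
  have hne : B.Nonempty := Set.nonempty_iff_ne_empty.2 fun e => hBs (e ▸ Set.subsingleton_empty)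
  set X := orbit G B with hX
  haveI : Fintype X := Fintype.ofFinite _
  have hmul := hB.ncard_block_mul_ncard_orbit_eq hne
  rw [← hX, Nat.card_eq_fintype_card, S.hα] at hmul
  have hXc : X.ncard = Fintype.card X := by
    rw [← Nat.card_coe_set_eq, Nat.card_eq_fintype_card]
  rw [hXc] at hmul
  have hB1 : B.ncard ≠ 1 := fun e => hBs (Set.ncard_le_one_iff_subsingleton.1 e.le)
  have hB3 : B.ncard ≠ 3 * p := fun e => hBu (Set.eq_of_subset_of_ncard_le (Set.subset_univ _)
    (by rw [Set.ncard_univ, Nat.card_eq_fintype_card, S.hα, e]) )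
  -- the action on the blocks
  let φ : G →* Equiv.Perm X := MulAction.toPermHom G X
  have hinj : Function.Injective φ := by
    refine φ.ker_eq_bot_iff.1 ((S.normal_bot_or_top φ.ker).resolve_right fun e => ?_)
    refine hBu (Set.eq_univ_of_forall fun y => ?_)
    obtain ⟨x, hx⟩ := hne
    obtain ⟨g, rfl⟩ := exists_smul_eq G x y
    have h1 : φ g = 1 := MonoidHom.mem_ker.1 (e ▸ Subgroup.mem_top g)
    have h2 : g • B = B := congrArg Subtype.val
      (show g • (⟨B, mem_orbit_self B⟩ : X) = ⟨B, mem_orbit_self B⟩ from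
        congrArg (fun σ : Equiv.Perm X => σ ⟨B, mem_orbit_self B⟩) h1)
    rw [← h2]
    exact Set.smul_mem_smul_set hx
  have hcard : Fintype.card X = p := by
    have hdvd : B.ncard ∣ 3 * p := ⟨_, hmul.symm⟩
    obtain ⟨d₁, d₂, hd₁, hd₂, e⟩ := (Nat.dvd_mul).1 hdvd
    rcases (Nat.dvd_prime Nat.prime_three).1 hd₁ with rfl | rfl <;>
      rcases (Nat.dvd_prime hp).1 hd₂ with rfl | rfl
    · omega
    · -- three blocks
      exfalso
      rw [← e, one_mul] at hmul
      have hX3 : Fintype.card X = 3 :=
        Nat.eq_of_mul_eq_mul_left hp.pos (by rw [hmul]; ring)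
      have h1 := Nat.card_le_card_of_injective φ hinj
      rw [Nat.card_eq_fintype_card (α := Equiv.Perm X), Fintype.card_perm, hX3] at h1
      have h2 := Nat.le_of_dvd Nat.card_pos S.dvd_card
      simp [Nat.factorial] at h1
      rw [Nat.card_eq_fintype_card] at h2
      omega
    · rw [← e, mul_one] at hmul
      exact Nat.eq_of_mul_eq_mul_left (by norm_num) hmul
    · omega
  let eR : G ≃* φ.range := MonoidHom.ofInjective hinj
  let P' : Sylow p φ.range := P.mapSurjective (f := eR.toMonoidHom) eR.surjective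
  have hN' : Nat.card (Subgroup.normalizer ((P' : Subgroup φ.range) : Set φ.range)) = 2 * p := by
    rw [show (P' : Subgroup φ.range) = (P : Subgroup G).map eR.toMonoidHom from rfl,
      ← Subgroup.map_equiv_normalizer_eq, ← S.hN]
    exact Nat.card_congr (Subgroup.equivMapOfInjective _ _ eR.injective).toEquiv.symm
  rcases CfsgLib.Perm.PrimeDegreeDihedral.normal_or_sl_two (G := φ.range) (by omega) hcard P' hN' with
    h | ⟨m, F, hF, hFt, hpm, hFc, ⟨e⟩⟩
  · exfalso
    haveI : (P : Subgroup G).Normal := by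
      have h1 := h.comap eR.toMonoidHom
      rwa [show (P' : Subgroup φ.range) = (P : Subgroup G).map eR.toMonoidHom from rfl,
        Subgroup.comap_map_eq_self_of_injective (f := eR.toMonoidHom) eR.injective] at h1
    have hg := Nat.le_of_dvd Nat.card_pos S.dvd_card
    rcases S.normal_bot_or_top (P : Subgroup G) with e | e
    · have := S.card_P
      rw [e, Subgroup.card_bot] at this
      omega
    · have := S.card_P
      rw [e, Subgroup.card_top] at this
      omega
  · haveI : CharP F 2 := charP_of_card_eq_prime_pow (f := m) hFc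
    obtain ⟨e'⟩ := CfsgLib.Perm.SharpThreeOdd.psl_equiv_sl (F := F)
    exact ⟨F, hF, hFt, m, hFc, hpm, ⟨(eR.trans e).trans e'.symm⟩⟩

end CfsgLib.Perm.ThricePrime
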