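import Cfsg.Agent.Lib.Perm.ThricePrime.Cases

/-!
# Degree thrice a prime: a Sylow two-subgroup when involutions fix three points
-/

set_option autoImplicit false

open scoped Classical

namespace CfsgLib.Perm.ThricePrime

open MulAction CfsgLib.Char CfsgLib.Char.InvertedPrime CfsgLib.Perm.PrimeDegreeDihedral

universe u

variable {α : Type u} [Fintype α] {G : Subgroup (Equiv.Perm α)} {p : ℕ} [Fact p.Prime]
  {P : Sylow p G}

/-- The kernel of the action of a Sylow two-subgroup on the points of a central involution. -/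
structure Ker (T : Sylow 2 G) (W : Subgroup G) (F : Finset α) : Prop where
  le : W ≤ (T : Subgroup G)
  card_F : F.card = 3
  stable : ∀ s ∈ (T : Subgroup G), ∀ a ∈ F, s • a ∈ F
  mem : ∀ s, s ∈ W ↔ s ∈ (T : Subgroup G) ∧ ∀ a ∈ F, s • a = a
  fix : ∀ w ∈ W, w ≠ 1 → ∀ a : α, w • a = a → a ∈ F
  central : ∃ z ∈ W, orderOf z = 2 ∧ ∀ s ∈ (T : Subgroup G), s * z = z * s
  index : Nat.card (T : Subgroup G) ≤ 2 * Nat.card W
  dvd : Nat.card W ∣ p - 1

omit [Fact p.Prime] in
theorem exists_pow_orderOf_two {T : Sylow 2 G} {w : G} (hw : w ∈ (T : Subgroup G)) (hw1 : w ≠ 1) :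
    ∃ j : ℕ, orderOf (w ^ j) = 2 := by
  obtain ⟨k, hk⟩ := T.isPGroup' ⟨w, hw⟩
  have hd : orderOf w ∣ 2 ^ k := orderOf_dvd_of_pow_eq_one (congrArg Subtype.val hk)
  obtain ⟨i, -, hi⟩ := (Nat.dvd_prime_pow Nat.prime_two).1 hd
  rcases Nat.eq_zero_or_pos i with rfl | h
  · exact absurd (orderOf_eq_one_iff.1 (by simpa using hi)) hw1
  · refine ⟨2 ^ (i - 1), ?_⟩
    rw [orderOf_pow' _ (pow_ne_zero _ two_ne_zero), hi,
      Nat.gcd_eq_right (pow_dvd_pow 2 (Nat.sub_le i 1)), Nat.pow_div (Nat.sub_le i 1) two_pos,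
      show i - (i - 1) = 1 by omega, pow_one]

theorem Setup.exists_ker (S : Setup G p P) (h3 : ∀ y : G, orderOf y = 2 → fixNum y = 3)
    (T : Sylow 2 G) : ∃ (W : Subgroup G) (F : Finset α), Ker (p := p) T W F := by
  haveI : Fact (Nat.Prime 2) := ⟨Nat.prime_two⟩
  have hT4 : 2 ∣ Nat.card ↥(T : Subgroup G) :=
    T.dvd_card_of_dvd_card ((dvd_trans (by norm_num) S.four_dvd_card : 2 ∣ Nat.card G))
  have hne : Nontrivial ↥(T : Subgroup G) := by
    rw [← Finite.one_lt_card_iff_nontrivial]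
    exact Nat.le_of_dvd Nat.card_pos hT4
  have hZ : Nontrivial ↥(Subgroup.center ↥(T : Subgroup G)) := IsPGroup.center_nontrivial T.isPGroup'
  obtain ⟨z, hz, hzT, hzc⟩ : ∃ z : G, orderOf z = 2 ∧ z ∈ (T : Subgroup G) ∧
      ∀ s ∈ (T : Subgroup G), s * z = z * s := by
    obtain ⟨k, hk, h⟩ := (T.isPGroup'.to_subgroup (Subgroup.center _)).nontrivial_iff_card.1 hZ
    obtain ⟨x, hx⟩ := exists_prime_orderOf_dvd_card'
      (G := ↥(Subgroup.center ↥(T : Subgroup G))) 2 (h ▸ dvd_pow_self 2 hk.ne')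
    refine ⟨(x : ↥(T : Subgroup G)), ?_, (x : ↥(T : Subgroup G)).2, fun s hs => ?_⟩
    · rw [Subgroup.orderOf_coe, Subgroup.orderOf_coe, hx]
    · exact congrArg Subtype.val (Subgroup.mem_center_iff.1 x.2 ⟨s, hs⟩)
  set F : Finset α := Finset.univ.filter fun a => z • a = a with hF
  set W := (T : Subgroup G) ⊓ fixingSubgroup G (F : Set α) with hW
  have hmem : ∀ s, s ∈ W ↔ s ∈ (T : Subgroup G) ∧ ∀ a ∈ F, s • a = a := fun s => by
    simp [hW, mem_fixingSubgroup_iff]
  have hst : ∀ s ∈ (T : Subgroup G), ∀ a ∈ F, s • a ∈ F := by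
    intro s hs a ha
    simp only [hF, Finset.mem_filter, Finset.mem_univ, true_and] at ha ⊢
    rw [← mul_smul, ← hzc s hs, mul_smul, ha]
  have hfix : ∀ w ∈ W, w ≠ 1 → (Finset.univ.filter fun a : α => w • a = a) = F := by
    intro w hw hw1
    obtain ⟨hwT, hwF⟩ := (hmem w).1 hw
    obtain ⟨j, hj⟩ := exists_pow_orderOf_two hwT hw1
    have hsub : F ⊆ Finset.univ.filter fun a : α => w • a = a := fun a ha => by
      simpa using hwF a ha
    have hsub2 : (Finset.univ.filter fun a : α => w • a = a) ⊆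
        Finset.univ.filter fun a : α => w ^ j • a = a := fun a ha => by
      simp only [Finset.mem_filter, Finset.mem_univ, true_and] at ha ⊢
      exact Subgroup.pow_mem (stabilizer G a) ha j
    have h1 : F.card = 3 := h3 z hz
    have h2 := Finset.eq_of_subset_of_card_le (hsub.trans hsub2)
      (by rw [h1]; exact (h3 _ hj).le)
    exact le_antisymm (h2 ▸ hsub2) hsub
  refine ⟨W, F, inf_le_left, h3 z hz, hst, hmem, fun w hw hw1 a ha => ?_, ⟨z, ?_, hz, hzc⟩, ?_, ?_⟩
  · rw [← hfix w hw hw1]; simpa using ha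
  · exact (hmem z).2 ⟨hzT, fun a ha => (Finset.mem_filter.1 ha).2⟩
  · letI : MulAction ↥(T : Subgroup G) {a // a ∈ F} :=
      { smul := fun s a => ⟨(s : G) • (a : α), hst _ s.2 _ a.2⟩
        one_smul := fun a => Subtype.ext (one_smul G (a : α))
        mul_smul := fun s t a => Subtype.ext (mul_smul (s : G) (t : G) (a : α)) }
    set φ := MulAction.toPermHom ↥(T : Subgroup G) {a // a ∈ F} with hφ
    have hker : φ.ker = W.subgroupOf (T : Subgroup G) := by
      ext s
      rw [MonoidHom.mem_ker, Subgroup.mem_subgroupOf, hmem]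
      constructor
      · intro h
        exact ⟨s.2, fun a ha => congrArg Subtype.val (Equiv.ext_iff.1 h ⟨a, ha⟩)⟩
      · intro h
        exact Equiv.ext fun a => Subtype.ext (h.2 a.1 a.2)
    have hmul := φ.ker.card_mul_index
    rw [Subgroup.index_ker, hker, Nat.card_congr (Subgroup.subgroupOfEquivOfLe
      (inf_le_left : W ≤ (T : Subgroup G))).toEquiv] at hmul
    obtain ⟨i, hi⟩ := (T.isPGroup'.of_surjective φ.rangeRestrict φ.rangeRestrict_surjective).exists_card_eq
    have h6 : Nat.card φ.range ∣ 6 := by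
      have h := Subgroup.card_subgroup_dvd_card φ.range
      rwa [Nat.card_eq_fintype_card (α := Equiv.Perm _), Fintype.card_perm, Fintype.card_coe,
        show F.card = 3 from h3 z hz] at h
    have hi1 : i ≤ 1 := by
      by_contra hi2
      have : 2 ^ 2 ∣ 6 := ((pow_dvd_pow 2 (by omega)).trans (hi ▸ h6))
      omega
    rw [← hmul, mul_comm 2]
    refine Nat.mul_le_mul_left _ ?_
    rw [hi]
    calc 2 ^ i ≤ 2 ^ 1 := Nat.pow_le_pow_right two_pos hi1
      _ = 2 := rfl
  · haveI : Finite (orbitRel.Quotient W α) := Quotient.finite _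
    letI := Fintype.ofFinite (orbitRel.Quotient W α)
    haveI : ∀ x : W, Fintype (fixedBy α x) := fun x => Fintype.ofFinite _
    have hb := sum_card_fixedBy_eq_card_orbits_mul_card_group W α
    have hval : ∀ w : W, Fintype.card (fixedBy α w) = if w = 1 then 3 * p else 3 := by
      intro w
      have e : Fintype.card (fixedBy α w) =
          (Finset.univ.filter fun a : α => (w : G) • a = a).card := by
        rw [← Fintype.card_subtype]
        exact Fintype.card_congr (Equiv.subtypeEquivRight fun a => Iff.rfl)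
      split_ifs with hw
      · rw [e, hw]
        simp [S.hα]
      · rw [e, hfix w w.2 fun h => hw (Subtype.ext h)]
        exact h3 z hz
    simp only [hval] at hb
    rw [← Finset.add_sum_erase _ _ (Finset.mem_univ (1 : W)), if_pos rfl,
      Finset.sum_congr rfl fun w hw => if_neg (Finset.ne_of_mem_erase hw), Finset.sum_const,
      Finset.card_erase_of_mem (Finset.mem_univ _), Finset.card_univ, smul_eq_mul,
      ← Nat.card_eq_fintype_card (α := W)] at hb
    set w := Nat.card W with hw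
    have hwpos : 1 ≤ w := Nat.card_pos
    have hd : w ∣ 3 * (p - 1) := by
      have h1 : w ∣ 3 * (p - 1) + 3 * w := by
        rw [show 3 * (p - 1) + 3 * w = 3 * p + (w - 1) * 3 by
          have := S.hp; omega, hb]
        exact dvd_mul_left _ _
      exact (Nat.dvd_add_left (dvd_mul_left w 3)).1 h1
    obtain ⟨j, hj⟩ := (T.isPGroup'.to_le (inf_le_left : W ≤ (T : Subgroup G))).exists_card_eq
    rw [← hw] at hj
    exact ((hj ▸ (Nat.Coprime.pow_left j (by decide : Nat.Coprime 2 3))) :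
      Nat.Coprime w 3).dvd_of_dvd_mul_left hd

/-- The two-part of the order is at most twice that of `p - 1`. -/
theorem Setup.fact_le (S : Setup G p P) (h3 : ∀ y : G, orderOf y = 2 → fixNum y = 3) :
    (Nat.card G).factorization 2 ≤ (p - 1).factorization 2 + 1 := by
  haveI : Fact (Nat.Prime 2) := ⟨Nat.prime_two⟩
  obtain ⟨T⟩ : Nonempty (Sylow 2 G) := inferInstance
  obtain ⟨W, F, hK⟩ := S.exists_ker h3 T
  obtain ⟨j, hj⟩ := (T.isPGroup'.to_le hK.le).exists_card_eq
  have h1 : j ≤ (p - 1).factorization 2 :=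
    (Nat.prime_two.pow_dvd_iff_le_factorization (by have := S.hp; omega)).1 (hj ▸ hK.dvd)
  have h2 := hK.index
  rw [hj, show 2 * 2 ^ j = 2 ^ (j + 1) by ring,
    show Nat.card (T : Subgroup G) = 2 ^ (Nat.card G).factorization 2 from T.card_eq_multiplicity] at h2
  have := (Nat.pow_le_pow_iff_right (a := 2) (by norm_num)).1 h2
  omega

end CfsgLib.Perm.ThricePrime
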