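import Cfsg.Agent.Lib.Perm.ThricePrime.Embedded
import Cfsg.Agent.Lib.Perm.ThricePrime.SylowKernel

/-!
# Degree thrice a prime: the arithmetic when `θ` has degree `3 * p - 1`
-/

set_option autoImplicit false

open scoped Classical

namespace CfsgLib.Perm.ThricePrime

open MulAction CfsgLib.Char CfsgLib.Char.InvertedPrime CfsgLib.Perm.PrimeDegreeDihedral

universe u

variable {α : Type u} [Fintype α] {G : Subgroup (Equiv.Perm α)} {p : ℕ} [Fact p.Prime]
  {P : Sylow p G}

variable {θ : Cfsg.IrrCharacter G} {tz : G → ℤ} {n : ℕ}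

theorem Theta.fix_three (S : Setup G p P) (hT : Theta P θ tz n) {t : G}
    (ht : t ∈ Subgroup.normalizer ((P : Subgroup G) : Set G)) (htP : t ∉ (P : Subgroup G))
    (h3 : fixNum t = 3) : ∀ y : G, orderOf y = 2 → fixNum y = 3 := fun y hy => by
  rw [hT.fix_eq S ht htP hy, h3]

theorem Setup.three_dvd (S : Setup G p P) : 3 ∣ Nat.card G :=
  (dvd_mul_right 3 p).trans S.dvd_card

theorem Theta.two_part_three (S : Setup G p P) (hT : Theta P θ tz n) (hn : n = 3) {t : G}
    (ht : t ∈ Subgroup.normalizer ((P : Subgroup G) : Set G)) (htP : t ∉ (P : Subgroup G)) :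
    fixNum t = 3 ∧ (p - 1).factorization 2 = 2 ∧ (Nat.card G).factorization 2 = 3 := by
  have ht2 := (S.inv.involution ht htP).1
  have h := hT.formula_t S ht htP
  have hv := S.fact_centralizer ht2 fun y hy => hT.one_class S ht htP hy
  set c := Nat.card (Subgroup.centralizer ({t} : Set G)) with hc
  set g := Nat.card G with hg
  have hc0 : c ≠ 0 := Nat.card_pos.ne'
  have hg0 : g ≠ 0 := Nat.card_pos.ne'
  have htz : tz t = (fixNum t : ℤ) - 1 := by have := hT.eq_three S hn t; omega
  have hd : tz 1 = 3 * (p : ℤ) - 1 := by rw [hT.deg, hn]; push_cast; ring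
  have hp5 := S.five_le
  rw [htz, hd] at h
  rcases S.fix_outer ht htP with ⟨hf, hp4⟩ | ⟨hf, hp4⟩
  · exfalso
    have h' : g * (3 * p - 1) = c ^ 2 * p * (3 * p - 2) := by
      rw [hf] at h
      have e : ((g * (3 * p - 1) : ℕ) : ℤ) = ((c ^ 2 * p * (3 * p - 2) : ℕ) : ℤ) := by
        push_cast [Nat.cast_sub (show 1 ≤ 3 * p by omega), Nat.cast_sub (show 2 ≤ 3 * p by omega)]
        refine mul_left_cancel₀ (show (3 * (p : ℤ) - 1) ≠ 0 by omega) ?_
        push_cast at h
        linear_combination h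
      exact_mod_cast e
    set θd := 3 * p - 1 with hθd
    have hθ0 : θd ≠ 0 := by omega
    obtain ⟨k, hk⟩ : c ∣ g := Subgroup.card_subgroup_dvd_card _
    have hk' : k * θd = c * (p * (3 * p - 2)) := by
      refine Nat.eq_of_mul_eq_mul_left (Nat.pos_of_ne_zero hc0) ?_
      rw [← mul_assoc, ← hk, h']; ring
    have hθc : θd ∣ c := by
      refine Nat.Coprime.dvd_of_dvd_mul_right ?_ (hk' ▸ dvd_mul_left θd k)
      refine Nat.Coprime.mul_right ?_ ?_
      · refine ((Fact.out : p.Prime).coprime_iff_not_dvd.2 fun hd' => ?_).symm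
        have h1 : p ∣ 3 * p - θd := Nat.dvd_sub (dvd_mul_left p 3) hd'
        rw [show 3 * p - θd = 1 by omega] at h1
        have := Nat.le_of_dvd one_pos h1
        omega
      · rw [show θd = 3 * p - 2 + 1 by omega]
        simp
    obtain ⟨j, hj⟩ := hθc
    have hgj : g = p * (3 * p - 2) * θd * (j * j) := by
      refine Nat.eq_of_mul_eq_mul_right (Nat.pos_of_ne_zero hθ0) ?_
      rw [h', hj]; ring
    have hj3 : 3 ∣ j := by
      have h1 : 3 ∣ p * (3 * p - 2) * θd * (j * j) := hgj ▸ S.three_dvd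
      rcases Nat.prime_three.dvd_mul.1 h1 with h2 | h2
      · exfalso
        rcases Nat.prime_three.dvd_mul.1 h2 with h3 | h3
        · rcases Nat.prime_three.dvd_mul.1 h3 with h4 | h4
          · have := (Nat.prime_dvd_prime_iff_eq Nat.prime_three Fact.out).1 h4
            omega
          · omega
        · omega
      · exact (Nat.prime_three.dvd_mul.1 h2).elim id id
    have hge : p * (3 * p - 2) * θd * 9 ≤ g := by
      rw [hgj]
      refine Nat.mul_le_mul_left _ ?_
      obtain ⟨i, rfl⟩ := hj3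
      have hi : 1 ≤ i := Nat.one_le_iff_ne_zero.2 fun e => hg0 (by rw [hgj, e]; ring)
      nlinarith
    obtain ⟨s, hs, ⟨i, hi⟩, hle⟩ := S.exists_order_bound fun y hy => by rw [hT.fix_eq S ht htP hy, hf]
    have hfact : g.factorization 2 = θd.factorization 2 := by
      have e := congrArg (fun m => m.factorization 2) h'
      simp only [Nat.factorization_mul hg0 hθ0, Nat.factorization_mul (mul_ne_zero (pow_ne_zero 2 hc0)
        (by omega : p ≠ 0)) (by omega : 3 * p - 2 ≠ 0), Nat.factorization_mul (pow_ne_zero 2 hc0)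
        (by omega : p ≠ 0), Nat.factorization_pow, Finsupp.add_apply, Finsupp.smul_apply, smul_eq_mul,
        Nat.factorization_eq_zero_of_not_dvd (show ¬ 2 ∣ p by omega),
        Nat.factorization_eq_zero_of_not_dvd (show ¬ 2 ∣ 3 * p - 2 by omega)] at e
      omega
    have hsθ : s ≤ θd := by
      refine Nat.le_of_dvd (Nat.pos_of_ne_zero hθ0) ?_
      rw [hi] at hs ⊢
      have := (Nat.prime_two.pow_dvd_iff_le_factorization hg0).1 hs
      exact (Nat.prime_two.pow_dvd_iff_le_factorization hθ0).2 (by omega)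
    have h1 : s * (s ^ 2 - 1) ≤ θd * ((3 * p) * (3 * p - 2)) := by
      refine Nat.mul_le_mul hsθ ?_
      calc s ^ 2 - 1 ≤ θd ^ 2 - 1 := Nat.sub_le_sub_right (Nat.pow_le_pow_left hsθ 2) 1
        _ = θd ^ 2 - 1 ^ 2 := by rw [one_pow]
        _ = (θd + 1) * (θd - 1) := Nat.sq_sub_sq _ _
        _ = _ := by rw [show θd + 1 = 3 * p by omega, show θd - 1 = 3 * p - 2 by omega]
    have h2 : 0 < p * (3 * p - 2) * θd := Nat.mul_pos (Nat.mul_pos (by omega) (by omega)) (by omega)
    have h3 : θd * ((3 * p) * (3 * p - 2)) = p * (3 * p - 2) * θd * 3 := by ring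
    omega
  · have h' : g * (9 * (p - 1) ^ 2) = c ^ 2 * p * ((3 * p - 1) * (3 * p - 2)) := by
      rw [hf] at h
      have e : ((g * (9 * (p - 1) ^ 2) : ℕ) : ℤ) =
          ((c ^ 2 * p * ((3 * p - 1) * (3 * p - 2)) : ℕ) : ℤ) := by
        push_cast [Nat.cast_sub (show 1 ≤ 3 * p by omega), Nat.cast_sub (show 2 ≤ 3 * p by omega),
          Nat.cast_sub (show 1 ≤ p by omega)]
        push_cast at h
        linear_combination h
      exact_mod_cast e
    have e := congrArg (fun m => m.factorization 2) h'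
    have hA : (3 * p - 1).factorization 2 = 1 := by
      rw [show 3 * p - 1 = 2 ^ 1 * ((3 * p - 1) / 2) by omega,
        Nat.factorization_mul (by norm_num) (by omega), Finsupp.add_apply,
        Nat.factorization_eq_zero_of_not_dvd (show ¬ 2 ∣ (3 * p - 1) / 2 by omega)]
      simp [Nat.prime_two.factorization_self]
    simp only [Nat.factorization_mul hg0 (show 9 * (p - 1) ^ 2 ≠ 0 from
        mul_ne_zero (by norm_num) (pow_ne_zero 2 (by omega))),
      Nat.factorization_mul (show (9 : ℕ) ≠ 0 by norm_num) (pow_ne_zero 2 (by omega : p - 1 ≠ 0)),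
      Nat.factorization_mul (mul_ne_zero (pow_ne_zero 2 hc0) (by omega : p ≠ 0))
        (mul_ne_zero (by omega : 3 * p - 1 ≠ 0) (by omega : 3 * p - 2 ≠ 0)),
      Nat.factorization_mul (by omega : 3 * p - 1 ≠ 0) (by omega : 3 * p - 2 ≠ 0),
      Nat.factorization_mul (pow_ne_zero 2 hc0) (by omega : p ≠ 0), Nat.factorization_pow,
      Finsupp.add_apply, Finsupp.smul_apply, smul_eq_mul,
      Nat.factorization_eq_zero_of_not_dvd (show ¬ 2 ∣ p by omega),
      Nat.factorization_eq_zero_of_not_dvd (show ¬ 2 ∣ 9 by omega),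
      Nat.factorization_eq_zero_of_not_dvd (show ¬ 2 ∣ 3 * p - 2 by omega), hA] at e
    have hle := S.fact_le (hT.fix_three S ht htP hf)
    have he2 : 2 ≤ (p - 1).factorization 2 :=
      (Nat.prime_two.pow_dvd_iff_le_factorization (by omega)).1 (show 2 ^ 2 ∣ p - 1 by omega)
    rw [← hg] at hle
    refine ⟨hf, by omega, by omega⟩

end CfsgLib.Perm.ThricePrime
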