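import Cfsg.Agent.Lib.Perm.ThricePrime.NThree

/-!
# Degree thrice a prime: the arithmetic when `θ` has degree `2 * p - 1`
-/

set_option autoImplicit false

open scoped Classical

namespace CfsgLib.Perm.ThricePrime

open MulAction CfsgLib.Char CfsgLib.Char.InvertedPrime CfsgLib.Perm.PrimeDegreeDihedral

universe u

variable {α : Type u} [Fintype α] {G : Subgroup (Equiv.Perm α)} {p : ℕ} [Fact p.Prime]
  {P : Sylow p G}

variable {θ : Cfsg.IrrCharacter G} {tz : G → ℤ} {n : ℕ}

/-- The numerical data of the case `n = 2`. -/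
structure Two (P : Sylow p G) (tz : G → ℤ) (t : G) : Prop where
  four : p % 4 = 1
  fix : fixNum t = 3
  fixes : ∀ y : G, orderOf y = 2 → fixNum y = 3
  val : tz t = 1
  eqn : 2 * Nat.card G * (p - 1) =
    p * Nat.card (Subgroup.centralizer ({t} : Set G)) ^ 2 * (2 * p - 1)
  two_part : (Nat.card G).factorization 2 = (p - 1).factorization 2 + 1

theorem Theta.two (S : Setup G p P) (hT : Theta P θ tz n) (hn : n = 2) {t : G}
    (ht : t ∈ Subgroup.normalizer ((P : Subgroup G) : Set G)) (htP : t ∉ (P : Subgroup G)) :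
    Two P tz t := by
  have hp : p.Prime := Fact.out
  have ht2 := (S.inv.involution ht htP).1
  have h := hT.formula_t S ht htP
  have hv := S.fact_centralizer ht2 fun y hy => hT.one_class S ht htP hy
  set c := Nat.card (Subgroup.centralizer ({t} : Set G)) with hc
  set g := Nat.card G with hg
  have hc0 : c ≠ 0 := Nat.card_pos.ne'
  have hg0 : g ≠ 0 := Nat.card_pos.ne'
  have hd : tz 1 = 2 * (p : ℤ) - 1 := by rw [hT.deg, hn]; push_cast; ring
  have hp5 := S.five_le
  obtain ⟨h1, h2, h3⟩ := hT.value_t S ht htP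
  rw [hn] at h1 h2 h3
  rw [hd] at h
  have ha : tz t = 1 := by
    rcases (show tz t = 1 ∨ tz t = -1 by omega) with ha | ha
    · exact ha
    exfalso
    rw [ha] at h
    have e : ((2 * p * g : ℕ) : ℤ) = ((c ^ 2 * ((2 * p - 1) * (p - 1)) : ℕ) : ℤ) := by
      push_cast [Nat.cast_sub (show 1 ≤ p by omega), Nat.cast_sub (show 1 ≤ 2 * p by omega)]
      refine mul_left_cancel₀ (show (2 * (p : ℤ)) ≠ 0 by omega) ?_
      push_cast at h
      linear_combination h
    have e' : 2 * p * g = c ^ 2 * ((2 * p - 1) * (p - 1)) := by exact_mod_cast e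
    have hdvd : p ∣ c ^ 2 * ((2 * p - 1) * (p - 1)) := e' ▸ dvd_mul_of_dvd_left (dvd_mul_left p 2) g
    rcases hp.dvd_mul.1 hdvd with hh | hh
    · exact S.fact_centralizer_le ht2 (hc ▸ hp.dvd_of_dvd_pow hh)
    · rcases hp.dvd_mul.1 hh with hh | hh
      · have h4 : p ∣ 2 * p - (2 * p - 1) := Nat.dvd_sub (dvd_mul_left p 2) hh
        rw [show 2 * p - (2 * p - 1) = 1 by omega] at h4
        have := Nat.le_of_dvd one_pos h4
        omega
      · have := Nat.le_of_dvd (by omega) hh
        omega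
  rw [ha] at h
  have heq : 2 * g * (p - 1) = p * c ^ 2 * (2 * p - 1) := by
    have e : ((2 * g * (p - 1) : ℕ) : ℤ) = ((p * c ^ 2 * (2 * p - 1) : ℕ) : ℤ) := by
      push_cast [Nat.cast_sub (show 1 ≤ p by omega), Nat.cast_sub (show 1 ≤ 2 * p by omega)]
      refine mul_left_cancel₀ (show (2 * (p : ℤ) - 2) ≠ 0 by omega) ?_
      push_cast at h
      linear_combination h
    exact_mod_cast e
  have hv2 : g.factorization 2 = (p - 1).factorization 2 + 1 := by
    have e := congrArg (fun m => m.factorization 2) heq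
    simp only [Nat.factorization_mul (mul_ne_zero two_ne_zero hg0) (by omega : p - 1 ≠ 0),
      Nat.factorization_mul (two_ne_zero : (2 : ℕ) ≠ 0) hg0,
      Nat.factorization_mul (mul_ne_zero (by omega : p ≠ 0) (pow_ne_zero 2 hc0))
        (by omega : 2 * p - 1 ≠ 0),
      Nat.factorization_mul (by omega : p ≠ 0) (pow_ne_zero 2 hc0), Nat.factorization_pow,
      Finsupp.add_apply, Finsupp.smul_apply, smul_eq_mul, Nat.prime_two.factorization_self,
      Nat.factorization_eq_zero_of_not_dvd (show ¬ 2 ∣ p by have := S.odd_p; omega),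
      Nat.factorization_eq_zero_of_not_dvd (show ¬ 2 ∣ 2 * p - 1 by omega)] at e
    omega
  rcases S.fix_outer ht htP with ⟨hf, hp4⟩ | ⟨hf, hp4⟩
  · exfalso
    have he : (p - 1).factorization 2 = 1 := by
      rw [show p - 1 = 2 ^ 1 * ((p - 1) / 2) by omega,
        Nat.factorization_mul (by norm_num) (by omega), Finsupp.add_apply,
        Nat.factorization_eq_zero_of_not_dvd (show ¬ 2 ∣ (p - 1) / 2 by omega)]
      simp [Nat.prime_two.factorization_self]
    obtain ⟨s, hs, ⟨i, rfl⟩, hle⟩ := S.exists_order_bound fun y hy => by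
      rw [hT.fix_eq S ht htP hy, hf]
    have hi := (Nat.prime_two.pow_dvd_iff_le_factorization hg0).1 hs
    have hs4 : 2 ^ i ≤ 4 := by
      calc 2 ^ i ≤ 2 ^ 2 := Nat.pow_le_pow_right two_pos (by omega)
        _ = 4 := rfl
    have h60 : g ≤ 60 := hle.trans ((Nat.mul_le_mul hs4
      (Nat.sub_le_sub_right (Nat.pow_le_pow_left hs4 2) 1)).trans (by norm_num))
    have h12 : 4 * (3 * p) ∣ g := by
      refine Nat.Coprime.mul_dvd_of_dvd_of_dvd (Nat.Coprime.mul_right (by norm_num) ?_)
        S.four_dvd_card S.dvd_card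
      exact (Nat.coprime_two_left.2 (Nat.odd_iff.2 (by omega))).pow_left 2
    have := Nat.le_of_dvd (Nat.pos_of_ne_zero hg0) h12
    omega
  · exact ⟨hp4, hf, hT.fix_three S ht htP hf, ha, heq, hv2⟩

end CfsgLib.Perm.ThricePrime
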