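import Cfsg.Agent.Lib.Perm.ThricePrime.Special
import Cfsg.Agent.Lib.Perm.FourOdd.FourGroup
import Cfsg.Agent.Lib.Blocks.FourGroupOrder
import Cfsg.Agent.Lib.Fusion.ThompsonTransfer
import Cfsg.Agent.S0948

/-!
# Degree thrice a prime: centralizer orders
-/

set_option autoImplicit false

open scoped Classical

namespace CfsgLib.Perm.ThricePrime

open MulAction CfsgLib.Char CfsgLib.Char.InvertedPrime CfsgLib.Perm.PrimeDegreeDihedral

universe u

variable {α : Type u} [Fintype α] {G : Subgroup (Equiv.Perm α)} {p : ℕ} [Fact p.Prime]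
  {P : Sylow p G}

variable {T : Sylow 2 G} {W : Subgroup G} {F : Finset α} {σ s : G} {a : α}

theorem Eight.orderOf_σs (E : Eight (p := p) T W F σ s a) : orderOf (σ * s) = 2 := by
  refine orderOf_eq_prime ?_ fun e => E.gen.nb ?_
  · rw [sq]
    have := CfsgLib.Involution.DihedralSylow.refl_sq E.gen 1
    simpa using this
  · rw [eq_inv_of_mul_eq_one_right e]
    exact Subgroup.inv_mem _ (Subgroup.mem_zpowers σ)

theorem Eight.orderOf_zσs (E : Eight (p := p) T W F σ s a) : orderOf (σ ^ 2 * (σ * s)) = 2 := by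
  refine orderOf_eq_prime ?_ fun e => E.gen.nb ?_
  · rw [sq]
    have := CfsgLib.Involution.DihedralSylow.refl_sq E.gen 3
    rwa [show σ ^ (3 : ℤ) * s = σ ^ 2 * (σ * s) by group] at this
  · have hs : s = σ⁻¹ * (σ ^ 2)⁻¹ := by
      calc s = σ⁻¹ * (σ ^ 2)⁻¹ * (σ ^ 2 * (σ * s)) := by group
        _ = _ := by rw [e, mul_one]
    rw [hs]
    exact mul_mem (inv_mem (Subgroup.mem_zpowers σ))
      (inv_mem (Subgroup.pow_mem _ (Subgroup.mem_zpowers σ) 2))

/-- The odd elements commuting with `u`. -/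
abbrev OddCent (u : G) : Type u := {y : G // Commute y u ∧ ¬ 2 ∣ orderOf y}

omit [Fintype α] in
theorem card_oddCent_conj (k u : G) :
    Nat.card (OddCent (k * u * k⁻¹)) = Nat.card (OddCent u) := by
  refine (Nat.card_congr (Equiv.subtypeEquiv (MulAut.conj k).toEquiv fun y => ?_)).symm
  change Commute y u ∧ _ ↔ Commute (MulAut.conj k y) (MulAut.conj k u) ∧ ¬ 2 ∣ orderOf (MulAut.conj k y)
  rw [commute_map_iff (MulAut.conj k).injective, MulEquiv.orderOf_eq]

theorem Eight.card_oddCent (E : Eight (p := p) T W F σ s a) :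
    Nat.card (Subgroup.centralizer ({σ ^ 2} : Set G)) = 8 * Nat.card (OddCent (σ ^ 2)) := by
  haveI : Fact (Nat.Prime 2) := ⟨Nat.prime_two⟩
  set C := Subgroup.centralizer ({σ ^ 2} : Set G) with hC
  have hle : (T : Subgroup G) ≤ C := fun x hx =>
    Subgroup.mem_centralizer_singleton_iff.2 (E.z_comm hx).eq.symm
  let T' : Sylow 2 C := T.subtype hle
  obtain ⟨π, hπ, hker⟩ := CfsgLib.BrauerSuzuki.exists_retraction E.npc T'
  have hT' : Nat.card (T' : Subgroup C) = 8 :=
    (Nat.card_congr (Subgroup.subgroupOfEquivOfLe hle).toEquiv).trans E.card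
  rw [← π.ker.card_mul_index, Subgroup.index_ker,
    (MonoidHom.range_eq_top (f := π)).2 fun q => ⟨q, hπ q⟩, Subgroup.card_top, hT', mul_comm]
  congr 1
  have hmem : ∀ g : C, g ∈ π.ker ↔ ¬ 2 ∣ orderOf (g : G) := fun g => by
    rw [Subgroup.orderOf_coe]
    refine ⟨fun hg => (Nat.Prime.coprime_iff_not_dvd Nat.prime_two).1 (hker g hg).symm, fun hg => ?_⟩
    have h1 : orderOf (π g) ∣ orderOf g := orderOf_map_dvd π g
    have h2 : orderOf (π g) ∣ 2 ^ 3 := by
      have := orderOf_dvd_natCard (π g)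
      rwa [hT'] at this
    rw [MonoidHom.mem_ker, ← orderOf_eq_one_iff]
    exact Nat.eq_one_of_dvd_coprimes
      (((Nat.prime_two.coprime_iff_not_dvd).2 hg).pow_left 3) h2 h1
  exact Nat.card_congr
    { toFun := fun g => ⟨((g : C) : G), Subgroup.mem_centralizer_singleton_iff.1 g.1.2, (hmem g).1 g.2⟩
      invFun := fun y => ⟨⟨y.1, Subgroup.mem_centralizer_singleton_iff.2 y.2.1.eq⟩, (hmem _).2 y.2.2⟩
      left_inv := fun g => rfl
      right_inv := fun y => rfl }

theorem card_stab_orbit (a b : α) :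
    Nat.card (orbit (stabilizer G a) b) * Nat.card (stabilizer G a ⊓ stabilizer G b : Subgroup G) =
      Nat.card (stabilizer G a) := by
  rw [← Nat.card_congr (orbitProdStabilizerEquivGroup (stabilizer G a) b), Nat.card_prod]
  congr 1
  exact Nat.card_congr
    { toFun := fun g => ⟨⟨g.1, g.2.1⟩, g.2.2⟩
      invFun := fun g => ⟨g.1.1, g.1.2, g.2⟩
      left_inv := fun g => rfl
      right_inv := fun g => rfl }

theorem Special.count_pair {E : Eight (p := p) T W F σ s a} (Sp : Special E) (S : Setup G p P) {b : α}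
    (hb : b ∈ F) (hb' : ∀ g : G, Commute g (σ * s) → g • b = b)
    (hk : Nat.card (orbit (stabilizer G a) b) % 4 = 2) :
    8 * Nat.card G * Nat.card (Subgroup.centralizer ({σ ^ 2, σ * s} : Set G)) ^ 2 =
      3 * p * Nat.card (orbit (stabilizer G a) b) *
        Nat.card (Subgroup.centralizer ({σ ^ 2} : Set G)) ^ 3 := by
  haveI : Fact (Nat.Prime 2) := ⟨Nat.prime_two⟩
  set k := Nat.card (orbit (stabilizer G a) b) with hkdef
  set D := stabilizer G a ⊓ stabilizer G b with hD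
  set u := σ * s with hu
  have hu2 : orderOf u = 2 := E.orderOf_σs
  have hz2 := E.orderOf_z
  have hzu : Commute (σ ^ 2) u := E.z_comm (mul_mem E.gen.amem E.gen.bmem)
  have hzzu : σ ^ 2 * σ ^ 2 = 1 := by
    have := pow_orderOf_eq_one (σ ^ 2); rwa [hz2, sq (σ ^ 2)] at this
  have huu : u * u = 1 := by
    have := pow_orderOf_eq_one u; rwa [hu2, sq u] at this
  have hWD : W ≤ D := fun w hw => ⟨((E.ker.mem w).1 hw).2 a E.aF, ((E.ker.mem w).1 hw).2 b hb⟩
  -- a Sylow subgroup of the two-point stabilizer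
  have hA : k * Nat.card D = Nat.card (stabilizer G a) := card_stab_orbit a b
  have hg : Nat.card G = 3 * p * (k * Nat.card D) := by rw [hA, ← S.card_stab a, mul_comm]
  have hfac : (Nat.card G).factorization 2 = 3 := by
    have h := T.card_eq_multiplicity
    rw [show Nat.card T = 8 from E.card] at h
    exact (Nat.pow_right_injective le_rfl (h.symm.trans (show 8 = 2 ^ 3 from rfl)))
  have hD2 : (Nat.card D).factorization 2 = 2 := by
    have hk2 : k.factorization 2 = 1 := by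
      rw [show k = 2 ^ 1 * (k / 2) by omega, Nat.factorization_mul (by norm_num) (by omega),
        Finsupp.add_apply, Nat.factorization_eq_zero_of_not_dvd (show ¬ 2 ∣ k / 2 by omega)]
      simp [Nat.prime_two.factorization_self]
    have h := congrArg (fun m => m.factorization 2) hg
    simp only [Nat.factorization_mul (show 3 * p ≠ 0 by have := S.hp; omega)
        (mul_ne_zero (show k ≠ 0 by omega) (Nat.card_pos (α := D)).ne'),
      Nat.factorization_mul (show k ≠ 0 by omega) (Nat.card_pos (α := D)).ne', Finsupp.add_apply,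
      Nat.factorization_eq_zero_of_not_dvd (show ¬ 2 ∣ 3 * p by have := S.odd_p; omega), hfac, hk2] at h
    omega
  let WS : Sylow 2 D := Sylow.ofCard (W.subgroupOf D) (by
    rw [Nat.card_congr (Subgroup.subgroupOfEquivOfLe hWD).toEquiv, E.cardW, hD2]; rfl)
  have hWS : Nat.card (WS : Subgroup D) = 4 :=
    (Nat.card_congr (Subgroup.subgroupOfEquivOfLe hWD).toEquiv).trans E.cardW
  set zD : D := ⟨σ ^ 2, hWD E.zW⟩ with hzD
  set uD : D := ⟨u, hWD E.σsW⟩ with huD
  have hzW : zD ∈ (WS : Subgroup D) := E.zW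
  have huW : uD ∈ (WS : Subgroup D) := E.σsW
  have hexp : ∀ x : WS, x * x = 1 := by
    intro x
    have hx : ((x : D) : G) ∈ W := x.2
    refine Subtype.ext (Subtype.ext ?_)
    show ((x : D) : G) * ((x : D) : G) = 1
    rcases E.gen.cases _ (E.ker.le hx) with ⟨i, hi⟩ | ⟨i, hi⟩
    · rw [hi]
      obtain ⟨j, rfl | rfl⟩ : ∃ j, i = 2 * j ∨ i = 2 * j + 1 := ⟨i / 2, by omega⟩
      · rw [← zpow_add, show 2 * j + 2 * j = 4 * j by ring, zpow_mul,
          show σ ^ (4 : ℤ) = 1 by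
            rw [show (4 : ℤ) = ((4 : ℕ) : ℤ) from rfl, zpow_natCast, ← E.orderOf_σ, pow_orderOf_eq_one],
          one_zpow]
      · exfalso
        refine E.σW ?_
        have h1 : (σ ^ (2 : ℕ)) ^ j ∈ W := W.zpow_mem E.zW j
        rw [hi, show σ ^ (2 * j + 1) = (σ ^ (2 : ℕ)) ^ j * σ by
          rw [zpow_add, zpow_one, zpow_mul]; rfl] at hx
        exact (Subgroup.mul_mem_cancel_left _ h1).1 hx
    · rw [hi]
      exact CfsgLib.Involution.DihedralSylow.refl_sq E.gen i
  have hnc : ∀ h ∈ stabilizer G a, h * σ ^ 2 * h⁻¹ ≠ u := by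
    intro h ha he
    obtain ⟨g, hg1, hg2⟩ := Sp.cent_σs
    refine hg2 ?_
    have h1 := Sp.cent_stab (h⁻¹ * g * h) (by
      show h⁻¹ * g * h * σ ^ 2 = σ ^ 2 * (h⁻¹ * g * h)
      calc h⁻¹ * g * h * σ ^ 2 = h⁻¹ * (g * (h * σ ^ 2 * h⁻¹)) * h := by group
        _ = h⁻¹ * (h * σ ^ 2 * h⁻¹ * g) * h := by rw [he, hg1.eq]
        _ = _ := by group)
    rw [mul_smul, mul_smul, show h • a = a from ha, inv_smul_eq_iff, show h • a = a from ha] at h1
    exact h1
  have hnpc : Cfsg.HasNormalPComplement 2 D := by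
    by_contra hn
    obtain ⟨h, hh⟩ := isConj_iff.1 (CfsgLib.Blocks.FourGroup.isConj_involutions
      (show Nat.card WS = 4 from hWS) hexp hn (s := zD) (t := uD)
      (by rw [← Subgroup.orderOf_coe]; exact hz2) (by rw [← Subgroup.orderOf_coe]; exact hu2))
    exact hnc h h.2.1 (congrArg Subtype.val hh)
  obtain ⟨π, hπ, hker⟩ := CfsgLib.BrauerSuzuki.exists_retraction hnpc WS
  set X := π.ker.map D.subtype with hX
  have hXmem : ∀ y : G, y ∈ X ↔ y ∈ D ∧ ¬ 2 ∣ orderOf y := by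
    intro y
    constructor
    · rintro ⟨x, hx, rfl⟩
      refine ⟨x.2, ?_⟩
      rw [Subgroup.coe_subtype, Subgroup.orderOf_coe]
      exact (Nat.Prime.coprime_iff_not_dvd Nat.prime_two).1 (hker x hx).symm
    · rintro ⟨hy, hodd⟩
      refine ⟨⟨y, hy⟩, ?_, rfl⟩
      have h1 : orderOf (π ⟨y, hy⟩) ∣ orderOf y := by
        rw [← Subgroup.orderOf_mk (H := D) y hy]; exact orderOf_map_dvd π _
      have h2 : orderOf (π ⟨y, hy⟩) ∣ 2 ^ 2 := by
        have := orderOf_dvd_natCard (π ⟨y, hy⟩)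
        rwa [hWS] at this
      rw [SetLike.mem_coe, MonoidHom.mem_ker, ← orderOf_eq_one_iff]
      exact Nat.eq_one_of_dvd_coprimes (((Nat.prime_two.coprime_iff_not_dvd).2 hodd).pow_left 2) h2 h1
  have hXodd : Odd (Nat.card X) := by
    rw [Nat.odd_iff, ← Nat.two_dvd_ne_zero]
    intro hd
    obtain ⟨y, hy⟩ := exists_prime_orderOf_dvd_card' 2 hd
    have := ((hXmem y).1 y.2).2
    rw [Subgroup.orderOf_coe, hy] at this
    exact this dvd_rfl
  have hnorm : ∀ w ∈ D, ∀ y ∈ X, w * y * w⁻¹ ∈ X := fun w hw y hy => by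
    obtain ⟨h1, h2⟩ := (hXmem y).1 hy
    exact (hXmem _).2 ⟨mul_mem (mul_mem hw h1) (inv_mem hw), by
      rwa [← MulAut.conj_apply, MulEquiv.orderOf_eq]⟩
  have hfour := CfsgLib.Perm.FourOdd.card_mul_sq_eq (X := X) hzzu huu hzu.eq hXodd
    (hnorm _ (hWD E.zW)) (hnorm _ (hWD E.σsW))
  -- the three centralizers
  set x0 := Nat.card (OddCent (σ ^ 2)) with hx0
  have hone : ∀ v : G, orderOf v = 2 → v ∈ W → Nat.card ↥(X ⊓ Subgroup.centralizer {v}) = x0 := by
    intro v hv hvW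
    obtain ⟨g, hg⟩ := isConj_iff.1 (Sp.fusion v hv)
    rw [hx0, ← card_oddCent_conj g (σ ^ 2), hg]
    refine Nat.card_congr (Equiv.subtypeEquivRight fun y => ?_)
    rw [Subgroup.mem_inf, hXmem, Subgroup.mem_centralizer_singleton_iff]
    exact ⟨fun h => ⟨h.2, h.1.2⟩, fun h => ⟨⟨⟨Sp.odd_fix v y hv h.1 h.2 a (((E.ker.mem v).1 hvW).2 a E.aF),
      Sp.odd_fix v y hv h.1 h.2 b (((E.ker.mem v).1 hvW).2 b hb)⟩, h.2⟩, h.1.eq⟩⟩
  rw [hone _ hz2 E.zW, hone _ hu2 E.σsW, hone _ E.orderOf_zσs (mul_mem E.zW E.σsW)] at hfour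
  -- the centralizer of the four group
  set C2 := Subgroup.centralizer ({σ ^ 2, u} : Set G) with hC2
  have hC2mem : ∀ g : G, g ∈ C2 ↔ Commute g (σ ^ 2) ∧ Commute g u := fun g => by
    simp [hC2, Subgroup.mem_centralizer_iff, Commute, SemiconjBy, eq_comm]
  have hC2D : C2 ≤ D := fun g hg =>
    ⟨Sp.cent_stab g ((hC2mem g).1 hg).1, hb' g ((hC2mem g).1 hg).2⟩
  have hWC : W ≤ C2 := fun w hw => by
    have hcomm : ∀ v ∈ W, Commute w v := fun v hv => by
      have e : ∀ x ∈ W, x⁻¹ = x := fun x hx => inv_eq_of_mul_eq_one_right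
        (congrArg (fun y : D => (y : G)) (congrArg Subtype.val (hexp ⟨⟨x, hWD hx⟩, hx⟩)))
      show w * v = v * w
      calc w * v = (w * v)⁻¹ := (e _ (mul_mem hw hv)).symm
        _ = v * w := by rw [mul_inv_rev, e w hw, e v hv]
    exact (hC2mem w).2 ⟨hcomm _ E.zW, hcomm _ E.σsW⟩
  have hc2 : Nat.card C2 = 4 * Nat.card ↥(X ⊓ Subgroup.centralizer {σ ^ 2} ⊓ Subgroup.centralizer {u}) := by
    let φ : C2 →* (WS : Subgroup D) := π.comp (Subgroup.inclusion hC2D)
    have hsurj : Function.Surjective φ := fun w =>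
      ⟨⟨((w : D) : G), hWC w.2⟩, hπ w⟩
    rw [← φ.ker.card_mul_index, Subgroup.index_ker, (MonoidHom.range_eq_top (f := φ)).2 hsurj,
      Subgroup.card_top, hWS, mul_comm]
    congr 1
    have hk' : φ.ker.map C2.subtype = X ⊓ Subgroup.centralizer {σ ^ 2} ⊓ Subgroup.centralizer {u} := by
      ext g
      simp only [Subgroup.mem_inf, Subgroup.mem_centralizer_singleton_iff]
      constructor
      · rintro ⟨x, hx, rfl⟩
        exact ⟨⟨⟨Subgroup.inclusion hC2D x, hx, rfl⟩, ((hC2mem _).1 x.2).1.eq⟩, ((hC2mem _).1 x.2).2.eq⟩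
      · rintro ⟨⟨⟨x, hx, rfl⟩, h1⟩, h2⟩
        exact ⟨⟨(x : G), (hC2mem _).2 ⟨h1, h2⟩⟩, hx, rfl⟩
    rw [← hk', Subgroup.card_subtype]
  have hDX : Nat.card D = 4 * Nat.card X := by
    rw [hX, Subgroup.card_subtype, ← π.ker.card_mul_index, Subgroup.index_ker,
      (MonoidHom.range_eq_top (f := π)).2 fun q => ⟨q, hπ q⟩, Subgroup.card_top, hWS, mul_comm]
  rw [hc2, E.card_oddCent, ← hx0, hg, hDX]
  calc 8 * (3 * p * (k * (4 * Nat.card X))) *
        (4 * Nat.card ↥(X ⊓ Subgroup.centralizer {σ ^ 2} ⊓ Subgroup.centralizer {u})) ^ 2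
      = 512 * (3 * p * k) * (Nat.card X *
          Nat.card ↥(X ⊓ Subgroup.centralizer {σ ^ 2} ⊓ Subgroup.centralizer {u}) ^ 2) := by ring
    _ = 512 * (3 * p * k) * (x0 * x0 * x0) := by rw [hfour]
    _ = _ := by ring

theorem Special.count_half {E : Eight (p := p) T W F σ s a} (Sp : Special E) (S : Setup G p P)
    {M : Ideal Cfsg.AlgInt} (hM : Cfsg.IsPModular 2 M) :
    3 * p * Nat.card (Subgroup.centralizer ({σ ^ 2} : Set G)) ^ 3 ≤
      2 * Nat.card G * Nat.card (Subgroup.centralizer ({σ ^ 2, s} : Set G)) ^ 2 := by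
  haveI : Fact (Nat.Prime 2) := ⟨Nat.prime_two⟩
  set A := stabilizer G a with hA
  set u := σ * s with hu
  have hz2 := E.orderOf_z
  have hs2 := E.orderOf_s
  have hu2 : orderOf u = 2 := E.orderOf_σs
  have hzz : σ ^ 2 * σ ^ 2 = 1 := by
    have := pow_orderOf_eq_one (σ ^ 2); rwa [hz2, sq (σ ^ 2)] at this
  have hzs : σ ^ 2 * s = s * σ ^ 2 := (E.z_comm E.gen.bmem).eq
  set V := CfsgLib.Involution.TwoGroupLifts.fourGroup (σ ^ 2) s hzz E.gen.bb hzs with hV
  have hVk : IsKleinFour V :=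
    CfsgLib.Involution.TwoGroupLifts.isKleinFour_of_four E.z_ne
      (fun e => by rw [e, orderOf_one] at hs2; omega)
      (fun (e : σ ^ 2 = s) => E.sW (e ▸ E.zW)) hzz E.gen.bb hzs fun g => Iff.rfl
  have hV4 : Nat.card V = 4 := hVk.card_four
  have hVT : V ≤ (T : Subgroup G) := by
    rintro g (rfl | rfl | rfl | rfl)
    exacts [one_mem _, pow_mem E.gen.amem 2, E.gen.bmem, mul_mem (pow_mem E.gen.amem 2) E.gen.bmem]
  have huV : u ∉ V := by
    rintro (h | h | h | h)
    · rw [h, orderOf_one] at hu2; omega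
    · refine E.gen.nb ?_
      rw [show s = σ⁻¹ * σ ^ 2 by rw [← h, hu]; group]
      exact mul_mem (inv_mem (Subgroup.mem_zpowers σ)) (Subgroup.pow_mem _ (Subgroup.mem_zpowers σ) 2)
    · exact E.σW (by rw [show σ = 1 from mul_eq_right.1 h]; exact W.one_mem)
    · exact E.σW (by
        rw [show σ = σ ^ 2 from mul_right_cancel h]; exact E.zW)
  -- conjugates of `z` in the stabilizer
  have hza : ∀ v : G, orderOf v = 2 → v • a = a → (∀ g : G, Commute g v → g • a = a) →
      ∃ h ∈ A, h * σ ^ 2 * h⁻¹ = v := by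
    intro v hv hva hvc
    obtain ⟨h, hh⟩ := isConj_iff.1 (Sp.fusion v hv)
    refine ⟨h, ?_, hh⟩
    have hF : ∀ g : G, Commute g v → g • h • a = h • a := fun g hg => by
      have h1 := Sp.cent_stab (h⁻¹ * g * h) (by
        show h⁻¹ * g * h * σ ^ 2 = σ ^ 2 * (h⁻¹ * g * h)
        calc h⁻¹ * g * h * σ ^ 2 = h⁻¹ * (g * (h * σ ^ 2 * h⁻¹)) * h := by group
          _ = h⁻¹ * (h * σ ^ 2 * h⁻¹ * g) * h := by rw [hh, hg.eq]
          _ = _ := by group)
      rwa [mul_smul, mul_smul, inv_smul_eq_iff] at h1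
    -- the centralizer fixes no other point of the three
    obtain ⟨h', hh'⟩ : ∃ h', h⁻¹ • a = h' := ⟨_, rfl⟩
    have h2 : h' = a := by
      refine E.σ_eq (E.mem_F_of_z ?_) ?_
      · rw [← hh']
        refine MulAction.injective h ?_
        calc h • (σ ^ 2) • h⁻¹ • a = (h * σ ^ 2 * h⁻¹) • a := by simp only [mul_smul]
          _ = a := by rw [hh, hva]
          _ = h • h⁻¹ • a := (smul_inv_smul h a).symm
      · rw [← hh']
        have h3 := hvc (h * σ * h⁻¹) (by
          show h * σ * h⁻¹ * v = v * (h * σ * h⁻¹)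
          rw [← hh]
          group)
        rw [mul_smul, mul_smul] at h3
        exact (eq_inv_smul_iff).2 h3
    rw [mem_stabilizer_iff]
    exact (inv_smul_eq_iff.1 (hh'.trans h2)).symm
  -- a subgroup of index two of the stabilizer
  let TA : Sylow 2 A := T.subtype E.le_stab
  have hTA : Nat.card (TA : Subgroup A) = 8 :=
    (Nat.card_congr (Subgroup.subgroupOfEquivOfLe E.le_stab).toEquiv).trans E.card
  have huA : u ∈ A := E.le_stab (mul_mem E.gen.amem E.gen.bmem)
  obtain ⟨H, hHn, hH2, huH⟩ : ∃ H : Subgroup A, H.Normal ∧ H.index = 2 ∧ (⟨u, huA⟩ : A) ∉ H := by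
    refine (CfsgLib.Fusion.ThompsonTransfer.thompson_transfer TA (V.subgroupOf A)
      (fun x hx => hVT hx) ?_ ⟨u, huA⟩ ?_ (mul_mem E.gen.amem E.gen.bmem) huV).resolve_right ?_
    · have h := Subgroup.relIndex_mul_index (show V.subgroupOf A ≤ (TA : Subgroup A) from fun x hx => hVT hx)
      have h1 := ((V.subgroupOf A).subgroupOf (TA : Subgroup A)).card_mul_index
      rw [Nat.card_congr (Subgroup.subgroupOfEquivOfLe (show V.subgroupOf A ≤ (TA : Subgroup A) from
          fun x hx => hVT hx)).toEquiv, Nat.card_congr (Subgroup.subgroupOfEquivOfLe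
            (show V ≤ A from fun x hx => E.le_stab (hVT hx))).toEquiv, hV4, hTA] at h1
      show ((V.subgroupOf A).subgroupOf (TA : Subgroup A)).index = 2
      omega
    · refine Subtype.ext ?_
      show u ^ 2 = 1
      rw [← hu2, pow_orderOf_eq_one]
    · rintro ⟨g, hg⟩
      have hg' : (g : G) * u * (g : G)⁻¹ ∈ V := hg
      obtain ⟨x, hx1, hx2⟩ := Sp.cent_σs
      refine hx2 ?_
      have hkey : ∀ v : G, (g : G) * u * (g : G)⁻¹ = v → (∀ y : G, Commute y v → y • a = a) → x • a = a := by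
        intro v hv hvc
        have h1 := hvc ((g : G) * x * (g : G)⁻¹) (by
          rw [← hv]
          exact hx1.map (MulAut.conj (g : G)).toMonoidHom)
        have hga : (g : G) • a = a := g.2
        rw [mul_smul, mul_smul, inv_smul_eq_iff.2 hga.symm] at h1
        exact MulAction.injective (g : G) (h1.trans hga.symm)
      rcases hg' with h | h | h | h
      · rw [conj_eq_one_iff] at h
        rw [h, orderOf_one] at hu2; omega
      · exact hkey _ h Sp.cent_stab
      · exact hkey _ h Sp.cent_s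
      · refine hkey _ h fun y hy => ?_
        have hy' : Commute (σ⁻¹ * y * σ) s := by
          show σ⁻¹ * y * σ * s = s * (σ⁻¹ * y * σ)
          have e : σ * s * σ⁻¹ = σ ^ 2 * s := by
            have := CfsgLib.Involution.DihedralSylow.conj_rot E.gen 1 0
            simpa using this
          calc σ⁻¹ * y * σ * s = σ⁻¹ * (y * (σ * s * σ⁻¹)) * σ := by group
            _ = σ⁻¹ * (σ * s * σ⁻¹ * y) * σ := by rw [e, hy.eq]
            _ = _ := by group
        have h1 := Sp.cent_s _ hy'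
        have hσa : σ • a = a := E.le_stab E.gen.amem
        rwa [mul_smul, mul_smul, hσa, inv_smul_eq_iff, hσa] at h1
  set H' := H.map A.subtype with hH'
  have hH'A : H' ≤ A := Subgroup.map_subtype_le H
  have hmem' : ∀ x : G, x ∈ H' ↔ ∃ hx : x ∈ A, (⟨x, hx⟩ : A) ∈ H := fun x => by
    constructor
    · rintro ⟨y, hy, rfl⟩; exact ⟨y.2, hy⟩
    · rintro ⟨hx, h⟩; exact ⟨_, h, rfl⟩
  have huH' : u ∉ H' := fun h => huH ((hmem' u).1 h).2
  have hnormH : ∀ h ∈ A, ∀ x ∈ H', h * x * h⁻¹ ∈ H' := fun h hh x hx => by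
    obtain ⟨hxA, hxH⟩ := (hmem' x).1 hx
    exact ⟨⟨h, hh⟩ * ⟨x, hxA⟩ * (⟨h, hh⟩ : A)⁻¹, hHn.conj_mem _ hxH _, rfl⟩
  have hzH : σ ^ 2 ∈ H' := (hmem' _).2 ⟨E.le_stab (pow_mem E.gen.amem 2),
    Subgroup.sq_mem_of_index_two hH2 (⟨σ, E.le_stab E.gen.amem⟩ : A)⟩
  have hmul : ∀ h ∈ A, h ∈ H' ∨ h * u ∈ H' := fun h hh => by
    by_cases hc : (⟨h, hh⟩ : A) ∈ H
    · exact Or.inl ((hmem' h).2 ⟨hh, hc⟩)
    · refine Or.inr ((hmem' _).2 ⟨mul_mem hh huA, ?_⟩)
      exact (Subgroup.mul_mem_iff_of_index_two hH2 (a := ⟨h, hh⟩) (b := ⟨u, huA⟩)).2 (iff_of_false hc huH)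
  have hconjH : ∀ v : G, orderOf v = 2 → v • a = a → (∀ g : G, Commute g v → g • a = a) →
      v ∈ H' ∧ ∃ h ∈ H', h * σ ^ 2 * h⁻¹ = v := by
    intro v hv hva hvc
    obtain ⟨h, hh, hhv⟩ := hza v hv hva hvc
    refine ⟨hhv ▸ hnormH h hh _ hzH, ?_⟩
    rcases hmul h hh with h' | h'
    · exact ⟨h, h', hhv⟩
    · refine ⟨h * u, h', ?_⟩
      have hc : u * σ ^ 2 * u⁻¹ = σ ^ 2 :=
        mul_inv_eq_iff_eq_mul.2 (E.z_comm (mul_mem E.gen.amem E.gen.bmem)).eq.symm
      calc h * u * σ ^ 2 * (h * u)⁻¹ = h * (u * σ ^ 2 * u⁻¹) * h⁻¹ := by group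
        _ = v := by rw [hc, hhv]
  have hsH := hconjH s hs2 (E.le_stab E.gen.bmem) Sp.cent_s
  have hzsc : ∀ g : G, Commute g (σ ^ 2 * s) → g • a = a := fun y hy => by
    have e : σ * s * σ⁻¹ = σ ^ 2 * s := by
      have := CfsgLib.Involution.DihedralSylow.conj_rot E.gen 1 0
      simpa using this
    have h1 := Sp.cent_s (σ⁻¹ * y * σ) (by
      show σ⁻¹ * y * σ * s = s * (σ⁻¹ * y * σ)
      calc σ⁻¹ * y * σ * s = σ⁻¹ * (y * (σ * s * σ⁻¹)) * σ := by group
        _ = σ⁻¹ * (σ * s * σ⁻¹ * y) * σ := by rw [e, hy.eq]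
        _ = _ := by group)
    have hσa : σ • a = a := E.le_stab E.gen.amem
    rwa [mul_smul, mul_smul, hσa, inv_smul_eq_iff, hσa] at h1
  have hzs2 : orderOf (σ ^ 2 * s) = 2 := by
    have e : σ * s * σ⁻¹ = σ ^ 2 * s := by
      have := CfsgLib.Involution.DihedralSylow.conj_rot E.gen 1 0
      simpa using this
    rw [← e, ← MulAut.conj_apply, MulEquiv.orderOf_eq, hs2]
  have hVH : V ≤ H' := by
    rintro g (rfl | rfl | rfl | rfl)
    exacts [one_mem _, hzH, hsH.1, mul_mem hzH hsH.1]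
  have hcardH : Nat.card H' * 2 = Nat.card A := by
    rw [hH', Subgroup.card_subtype, ← H.card_mul_index, hH2]
  have hfac : (Nat.card H').factorization 2 = 2 := by
    have hAf : (Nat.card A).factorization 2 = 3 := by
      have h := TA.card_eq_multiplicity
      rw [show Nat.card TA = 8 from hTA] at h
      exact (Nat.pow_right_injective le_rfl (h.symm.trans (show 8 = 2 ^ 3 from rfl)))
    rw [← hcardH, Nat.factorization_mul Nat.card_pos.ne' two_ne_zero, Finsupp.add_apply,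
      Nat.prime_two.factorization_self] at hAf
    omega
  let VS : Sylow 2 H' := Sylow.ofCard (V.subgroupOf H') (by
    rw [Nat.card_congr (Subgroup.subgroupOfEquivOfLe hVH).toEquiv, hV4, hfac]; rfl)
  have hVS : Nat.card (VS : Subgroup H') = 4 :=
    (Nat.card_congr (Subgroup.subgroupOfEquivOfLe hVH).toEquiv).trans hV4
  have hVSk : IsKleinFour (VS : Subgroup H') := by
    refine ⟨hVS, ?_⟩
    rw [show ((VS : Subgroup H')) = V.subgroupOf H' from rfl,
      Monoid.exponent_eq_of_mulEquiv (Subgroup.subgroupOfEquivOfLe hVH)]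
    exact hVk.exponent_two
  have hexp : ∀ x : VS, x * x = 1 := fun x => by
    refine Subtype.ext (Subtype.ext ?_)
    show ((x : H') : G) * ((x : H') : G) = 1
    exact congrArg Subtype.val
      (CfsgLib.Involution.TwoGroupLifts.mul_self_of_isKleinFour hVSk x.2)
  set zH : H' := ⟨σ ^ 2, hzH⟩ with hzH'
  have hall : ∀ x : H', orderOf x = 2 → IsConj zH x := by
    intro x hx
    obtain ⟨c, hc⟩ := CfsgLib.Blocks.TIAbelian.exists_conj_mem_sylow_p VS (R := Subgroup.zpowers x)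
      (IsPGroup.of_card (n := 1) (by rw [Nat.card_zpowers, hx, pow_one]))
    have h := hc x (Subgroup.mem_zpowers x)
    have ho : orderOf (c * x * c⁻¹) = 2 := by rw [← MulAut.conj_apply, MulEquiv.orderOf_eq, hx]
    refine IsConj.trans ?_ (isConj_iff.2 ⟨c, rfl⟩ : IsConj x (c * x * c⁻¹)).symm
    have hv : ((c * x * c⁻¹ : H') : G) ∈ V := h
    rw [← Subgroup.orderOf_coe] at ho
    have hgoal : ∀ v : G, ((c * x * c⁻¹ : H') : G) = v → (∃ h ∈ H', h * σ ^ 2 * h⁻¹ = v) →
        IsConj zH (c * x * c⁻¹) := by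
      rintro v hv ⟨h, hh, he⟩
      exact isConj_iff.2 ⟨⟨h, hh⟩, Subtype.ext (he.trans hv.symm)⟩
    rcases hv with h' | h' | h' | h'
    · rw [h', orderOf_one] at ho; omega
    · exact hgoal _ h' ⟨1, one_mem _, by group⟩
    · exact hgoal _ h' hsH.2
    · exact hgoal _ h' (hconjH _ hzs2 (E.le_stab (mul_mem (pow_mem E.gen.amem 2) E.gen.bmem)) hzsc).2
  have honeH : ∀ x y : H', orderOf x = 2 → orderOf y = 2 → IsConj x y := fun x y hx hy =>
    (hall x hx).symm.trans (hall y hy)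
  have hform := CfsgLib.Blocks.FourGroup.order_formula (G := H') hM VS hVS hexp honeH (J := zH) (show σ ^ 2 ∈ V from Or.inr (Or.inl rfl))
    (by rw [← Subgroup.orderOf_coe]; exact hz2)
  obtain ⟨ζ₂, ζ₃, ζ₄, ε, hε, -, -, -, -, -, hB, hval, -⟩ :=
    Cfsg.Agent.S0948.result M hM VS hVSk honeH
  set S3 := ∑ χ ∈ (Cfsg.principalBlock M H').toFinset, (χ : H' → ℂ) zH ^ 3 / (χ : H' → ℂ) 1
  have hS3 : ‖S3‖ ≤ 4 := by
    have hsub : (Cfsg.principalBlock M H').toFinset ⊆ {⟨_, isIrrCharacter_one⟩, ζ₂, ζ₃, ζ₄} := by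
      intro χ hχ
      rw [Set.mem_toFinset, hB] at hχ
      simp only [Finset.mem_insert, Finset.mem_singleton]
      rcases hχ with h | h | h | h
      · exact Or.inl (Subtype.ext h)
      · exact Or.inr (Or.inl h)
      · exact Or.inr (Or.inr (Or.inl h))
      · exact Or.inr (Or.inr (Or.inr h))
    have hterm : ∀ χ ∈ (Cfsg.principalBlock M H').toFinset,
        ‖(χ : H' → ℂ) zH ^ 3 / (χ : H' → ℂ) 1‖ ≤ 1 := by
      intro χ hχ
      rw [Set.mem_toFinset, hB] at hχ
      obtain ⟨d, hd, hd'⟩ := IsIrrCharacter.apply_one_eq χ.2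
      obtain ⟨h2, h3, h4⟩ := hval zH (by rw [← Subgroup.orderOf_coe]; exact hz2)
      have hv : ‖(χ : H' → ℂ) zH‖ = 1 := by
        rcases hχ with h | h | h | h
        · rw [h, norm_one]
        · rw [h, h2, norm_one]
        · rw [h, h3]; rcases hε with e | e <;> simp [e]
        · rw [h, h4]; simp
      rw [norm_div, norm_pow, hv, one_pow, hd', Complex.norm_natCast]
      exact div_le_one_of_le₀ (by exact_mod_cast hd) (Nat.cast_nonneg d)
    calc ‖S3‖ ≤ ∑ χ ∈ (Cfsg.principalBlock M H').toFinset, ‖(χ : H' → ℂ) zH ^ 3 / (χ : H' → ℂ) 1‖ :=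
          norm_sum_le _ _
      _ ≤ ∑ _χ ∈ (Cfsg.principalBlock M H').toFinset, (1 : ℝ) := Finset.sum_le_sum hterm
      _ ≤ ((4 : ℕ) : ℝ) := by
          rw [Finset.sum_const, nsmul_eq_mul, mul_one, Nat.cast_le]
          exact (Finset.card_le_card hsub).trans Finset.card_le_four
      _ = 4 := by norm_num
  set cV := Nat.card (Subgroup.centralizer ((VS : Subgroup H') : Set H'))
  set cH := Nat.card (Subgroup.centralizer ({zH} : Set H'))
  have hmain : 2 * cH ^ 3 ≤ Nat.card H' * cV ^ 2 := by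
    have e := congrArg (fun x : ℂ => ‖x‖) hform
    simp only [norm_mul, norm_pow, Complex.norm_natCast, Complex.norm_ofNat] at e
    have h8 : (8 : ℝ) * (cH : ℝ) ^ 3 ≤ 4 * ((Nat.card H' : ℝ) * (cV : ℝ) ^ 2) := by
      rw [← e]
      calc (Nat.card H' : ℝ) * ‖S3‖ * (cV : ℝ) ^ 2 ≤ (Nat.card H' : ℝ) * 4 * (cV : ℝ) ^ 2 := by gcongr
        _ = _ := by ring
    have : ((2 * cH ^ 3 : ℕ) : ℝ) ≤ ((Nat.card H' * cV ^ 2 : ℕ) : ℝ) := by
      push_cast
      linarith
    exact_mod_cast this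
  have hcV : cV ≤ Nat.card (Subgroup.centralizer ({σ ^ 2, s} : Set G)) := by
    refine Nat.card_le_card_of_injective (fun x => ⟨((x : H') : G), ?_⟩) fun x y h => ?_
    · refine Subgroup.mem_centralizer_iff.2 fun y hy => ?_
      have hyV : y ∈ V := by
        rcases hy with rfl | rfl
        exacts [Or.inr (Or.inl rfl), Or.inr (Or.inr (Or.inl rfl))]
      exact congrArg Subtype.val (Subgroup.mem_centralizer_iff.1 x.2 ⟨y, hVH hyV⟩ hyV)
    · exact Subtype.ext (Subtype.ext (congrArg Subtype.val h :))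
  have hcH : Nat.card (Subgroup.centralizer ({σ ^ 2} : Set G)) ≤ 2 * cH := by
    have huc : Commute u (σ ^ 2) := (E.z_comm (mul_mem E.gen.amem E.gen.bmem)).symm
    have hmemC : ∀ g : Subgroup.centralizer ({σ ^ 2} : Set G), (g : G) ∈ A := fun g =>
      Sp.cent_stab g (Subgroup.mem_centralizer_singleton_iff.1 g.2)
    have hin : ∀ (g : G) (hg : g ∈ H'), Commute g (σ ^ 2) →
        (⟨g, hg⟩ : H') ∈ Subgroup.centralizer ({zH} : Set H') := fun g hg hc =>
      Subgroup.mem_centralizer_singleton_iff.2 (Subtype.ext hc.eq)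
    have hin' : ∀ g : Subgroup.centralizer ({σ ^ 2} : Set G), (g : G) ∉ H' → (g : G) * u ∈ H' := fun g hg =>
      (hmul _ (hmemC g)).resolve_left hg
    let φ : Subgroup.centralizer ({σ ^ 2} : Set G) →
        Subgroup.centralizer ({zH} : Set H') ⊕ Subgroup.centralizer ({zH} : Set H') := fun g =>
      if hg : (g : G) ∈ H' then Sum.inl ⟨⟨g, hg⟩, hin _ hg (Subgroup.mem_centralizer_singleton_iff.1 g.2)⟩
      else Sum.inr ⟨⟨(g : G) * u, hin' g hg⟩,
        hin _ (hin' g hg) (Commute.mul_left (Subgroup.mem_centralizer_singleton_iff.1 g.2) huc)⟩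
    have hφ : Function.Injective φ := by
      intro g g' h
      simp only [φ] at h
      by_cases hg : (g : G) ∈ H' <;> by_cases hg' : (g' : G) ∈ H'
      · rw [dif_pos hg, dif_pos hg', Sum.inl.injEq] at h
        exact Subtype.ext (congrArg (fun x => ((x.1 : H') : G)) h)
      · rw [dif_pos hg, dif_neg hg'] at h; exact absurd h Sum.inl_ne_inr
      · rw [dif_neg hg, dif_pos hg'] at h; exact absurd h Sum.inr_ne_inl
      · rw [dif_neg hg, dif_neg hg', Sum.inr.injEq] at h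
        exact Subtype.ext (mul_right_cancel (congrArg (fun x => ((x.1 : H') : G)) h))
    have := Nat.card_le_card_of_injective φ hφ
    rw [Nat.card_sum] at this
    omega
  rw [← S.card_stab a, ← hA, ← hcardH]
  calc 3 * p * Nat.card (Subgroup.centralizer ({σ ^ 2} : Set G)) ^ 3 ≤ 3 * p * (2 * cH) ^ 3 :=
        Nat.mul_le_mul_left _ (Nat.pow_le_pow_left hcH 3)
    _ = 12 * p * (2 * cH ^ 3) := by ring
    _ ≤ 12 * p * (Nat.card H' * cV ^ 2) := Nat.mul_le_mul_left _ hmain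
    _ ≤ 12 * p * (Nat.card H' * Nat.card (Subgroup.centralizer ({σ ^ 2, s} : Set G)) ^ 2) :=
        Nat.mul_le_mul_left _ (Nat.mul_le_mul_left _ (Nat.pow_le_pow_left hcV 2))
    _ = _ := by ring

end CfsgLib.Perm.ThricePrime
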