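import Cfsg.Agent.Lib.Perm.ThricePrime.Suborbit

/-!
# Degree thrice a prime: eigenvalues of the orbital, and `8 ∤ p - 1`
-/

set_option autoImplicit false

open scoped Classical ComplexConjugate

namespace CfsgLib.Perm.ThricePrime

open MulAction CfsgLib.Char CfsgLib.Char.InvertedPrime CfsgLib.Perm.PrimeDegreeDihedral
  CfsgLib.Perm.CentralizerRing CfsgLib.Perm.Suborbits

universe u

variable {α : Type u} [Fintype α] {G : Subgroup (Equiv.Perm α)} {p : ℕ} [Fact p.Prime]
  {P : Sylow p G}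

variable {θ ψ : Cfsg.IrrCharacter G} {tz pz : G → ℤ} {n : ℕ}

theorem no_sol_32 : ∀ i m : ZMod 32,
    6 * (2 + 24 * i - 16 * m) ^ 2 - 6 * (1 + 16 * i) * (2 + 24 * i - 16 * m) +
      (1 + 16 * i) * (2 + 24 * i) ≠ 3 * (2 + 24 * i - 16 * m) := by
  decide +kernel

theorem Psi.proj_const (φ : Cfsg.IrrCharacter G) (x : α) :
    CentralizerRing.proj (Cfsg.permRep ℂ G α) (φ : G → ℂ) (fun _ => 1) x =
      (φ : G → ℂ) 1 * Cfsg.classInner (fun _ : G => (1 : ℂ)) (φ : G → ℂ) := by
  simp only [CentralizerRing.proj, LinearMap.smul_apply, LinearMap.sum_apply, Pi.smul_apply,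
    Finset.sum_apply, PermRep.permRep_apply, smul_eq_mul, mul_one, Cfsg.classInner, one_mul]
  rw [div_eq_mul_inv, mul_assoc]

/-- The two eigenvalues of the orbital of two points fixed by an involution. -/
theorem Psi.eigen (hψ : Psi P θ ψ tz pz) (S : Setup G p P) (hT : Theta P θ tz n) (hn : n = 2)
    {a b : α} (hab : b ≠ a) (hsym : ∀ i j : α, InOrbital G a b i j → InOrbital G a b j i) :
    ∃ r s : ℤ, (Nat.card (orbit (stabilizer G a) b) : ℤ) + r * (2 * p - 1) + s * p = 0 ∧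
      (Nat.card (orbit (stabilizer G a) b) : ℤ) ^ 2 + r ^ 2 * (2 * p - 1) + s ^ 2 * p =
        3 * p * (Nat.card (orbit (stabilizer G a) b) : ℤ) := by
  haveI := S.trans
  set ρ := Cfsg.permRep ℂ G α with hρ
  set X := orbitalMap G a b with hX
  set k := Nat.card (orbit (stabilizer G a) b) with hk
  have hθ1 : θ ≠ trivChar G := hT.ne_one S
  have hψ1 : ψ ≠ trivChar G := hψ.ne_one
  have hψθ : ψ ≠ θ := hψ.ne_theta
  set P1 := CentralizerRing.proj ρ ((trivChar G : Cfsg.IrrCharacter G) : G → ℂ) with hP1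
  set Pt := CentralizerRing.proj ρ (θ : G → ℂ) with hPt
  set Pp := CentralizerRing.proj ρ (ψ : G → ℂ) with hPp
  obtain ⟨c₀, r, s, hdec⟩ : ∃ c₀ r s : ℂ, c₀ • P1 + r • Pt + s • Pp = X := by
    have h := span_proj ρ (fun φ => by rw [hψ.mult_fixC S hT]; split_ifs <;> omega)
      (orbitalMap_commute a b)
    have h' : X ∈ Submodule.span ℂ ({P1, Pt, Pp} : Set (Module.End ℂ (α → ℂ))) := by
      refine Submodule.span_mono ?_ h
      rintro _ ⟨⟨φ, hφ⟩, rfl⟩
      rw [hψ.mult_fixC S hT] at hφ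
      simp only [ne_eq, ite_eq_right_iff, one_ne_zero, imp_false, not_not] at hφ
      rcases hφ with rfl | rfl | rfl <;> simp [P1, Pt, Pp]
    exact Submodule.mem_span_triple.1 h'
  have hmul : ∀ φ χ : Cfsg.IrrCharacter G,
      CentralizerRing.proj ρ (φ : G → ℂ) * CentralizerRing.proj ρ (χ : G → ℂ) =
        if φ = χ then CentralizerRing.proj ρ (φ : G → ℂ) else 0 := fun φ χ => by
    rw [proj_mul ρ φ.2 χ.2]
    exact if_congr Subtype.ext_iff.symm rfl rfl
  have htr : ∀ φ : Cfsg.IrrCharacter G, φ = trivChar G ∨ φ = θ ∨ φ = ψ →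
      LinearMap.trace ℂ (α → ℂ) (CentralizerRing.proj ρ (φ : G → ℂ)) = (φ : G → ℂ) 1 := fun φ hφ => by
    rw [trace_proj, classInner_eq_mult, hψ.mult_fixC S hT, if_pos hφ, Nat.cast_one, mul_one]
  have hd1 : ((trivChar G : Cfsg.IrrCharacter G) : G → ℂ) 1 = 1 := rfl
  have hdt : (θ : G → ℂ) 1 = 2 * (p : ℂ) - 1 := by rw [hT.val, hT.deg, hn]; push_cast; ring
  have hdp : (ψ : G → ℂ) 1 = (p : ℂ) := by rw [hψ.val, hψ.deg]; push_cast; ring
  -- the trace
  have hX0 : LinearMap.trace ℂ (α → ℂ) X = 0 := by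
    rw [LinearMap.trace_eq_matrix_trace ℂ (Pi.basisFun ℂ α), LinearMap.toMatrix_eq_toMatrix',
      Matrix.trace]
    refine Finset.sum_eq_zero fun i _ => ?_
    rw [Matrix.diag_apply, toMatrix_orbitalMap, if_neg]
    rintro ⟨g, h1, h2⟩
    exact hab (MulAction.injective g (h2.trans h1.symm))
  have hrow : ∀ i : α, ∑ j, (if InOrbital G a b i j then (1 : ℂ) else 0) = k := by
    intro i
    obtain ⟨g, rfl⟩ := exists_smul_eq G a i
    rw [← Fintype.sum_equiv (MulAction.toPerm g) (fun j => if InOrbital G a b a j then (1 : ℂ) else 0)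
      _ fun j => by rw [MulAction.toPerm_apply, inOrbital_smul], Finset.sum_boole, hk,
      Nat.card_eq_fintype_card (α := orbit (stabilizer G a) b), ← Set.toFinset_card]
    congr 2
    ext j
    simp [inOrbital_left_iff]
  -- the valency
  have hc0 : c₀ = k := by
    have h := congrFun (congrArg (fun Y : Module.End ℂ (α → ℂ) => Y (fun _ => 1)) hdec) a
    simp only [LinearMap.add_apply, LinearMap.smul_apply, Pi.add_apply, Pi.smul_apply, smul_eq_mul,
      P1, Pt, Pp, ρ, Psi.proj_const] at h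
    have e1 : Cfsg.classInner (fun _ : G => (1 : ℂ)) ((trivChar G : Cfsg.IrrCharacter G) : G → ℂ) = 1 :=
      classInner_irr_self (trivChar G).2
    have e2 : ∀ φ : Cfsg.IrrCharacter G, φ ≠ trivChar G →
        Cfsg.classInner (fun _ : G => (1 : ℂ)) (φ : G → ℂ) = 0 := fun φ hφ =>
      classInner_irr_ne (trivChar G).2 φ.2 fun e => hφ (Subtype.ext e.symm)
    rw [e1, e2 θ hθ1, e2 ψ hψ1, hd1, mul_zero, mul_zero, mul_zero, mul_zero, add_zero, add_zero,
      mul_one, mul_one] at h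
    rw [h, hX, orbitalMap, Matrix.toLin'_apply, Matrix.mulVec, dotProduct]
    simp only [Matrix.of_apply, mul_one]
    exact hrow a
  -- integrality
  have hint : ∀ (φ : Cfsg.IrrCharacter G) (fz : G → ℤ) (c : ℂ), (∀ g, (φ : G → ℂ) g = fz g) →
      LinearMap.trace ℂ (α → ℂ) (X * CentralizerRing.proj ρ (φ : G → ℂ)) = c * (φ : G → ℂ) 1 →
      ∃ z : ℤ, c = z := by
    intro φ fz c hfz hc
    obtain ⟨x, hxi, hx, -⟩ := exists_integral ρ (X := X) (orbitalMap_commute a b)
      (orbitalMap_isIntegral a b) φ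
    have hcx : c = x := by
      refine mul_right_cancel₀ (IsIrrCharacter.apply_one_ne_zero φ.2) ?_
      rw [← hc, ← hx, CentralizerRing.proj, mul_smul_comm, Finset.mul_sum, map_smul, map_sum,
        smul_eq_mul, Cfsg.classInner, div_eq_mul_inv, mul_comm _ ((φ : G → ℂ) 1), mul_assoc]
      congr 2
      refine Finset.sum_congr rfl fun g _ => ?_
      rw [mul_smul_comm, map_smul, smul_eq_mul, mul_comm]
    have hF : ∀ g : G, LinearMap.trace ℂ (α → ℂ) (X * ρ g) =
        ((Finset.univ.filter fun i : α => InOrbital G a b i (g • i)).card : ℂ) := fun g => by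
      rw [LinearMap.trace_eq_matrix_trace ℂ (Pi.basisFun ℂ α), LinearMap.toMatrix_eq_toMatrix',
        Matrix.trace, ← Finset.sum_boole]
      refine Fintype.sum_congr _ _ fun i => ?_
      simp only [Matrix.diag_apply, LinearMap.toMatrix'_mul, Matrix.mul_apply, hX, hρ,
        toMatrix_orbitalMap, toMatrix_permRep]
      rw [Finset.sum_eq_single (g • i)]
      · rw [if_pos rfl, mul_one]
      · intro j _ hj
        rw [if_neg hj, mul_zero]
      · simp
    obtain ⟨z, hz⟩ := exists_int_of_isIntegral_rat hxi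
      (q := (Nat.card G : ℚ)⁻¹ * ∑ g : G,
        ((Finset.univ.filter fun i : α => InOrbital G a b i (g • i)).card : ℚ) * (fz g : ℚ)) (by
      rw [← hx, Cfsg.classInner]
      push_cast
      simp only [hF, hfz, map_intCast])
    exact ⟨z, hcx.trans hz⟩
  have hXP : ∀ φ : Cfsg.IrrCharacter G, φ = trivChar G ∨ φ = θ ∨ φ = ψ →
      X * CentralizerRing.proj ρ (φ : G → ℂ) =
        (if φ = trivChar G then c₀ else if φ = θ then r else s) • CentralizerRing.proj ρ (φ : G → ℂ) := by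
    intro φ hφ
    rw [← hdec, add_mul, add_mul, smul_mul_assoc, smul_mul_assoc, smul_mul_assoc]
    simp only [P1, Pt, Pp, hmul]
    rcases hφ with rfl | rfl | rfl
    · simp [hθ1, hψ1]
    · simp [hθ1, hθ1.symm, hψθ]
    · simp [hψ1, hψθ, Ne.symm hψ1, Ne.symm hψθ]
  obtain ⟨rz, hrz⟩ := hint θ tz r hT.val (by
    rw [hXP θ (Or.inr (Or.inl rfl)), if_neg hθ1, if_pos rfl, map_smul, smul_eq_mul,
      htr θ (Or.inr (Or.inl rfl))])
  obtain ⟨sz, hsz⟩ := hint ψ pz s hψ.val (by
    rw [hXP ψ (Or.inr (Or.inr rfl)), if_neg hψ1, if_neg hψθ, map_smul, smul_eq_mul,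
      htr ψ (Or.inr (Or.inr rfl))])
  refine ⟨rz, sz, ?_, ?_⟩
  · have h := congrArg (LinearMap.trace ℂ (α → ℂ)) hdec
    simp only [map_add, map_smul, smul_eq_mul, P1, Pt, Pp] at h
    rw [htr _ (Or.inl rfl), htr _ (Or.inr (Or.inl rfl)), htr _ (Or.inr (Or.inr rfl)), hd1, hdt, hdp,
      hX0, hc0, hrz, hsz, mul_one] at h
    exact_mod_cast h
  · have hsq : LinearMap.trace ℂ (α → ℂ) (X * X) = 3 * (p : ℂ) * k := by
      rw [LinearMap.trace_eq_matrix_trace ℂ (Pi.basisFun ℂ α), LinearMap.toMatrix_eq_toMatrix',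
        LinearMap.toMatrix'_mul, Matrix.trace]
      have e : ∀ i : α, Matrix.diag (LinearMap.toMatrix' X * LinearMap.toMatrix' X) i = k := by
        intro i
        rw [Matrix.diag_apply, Matrix.mul_apply, ← hrow i]
        refine Fintype.sum_congr _ _ fun j => ?_
        rw [hX, toMatrix_orbitalMap, toMatrix_orbitalMap]
        by_cases h : InOrbital G a b i j
        · rw [if_pos h, if_pos (hsym _ _ h), mul_one]
        · rw [if_neg h, zero_mul]
      rw [Finset.sum_congr rfl fun i _ => e i, Finset.sum_const, Finset.card_univ, S.hα, nsmul_eq_mul]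
      push_cast
      ring
    have hXX : X * X = (c₀ * c₀) • P1 + (r * r) • Pt + (s * s) • Pp := by
      conv_lhs => enter [2]; rw [← hdec]
      rw [mul_add, mul_add, mul_smul_comm, mul_smul_comm, mul_smul_comm, hXP _ (Or.inl rfl),
        hXP _ (Or.inr (Or.inl rfl)), hXP _ (Or.inr (Or.inr rfl)), if_pos rfl, if_neg hθ1, if_pos rfl,
        if_neg hψ1, if_neg hψθ, smul_smul, smul_smul, smul_smul]
    rw [hXX] at hsq
    simp only [map_add, map_smul, smul_eq_mul, P1, Pt, Pp] at hsq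
    rw [htr _ (Or.inl rfl), htr _ (Or.inr (Or.inl rfl)), htr _ (Or.inr (Or.inr rfl)), hd1, hdt, hdp,
      hc0, hrz, hsz, mul_one, ← sq, ← sq, ← sq] at hsq
    exact_mod_cast hsq

/-- The suborbit of the fixed points of involutions, and the two-part of `p - 1`. -/
theorem Psi.rank_data (hψ : Psi P θ ψ tz pz) (S : Setup G p P) (hT : Theta P θ tz n) (hn : n = 2)
    {t : G} (ht : t ∈ Subgroup.normalizer ((P : Subgroup G) : Set G)) (htP : t ∉ (P : Subgroup G))
    (T : Sylow 2 G) : ∃ (W : Subgroup G) (F : Finset α) (σ : G) (a b : α),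
      Ker (p := p) T W F ∧ σ ∈ (T : Subgroup G) ∧ σ ∉ W ∧ a ∈ F ∧ σ • a = a ∧ b ∈ F ∧ b ≠ a ∧
      Nat.card (T : Subgroup G) = 8 ∧ Nat.card W = 4 ∧
      (∀ y : G, orderOf y = 2 → ∀ x z : α, x ≠ z → y • x = x → y • z = z → InOrbital G a b x z) ∧
      (∀ i j : α, InOrbital G a b i j → InOrbital G a b j i) ∧
      Nat.card (orbit (stabilizer G a) b) % 4 = 2 ∧
      (p = 5 → Nat.card (orbit (stabilizer G a) b) = 6) := by
  haveI : Fact (Nat.Prime 2) := ⟨Nat.prime_two⟩
  have h2 := hT.two S hn ht htP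
  obtain ⟨W, F, σ, a, b, hK, hσ, hσW, ha, hσa, hb, hab, hhalf, hsym, hinv, m, hm0, hm⟩ :=
    hψ.suborbits S hT ht htP h2 T
  set k := Nat.card (orbit (stabilizer G a) b) with hk
  set e := (p - 1).factorization 2 with he
  have hTc : Nat.card (T : Subgroup G) = 2 ^ (e + 1) := by
    rw [show Nat.card (T : Subgroup G) = 2 ^ (Nat.card G).factorization 2 from T.card_eq_multiplicity,
      h2.two_part]
  have hp4 := h2.four
  have hp5 := S.five_le
  have he2 : 2 ≤ e :=
    (Nat.prime_two.pow_dvd_iff_le_factorization (by omega)).1 (show 2 ^ 2 ∣ p - 1 by omega)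
  have hT8 : 2 ^ 3 ∣ Nat.card (T : Subgroup G) := hTc ▸ pow_dvd_pow 2 (by omega)
  have hk4 : k % 4 = 2 := by
    obtain ⟨u, hu⟩ := dvd_mul_of_dvd_left hT8 m
    omega
  obtain ⟨r, s, h1, h2'⟩ := hψ.eigen S hT hn hab hsym
  rw [← hk] at h1 h2'
  obtain ⟨j, hj⟩ : (p : ℤ) ∣ k - r := ⟨-(2 * r + s), by linear_combination h1⟩
  have hr : r = (k : ℤ) - p * j := by omega
  have hs : s = -2 * (k : ℤ) + (2 * p - 1) * j := by
    refine mul_left_cancel₀ (show (p : ℤ) ≠ 0 by omega) ?_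
    rw [hr] at h1
    linear_combination h1
  have heq : 6 * (k : ℤ) ^ 2 - 6 * (2 * p - 1) * j * k + (2 * p - 1) * (3 * p - 1) * j ^ 2 = 3 * k := by
    refine mul_left_cancel₀ (show (p : ℤ) ≠ 0 by omega) ?_
    rw [hr, hs] at h2'
    linear_combination h2'
  have hsquare : (12 * (k : ℤ) - 6 * j * (2 * p - 1) - 3) ^ 2 =
      12 * (2 * p - 1) * (j * (3 - j)) + 9 := by linear_combination 24 * heq
  have hN9 : (9 : ℤ) ≤ 2 * p - 1 := by omega
  have hj03 : 0 ≤ j ∧ j ≤ 3 := by
    have hnn : (0 : ℤ) ≤ 12 * (2 * p - 1) * (j * (3 - j)) + 9 := hsquare ▸ sq_nonneg _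
    constructor <;> by_contra hcon
    · have : j * (3 - j) ≤ -4 := by nlinarith
      nlinarith
    · have : j * (3 - j) ≤ -4 := by nlinarith
      nlinarith
  have hj1 : j = 1 := by
    rcases (show j = 0 ∨ j = 1 ∨ j = 2 ∨ j = 3 by omega) with rfl | rfl | rfl | rfl
    · exfalso
      have : (k : ℤ) * (2 * k - 1) = 0 := by linarith
      rcases mul_eq_zero.1 this with h | h <;> omega
    · rfl
    · exfalso
      obtain ⟨i, hi⟩ : ∃ i, k = 4 * i + 2 := ⟨k / 4, by omega⟩
      obtain ⟨l, hl⟩ : ∃ l, p = 4 * l + 1 := ⟨p / 4, by omega⟩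
      rw [hi, hl] at heq
      push_cast at heq
      ring_nf at heq
      omega
    · exfalso
      have h9 : (12 * (k : ℤ) - 18 * (2 * p - 1) - 6) * (12 * k - 18 * (2 * p - 1)) = 0 := by
        linear_combination hsquare
      have : k + 1 = 3 * p := by rcases mul_eq_zero.1 h9 with h | h <;> omega
      have : 0 < Nat.card (T : Subgroup G) * m := Nat.mul_pos Nat.card_pos hm0
      omega
  subst hj1
  have hee : e = 2 := by
    by_contra hne
    obtain ⟨i, hi⟩ : 2 ^ 3 ∣ p - 1 :=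
      (Nat.prime_two.pow_dvd_iff_le_factorization (by omega)).2 (show 3 ≤ e by omega)
    obtain ⟨u, hu⟩ : 2 ^ 4 ∣ Nat.card (T : Subgroup G) * m :=
      dvd_mul_of_dvd_left (by rw [hTc]; exact pow_dvd_pow 2 (by omega)) m
    have hpi : (p : ℤ) = 1 + 8 * i := by omega
    have hku : (k : ℤ) = 2 + 24 * i - 16 * u := by omega
    rw [hpi, hku] at heq
    refine no_sol_32 (i : ZMod 32) (u : ZMod 32) ?_
    have h := congrArg (fun z : ℤ => (z : ZMod 32)) heq
    push_cast at h
    linear_combination h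
  rw [hTc, hee] at hhalf
  refine ⟨W, F, σ, a, b, hK, hσ, hσW, ha, hσa, hb, hab, by rw [hTc, hee]; rfl, by omega, hinv, hsym,
    hk4, fun hp5' => ?_⟩
  rw [hp5'] at heq
  push_cast at heq
  have : ((k : ℤ) - 6) * (2 * k - 7) = 0 := by linarith
  rcases mul_eq_zero.1 this with h | h <;> omega

end CfsgLib.Perm.ThricePrime
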