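import Cfsg.Agent.Lib.Perm.DegreeTwicePrime
import Cfsg.Agent.Lib.Blocks.FourGroupOrder

/-!
# Simple transitive groups of degree thrice a prime with dihedral Sylow normalizer: basics
-/

set_option autoImplicit false

open scoped Classical ComplexConjugate

namespace CfsgLib.Perm.ThricePrime

open MulAction CfsgLib.Char CfsgLib.Char.InvertedPrime CfsgLib.Perm.PrimeDegreeDihedral

universe u

variable {α : Type u} [Fintype α] {G : Subgroup (Equiv.Perm α)} {p : ℕ} [Fact p.Prime]

/-- The hypotheses. -/
structure Setup (G : Subgroup (Equiv.Perm α)) (p : ℕ) (P : Sylow p G) : Prop where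
  hp : 3 < p
  hα : Fintype.card α = 3 * p
  trans : IsPretransitive G α
  simple : IsSimpleGroup G
  ncomm : ¬ IsMulCommutative G
  hN : Nat.card (Subgroup.normalizer ((P : Subgroup G) : Set G)) = 2 * p

variable {P : Sylow p G}

theorem Setup.nonempty (S : Setup G p P) : Nonempty α :=
  Fintype.card_pos_iff.1 (by rw [S.hα]; have := S.hp; omega)

theorem Setup.dvd_card (S : Setup G p P) : 3 * p ∣ Nat.card G := by
  haveI := S.trans
  haveI := S.nonempty
  have h := CfsgLib.Perm.Basic.card_dvd_card (G := G) (Ω := α)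
  rwa [Nat.card_eq_fintype_card (α := α), S.hα] at h

theorem Setup.card_P (S : Setup G p P) : Nat.card P = p := by
  have hp : p.Prime := Fact.out
  have h3 := S.hp
  have hd : p ∣ Nat.card G := (dvd_mul_left p 3).trans S.dvd_card
  have hle : Nat.card P ∣ 2 * p := S.hN ▸ Subgroup.card_dvd_of_le Subgroup.le_normalizer
  rw [P.card_eq_multiplicity] at hle ⊢
  set k := (Nat.card G).factorization p with hk
  have hk1 : 1 ≤ k := hp.factorization_pos_of_dvd Nat.card_pos.ne' hd
  rcases Nat.lt_or_ge k 2 with h | h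
  · rw [show k = 1 by omega, pow_one]
  · exfalso
    have h2 : p * p ∣ 2 * p := (by rw [← sq]; exact pow_dvd_pow p h : p * p ∣ p ^ k).trans hle
    have := Nat.le_of_dvd (by omega) h2
    have := Nat.mul_le_mul_right p S.hp
    omega

theorem Setup.normal_bot_or_top (S : Setup G p P) (K : Subgroup G) [K.Normal] : K = ⊥ ∨ K = ⊤ :=
  S.simple.eq_bot_or_eq_top_of_normal K inferInstance

/-- A homomorphism to a commutative group is trivial. -/
theorem Setup.hom_eq_one (S : Setup G p P) {A : Type*} [CommGroup A] (φ : G →* A) : φ = 1 := by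
  rcases S.normal_bot_or_top φ.ker with h | h
  · refine absurd ⟨⟨fun x y => ?_⟩⟩ S.ncomm
    have hinj := φ.ker_eq_bot_iff.1 h
    exact hinj (by rw [map_mul, map_mul, mul_comm])
  · exact MonoidHom.ext fun g => MonoidHom.mem_ker.1 (h ▸ Subgroup.mem_top g)

theorem Setup.inv (S : Setup G p P) : Inv (P : Subgroup G) p := by
  have hp : p.Prime := Fact.out
  have hP := S.card_P
  have h2 : 2 < p := by have := S.hp; omega
  haveI : IsCyclic (P : Subgroup G) := isCyclic_of_prime_card hP
  refine ⟨hp, h2, hP, ?_, S.hN⟩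
  set C := Subgroup.centralizer ((P : Subgroup G) : Set G) with hC
  have hCN : C ≤ Subgroup.normalizer ((P : Subgroup G) : Set G) :=
    Subgroup.centralizer_le_normalizer _
  have hPC : (P : Subgroup G) ≤ C := Subgroup.le_centralizer _
  have hne : C ≠ Subgroup.normalizer ((P : Subgroup G) : Set G) := by
    intro e
    have hc := MonoidHom.ker_transferSylow_isComplement' P e.ge
    have hmul := hc.card_mul
    have hg := Nat.le_of_dvd Nat.card_pos S.dvd_card
    rcases S.normal_bot_or_top (MonoidHom.transferSylow P e.ge).ker with h | h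
    · rw [h, Subgroup.card_bot, one_mul, hP] at hmul
      omega
    · rw [h, Subgroup.card_top, hP] at hmul
      have := Nat.card_pos (α := G)
      have h' : Nat.card G * p = Nat.card G * 1 := by rw [mul_one]; exact hmul
      have := Nat.eq_of_mul_eq_mul_left this h'
      omega
  intro g hg
  have hgC : g ∈ C := Subgroup.mem_centralizer_iff.2 fun y hy => (hg y hy).symm
  have hd : Nat.card C ∣ 2 * p := S.hN ▸ Subgroup.card_dvd_of_le hCN
  have hpd : p ∣ Nat.card C := hP ▸ Subgroup.card_dvd_of_le hPC
  obtain ⟨c, hc⟩ := hpd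
  rw [hc, mul_comm 2 p] at hd
  have hc2 := Nat.dvd_of_mul_dvd_mul_left hp.pos hd
  rcases (Nat.dvd_prime Nat.prime_two).1 hc2 with rfl | rfl
  · rw [mul_one] at hc
    rwa [Subgroup.eq_of_le_of_card_ge hPC (by rw [hc, hP])]
  · exact absurd (Subgroup.eq_of_le_of_card_ge hCN (by rw [S.hN, hc, mul_comm])) hne

theorem Setup.ne_one (S : Setup G p P) : ∃ z ∈ (P : Subgroup G), z ≠ 1 :=
  (Subgroup.bot_or_exists_ne_one (P : Subgroup G)).resolve_left fun e' => by
    have := S.card_P
    rw [e', Subgroup.card_bot] at this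
    have := S.hp
    omega

theorem Setup.conj_mem (S : Setup G p P) {g : G} (hg : orderOf g = p) :
    ∃ k : G, k * g * k⁻¹ ∈ (P : Subgroup G) ∧ k * g * k⁻¹ ≠ 1 := by
  have hp : p.Prime := Fact.out
  obtain ⟨Q, hQ⟩ := (IsPGroup.of_card (p := p) (n := 1) (show Nat.card (Subgroup.zpowers g) = p ^ 1 by
    rw [Nat.card_zpowers, hg, pow_one])).exists_le_sylow
  obtain ⟨k, hk⟩ := exists_smul_eq G Q P
  refine ⟨k, ?_, fun e => ?_⟩
  · rw [← hk, Sylow.coe_subgroup_smul]
    exact ⟨g, hQ (Subgroup.mem_zpowers g), rfl⟩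
  · rw [conj_eq_one_iff] at e
    rw [e, orderOf_one] at hg
    exact hp.one_lt.ne hg

theorem fixNum_conj (g k : G) : fixNum (k * g * k⁻¹) = fixNum g := by
  refine (Finset.card_bij (fun y _ => k • y) (fun y hy => ?_) (fun a _ b _ e => ?_) fun b hb => ?_).symm
  · simp only [Finset.mem_filter, Finset.mem_univ, true_and] at hy ⊢
    rw [mul_smul, mul_smul, inv_smul_smul, hy]
  · exact MulAction.injective k e
  · simp only [Finset.mem_filter, Finset.mem_univ, true_and] at hb ⊢
    refine ⟨k⁻¹ • b, ?_, smul_inv_smul _ _⟩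
    calc g • k⁻¹ • b = k⁻¹ • (k * g * k⁻¹) • b := by
          simp only [← mul_smul]; congr 1; group
      _ = k⁻¹ • b := by rw [hb]

/-- The elements of the outer coset of `P` in its normalizer act the same on points fixed by `P`. -/
theorem Setup.coset (S : Setup G p P) {y g : G}
    (hy : y ∈ Subgroup.normalizer ((P : Subgroup G) : Set G)) (hyP : y ∉ (P : Subgroup G))
    (hg : g ∈ Subgroup.normalizer ((P : Subgroup G) : Set G)) (hgP : g ∉ (P : Subgroup G)) :
    y⁻¹ * g ∈ (P : Subgroup G) := by
  have hI := S.inv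
  by_contra hc
  obtain ⟨x, hx, hx1⟩ := S.ne_one
  have h1 := (hI.involution hy hyP).2 x hx
  have h2 := (hI.involution hg hgP).2 x hx
  have h3 := (hI.involution (mul_mem (inv_mem hy) hg) hc).2 x hx
  have h4 : y⁻¹ * g * x * (y⁻¹ * g)⁻¹ = x := by
    calc y⁻¹ * g * x * (y⁻¹ * g)⁻¹ = y⁻¹ * (g * x * g⁻¹) * y := by group
      _ = y⁻¹ * x⁻¹ * y := by rw [h2]
      _ = y⁻¹ * (y * x * y⁻¹) * y := by rw [h1]
      _ = x := by group
  rw [h4] at h3
  have h5 : orderOf x ∣ 2 := orderOf_dvd_of_pow_eq_one (by rw [sq, ← eq_inv_iff_mul_eq_one]; exact h3)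
  rw [(hI.zpowers_eq hx hx1).2] at h5
  have := Nat.le_of_dvd two_pos h5
  have := S.hp
  omega

/-- Elements of order `p` fix no point. -/
theorem Setup.fix_zero (S : Setup G p P) {g : G} (hg : orderOf g = p) : fixNum g = 0 := by
  have hp : p.Prime := Fact.out
  have hI := S.inv
  haveI := S.trans
  obtain ⟨k, hk, hk1⟩ := S.conj_mem hg
  rw [← fixNum_conj g k, fixNum, Finset.card_eq_zero]
  by_contra hne
  set x := k * g * k⁻¹ with hx
  set s := Finset.univ.filter fun y : α => x • y = y with hs
  -- every point fixed by `x` is fixed by `P`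
  have hfixP : ∀ b : α, x • b = b → ∀ z ∈ (P : Subgroup G), z • b = b := by
    intro b hb z hz
    have hle : Subgroup.zpowers x ≤ stabilizer G b := Subgroup.zpowers_le.2 hb
    rw [(hI.zpowers_eq hk hk1).1] at hle
    exact hle hz
  obtain ⟨a, ha⟩ : s.Nonempty := Finset.nonempty_iff_ne_empty.2 hne
  simp only [hs, Finset.mem_filter, Finset.mem_univ, true_and] at ha
  obtain ⟨y, hy, hyP⟩ := hI.exists_inverting
  -- the normalizer is transitive on those points
  have horb : ∀ b : α, x • b = b → b = a ∨ b = y • a := by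
    intro b hb
    obtain ⟨m, hm⟩ := exists_smul_eq G a b
    have hPb : (P : Subgroup G) ≤ stabilizer G b := fun z hz => hfixP b hb z hz
    have hm' : ((m • P : Sylow p G) : Subgroup G) ≤ stabilizer G b := by
      rintro z hz
      rw [Sylow.coe_subgroup_smul] at hz
      obtain ⟨w, hw, rfl⟩ := hz
      show (m * w * m⁻¹) • b = b
      rw [mul_smul, mul_smul, inv_smul_eq_iff.2 hm.symm, hfixP a ha w hw, hm]
    obtain ⟨c, hc⟩ := exists_smul_eq (stabilizer G b) ((m • P).subtype hm') (P.subtype hPb)
    rw [Sylow.smul_subtype] at hc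
    have hc' := Sylow.subtype_injective hc
    have hN : (c : G) * m ∈ Subgroup.normalizer ((P : Subgroup G) : Set G) := by
      exact Sylow.smul_eq_iff_mem_normalizer.1 ((mul_smul (c : G) m P).trans hc')
    have hb' : ((c : G) * m) • a = b := by rw [mul_smul, hm]; exact c.2
    by_cases hnP : (c : G) * m ∈ (P : Subgroup G)
    · left
      rw [← hb', hfixP a ha _ hnP]
    · right
      rw [← hb', show (c : G) * m = y * (y⁻¹ * ((c : G) * m)) by rw [mul_inv_cancel_left], mul_smul,
        hfixP a ha _ (S.coset hy hyP hN hnP)]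
  have h2 : s.card ≤ 2 := by
    refine (Finset.card_le_card (t := {a, y • a}) fun b hb => ?_).trans Finset.card_le_two
    simp only [hs, Finset.mem_filter, Finset.mem_univ, true_and] at hb
    simpa using horb b hb
  -- but their number is divisible by `p`
  set σ : Equiv.Perm α := (x : Equiv.Perm α) with hσ
  have ho : orderOf σ = p := by rw [hσ, Subgroup.orderOf_coe, (hI.zpowers_eq hk hk1).2]
  have hfix : s.card + σ.support.card = 3 * p := by
    rw [← S.hα, ← Finset.card_univ, ← Finset.card_filter_add_card_filter_not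
      (s := (Finset.univ : Finset α)) (fun y => x • y = y)]
    congr 1
  obtain ⟨n, hn⟩ := Equiv.Perm.cycleType_prime_order (σ := σ) (by rw [ho]; exact hp)
  have hsupp : σ.support.card = (n + 1) * p := by
    rw [← Equiv.Perm.sum_cycleType, hn, Multiset.sum_replicate, ho, smul_eq_mul]
  have hpos : 0 < s.card := Finset.card_pos.2 ⟨a, by simp [hs, ha]⟩
  have hd : p ∣ s.card := by
    have h1 : p ∣ s.card + σ.support.card := by rw [hfix]; exact dvd_mul_left p 3
    exact (Nat.dvd_add_left (by rw [hsupp]; exact dvd_mul_left p _)).1 h1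
  have := Nat.le_of_dvd hpos hd
  have := S.hp
  omega

theorem Setup.fix_zero_mem (S : Setup G p P) {z : G} (hz : z ∈ (P : Subgroup G)) (hz1 : z ≠ 1) :
    fixNum z = 0 :=
  S.fix_zero (S.inv.zpowers_eq hz hz1).2

theorem Setup.sum_fix (S : Setup G p P) : ∑ g : G, fixNum g = Nat.card G := by
  haveI := S.trans
  have h := sum_desc_trans (G := G) (n := 1) (is_one_pretransitive_iff.2 S.trans)
    (by rw [S.hα]; have := S.hp; omega)
  simpa using h

/-- All elements are even permutations. -/
theorem Setup.sign_eq_one (S : Setup G p P) (g : G) : Equiv.Perm.sign (g : Equiv.Perm α) = 1 :=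
  DFunLike.congr_fun (S.hom_eq_one (Equiv.Perm.sign.comp G.subtype)) g

/-- The moved points of an involution come in a multiple of four. -/
theorem Setup.four_dvd (S : Setup G p P) {y : G} (hy : orderOf y = 2) :
    fixNum y ≤ 3 * p ∧ 4 ∣ 3 * p - fixNum y := by
  set σ : Equiv.Perm α := (y : Equiv.Perm α) with hσ
  have ho : orderOf σ = 2 := by rw [hσ, Subgroup.orderOf_coe, hy]
  obtain ⟨n, hn⟩ := Equiv.Perm.cycleType_prime_order (σ := σ) (by rw [ho]; exact Nat.prime_two)
  have hsupp : σ.support.card = (n + 1) * 2 := by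
    rw [← Equiv.Perm.sum_cycleType, hn, Multiset.sum_replicate, ho, smul_eq_mul]
  have hfix : fixNum y + σ.support.card = 3 * p := by
    rw [← S.hα, ← Finset.card_univ, ← Finset.card_filter_add_card_filter_not
      (s := (Finset.univ : Finset α)) (fun z => y • z = z)]
    congr 1
  have hs := S.sign_eq_one y
  rw [← hσ, Equiv.Perm.sign_of_cycleType, hn, Multiset.sum_replicate, Multiset.card_replicate, ho,
    smul_eq_mul, neg_one_pow_eq_one_iff_even (by decide)] at hs
  obtain ⟨i, hi⟩ := hs
  refine ⟨by omega, ?_⟩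
  omega

/-- An outer element of the normalizer fixes one point, or three when `4 ∣ p - 1`. -/
theorem Setup.fix_outer (S : Setup G p P) {y : G}
    (hy : y ∈ Subgroup.normalizer ((P : Subgroup G) : Set G)) (hyP : y ∉ (P : Subgroup G)) :
    fixNum y = 1 ∧ p % 4 = 3 ∨ fixNum y = 3 ∧ p % 4 = 1 := by
  have hI := S.inv
  have ho := (hI.involution hy hyP).1
  obtain ⟨hle, h4⟩ := S.four_dvd ho
  have hodd : p % 2 = 1 :=
    Nat.odd_iff.1 ((Fact.out : p.Prime).odd_of_ne_two (by have := S.hp; omega))
  haveI : Finite (orbitRel.Quotient (P : Subgroup G) α) := Quotient.finite _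
  letI := Fintype.ofFinite (orbitRel.Quotient (P : Subgroup G) α)
  -- at most one fixed point in each orbit of `P`
  have hinj : Set.InjOn (fun a : α => (⟦a⟧ : orbitRel.Quotient (P : Subgroup G) α))
      (Finset.univ.filter fun a : α => y • a = a) := by
    intro a ha b hb hab
    simp only [Finset.coe_filter, Finset.mem_univ, true_and, Set.mem_setOf_eq] at ha hb
    obtain ⟨⟨x, hx⟩, hxb⟩ := Quotient.exact hab
    change (x : G) • b = a at hxb
    have h1 : x⁻¹ • b = a := by
      rw [← (hI.involution hy hyP).2 x hx, mul_smul, mul_smul, inv_smul_eq_iff.2 hb.symm, hxb, ha]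
    by_cases hx1 : x = 1
    · rw [← hxb, hx1, one_smul]
    exfalso
    have h2 : (x * x) • b = b := by rw [mul_smul, hxb, ← h1, smul_inv_smul]
    have hxx : x * x ≠ 1 := fun e => by
      have h5 : orderOf x ∣ 2 := orderOf_dvd_of_pow_eq_one (by rw [sq]; exact e)
      rw [(hI.zpowers_eq hx hx1).2] at h5
      have := Nat.le_of_dvd two_pos h5
      have := S.hp
      omega
    have h0 := S.fix_zero_mem (mul_mem hx hx) hxx
    rw [fixNum, Finset.card_eq_zero, Finset.filter_eq_empty_iff] at h0
    exact h0 (Finset.mem_univ b) h2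
  have horb : Fintype.card (orbitRel.Quotient (P : Subgroup G) α) = 3 := by
    haveI : ∀ x : (P : Subgroup G), Fintype (fixedBy α x) := fun x => Fintype.ofFinite _
    have hb := sum_card_fixedBy_eq_card_orbits_mul_card_group (P : Subgroup G) α
    rw [Finset.sum_eq_single (1 : (P : Subgroup G))] at hb
    · rw [← Nat.card_eq_fintype_card (α := (P : Subgroup G)), S.card_P] at hb
      have h1 : Fintype.card (fixedBy α (1 : (P : Subgroup G))) = 3 * p := by
        rw [← S.hα]
        exact Fintype.card_congr ((Equiv.setCongr (Set.eq_univ_of_forall fun a => one_smul _ a)).trans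
          (Equiv.Set.univ α))
      rw [h1] at hb
      exact (Nat.eq_of_mul_eq_mul_right (Fact.out : p.Prime).pos hb).symm
    · intro x _ hx
      rw [Fintype.card_eq_zero_iff]
      refine ⟨fun a => ?_⟩
      have h0 := S.fix_zero_mem x.2 fun e => hx (Subtype.ext e)
      rw [fixNum, Finset.card_eq_zero, Finset.filter_eq_empty_iff] at h0
      exact h0 (Finset.mem_univ a.1) a.2
    · simp
  have h3 : fixNum y ≤ 3 := horb ▸ Finset.card_le_card_of_injOn _ (fun a _ => Finset.mem_univ _) hinj
  omega

end CfsgLib.Perm.ThricePrime
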