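import Cfsg.Agent.Lib.Perm.ThricePrime.Rank
import Cfsg.Agent.Lib.Perm.ThricePrime.Sections
import Cfsg.Agent.Lib.BrauerSuzuki.Setup
import Cfsg.Agent.S0165

/-!
# Degree thrice a prime: the special fixed point of an involution
-/

set_option autoImplicit false

open scoped Classical

namespace CfsgLib.Perm.ThricePrime

open MulAction CfsgLib.Char CfsgLib.Char.InvertedPrime CfsgLib.Perm.PrimeDegreeDihedral

universe u

variable {α : Type u} [Fintype α] {G : Subgroup (Equiv.Perm α)} {p : ℕ} [Fact p.Prime]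
  {P : Sylow p G}

variable {T : Sylow 2 G} {W : Subgroup G} {F : Finset α} {σ s : G} {a : α}

variable {θ ψ : Cfsg.IrrCharacter G} {tz pz : G → ℤ} {n : ℕ}

/-- An element of the Sylow subgroup outside `W` fixes only `a` among the points of `F`. -/
theorem Eight.out_eq (E : Eight (p := p) T W F σ s a) {v : G} (hv : v ∈ (T : Subgroup G)) (hvW : v ∉ W)
    {x : α} (hx : x ∈ F) (h : v • x = x) : x = a := by
  by_contra hne
  refine hvW ((E.ker.mem v).2 ⟨hv, fun u hu => ?_⟩)
  have ha : v • a = a := E.le_stab hv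
  obtain ⟨w, hw⟩ : ∃ w, (F.erase a).erase x = {w} := Finset.card_eq_one.1 (by
    rw [Finset.card_erase_of_mem (Finset.mem_erase.2 ⟨hne, hx⟩), Finset.card_erase_of_mem E.aF,
      E.ker.card_F])
  by_cases hua : u = a
  · rw [hua, ha]
  by_cases hux : u = x
  · rw [hux, h]
  have huw : u = w := Finset.mem_singleton.1
    (hw ▸ Finset.mem_erase.2 ⟨hux, Finset.mem_erase.2 ⟨hua, hu⟩⟩)
  have h1 : v • u ∈ ({w} : Finset α) := hw ▸ Finset.mem_erase.2
    ⟨fun e => hux (MulAction.injective v (e.trans h.symm)),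
      Finset.mem_erase.2 ⟨fun e => hua (MulAction.injective v (e.trans ha.symm)),
        E.ker.stable v hv u hu⟩⟩
  rw [Finset.mem_singleton.1 h1, huw]

/-- Odd elements centralizing an involution fix its fixed points, and the centralizer of an
involution fixes one of them. -/
structure Special (E : Eight (p := p) T W F σ s a) : Prop where
  odd_fix : ∀ (u y : G), orderOf u = 2 → Commute y u → ¬ 2 ∣ orderOf y →
    ∀ x : α, u • x = x → y • x = x
  decomp : ∀ g : G, Commute g (σ ^ 2) → ∃ t ∈ (T : Subgroup G), ∃ y : G,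
    Commute y (σ ^ 2) ∧ ¬ 2 ∣ orderOf y ∧ g = t * y
  cent_stab : ∀ g : G, Commute g (σ ^ 2) → g • a = a
  cent_s : ∀ g : G, Commute g s → g • a = a
  cent_σs : ∃ g : G, Commute g (σ * s) ∧ g • a ≠ a
  point : ∃ b ∈ F, b ≠ a ∧ ∀ g : G, Commute g (σ * s) → g • b = b
  fusion : ∀ u : G, orderOf u = 2 → IsConj (σ ^ 2) u

/-- `θ` takes the value one on elements of even order, and lies in the principal block. -/
theorem Theta.value_even (S : Setup G p P) (hT : Theta P θ tz n) (hn : n = 2)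
    (hv : (Nat.card G).factorization 2 = 3) (hp4 : p % 4 = 1) {g : G} (hg : 2 ∣ orderOf g) :
    tz g = 1 := by
  have hp : p.Prime := Fact.out
  obtain ⟨lam, X, -, -, hX1, hXv⟩ := hT.exists_X S
  have hgp : orderOf g ≠ p := fun e => by
    rw [e] at hg
    have := S.hp
    omega
  obtain ⟨N, ρ, hρ, hρX⟩ := X.2
  haveI := hρ
  have hfr : ((Module.finrank ℂ (Fin N → ℂ) : ℕ) : ℂ) = ((2 * p - 2 : ℕ) : ℂ) := by
    rw [← ρ.char_one, hρX, hX1, hT.deg, hn, Nat.cast_sub (by have := S.hp; omega)]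
    push_cast
    ring
  have h0 := Cfsg.Agent.S0165.result ρ 2 3 Nat.prime_two (hv ▸ Nat.ordProj_dvd _ 2)
    (hv ▸ Nat.pow_succ_factorization_not_dvd Nat.card_pos.ne' Nat.prime_two)
    (by
      have e : Module.finrank ℂ (Fin N → ℂ) = 2 * p - 2 := by exact_mod_cast hfr
      rw [e]
      norm_num
      omega) g hg
  rw [hρX, hXv g hgp] at h0
  have : (tz g : ℂ) = ((1 : ℤ) : ℂ) := by push_cast; linear_combination h0
  exact_mod_cast this

theorem Theta.exists_special (S : Setup G p P) (hT : Theta P θ tz n) (hn : n = 2)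
    (hψ : Psi P θ ψ tz pz) (E : Eight (p := p) T W F σ s a) {M : Ideal Cfsg.AlgInt}
    (hM : Cfsg.IsPModular 2 M) (hv : (Nat.card G).factorization 2 = 3) (hp4 : p % 4 = 1)
    (h3 : ∀ y : G, orderOf y = 2 → fixNum y = 3)
    (hone : ∀ x y : G, orderOf x = 2 → orderOf y = 2 → IsConj x y) :
    Special E ∧ θ ∈ Cfsg.principalBlock M G := by
  haveI : Fact (Nat.Prime 2) := ⟨Nat.prime_two⟩
  have hp : p.Prime := Fact.out
  have heven : ∀ g : G, 2 ∣ orderOf g → tz g = 1 := fun g hg => hT.value_even S hn hv hp4 hg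
  have hord : ∀ y : G, Commute y σ → ¬ 2 ∣ orderOf y → 2 ∣ orderOf (σ * y) := fun y hy hodd => by
    have hc : Nat.Coprime (orderOf σ) (orderOf y) := by
      rw [E.orderOf_σ]
      exact ((Nat.prime_two.coprime_iff_not_dvd).2 hodd).pow_left 2
    rw [hy.symm.orderOf_mul_eq_mul_orderOf_of_coprime hc, E.orderOf_σ]
    exact dvd_mul_of_dvd_left (by norm_num) _
  have hθ : θ ∈ Cfsg.principalBlock M G := E.mem_principal hM (one_ne_zero) fun y hy hodd => by
    rw [hT.val, heven _ (hord y hy hodd), Int.cast_one]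
  have hψB : ψ ∈ Cfsg.principalBlock M G := E.mem_principal hM (show (-1 : ℂ) ≠ 0 by norm_num)
    fun y hy hodd => by
      have h := hψ.fix (σ * y)
      rw [heven _ (hord y hy hodd), E.fix_σ hy hodd] at h
      rw [hψ.val, show pz (σ * y) = -1 by omega]
      norm_num
  have hz := E.orderOf_z
  -- odd elements of `C(z)` fix `F`
  have hzfix : ∀ y : G, Commute y (σ ^ 2) → ¬ 2 ∣ orderOf y → ∀ x ∈ F, y • x = x := by
    intro y hy hodd x hx
    have h := CfsgLib.Blocks.SectionSums.apply_section hM hψB (z := σ ^ 2) ⟨1, by rw [hz, pow_one]⟩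
      E.npc hy hodd
    have hev : 2 ∣ orderOf (σ ^ 2 * y) := by
      rw [hy.symm.orderOf_mul_eq_mul_orderOf_of_coprime (by
        rw [hz]; exact (Nat.prime_two.coprime_iff_not_dvd).2 hodd), hz]
      exact dvd_mul_right 2 _
    have h1 := hψ.fix (σ ^ 2 * y)
    have h2 := hψ.fix (σ ^ 2)
    rw [hψ.val, hψ.val] at h
    have h' : pz (σ ^ 2 * y) = pz (σ ^ 2) := by exact_mod_cast h
    rw [heven _ hev, h'] at h1
    rw [heven _ (by rw [hz]), h3 _ hz] at h2
    obtain ⟨i, hi⟩ := Nat.odd_iff.2 (Nat.two_dvd_ne_zero.1 hodd)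
    have hm : (σ ^ 2 * y) ^ orderOf y = σ ^ 2 := by
      rw [hy.symm.mul_pow, pow_orderOf_eq_one, mul_one, hi, ← pow_mul,
        show 2 * (2 * i + 1) = 4 * i + 2 by ring, pow_add, pow_mul,
        show σ ^ 4 = 1 from E.orderOf_σ ▸ pow_orderOf_eq_one σ, one_pow, one_mul]
    have hsub : (Finset.univ.filter fun v : α => (σ ^ 2 * y) • v = v) ⊆ F := fun v hv => by
      simp only [Finset.mem_filter, Finset.mem_univ, true_and] at hv
      exact E.mem_F_of_z (hm ▸ Subgroup.pow_mem (stabilizer G v) hv _)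
    have heq := Finset.eq_of_subset_of_card_le hsub (by
      rw [E.ker.card_F]
      have : fixNum (σ ^ 2 * y) = 3 := by omega
      exact this.ge)
    have hx' := hx
    rw [← heq, Finset.mem_filter, hy.symm.eq, mul_smul, E.smul_z hx] at hx'
    exact hx'.2
  have hodd_fix : ∀ (u y : G), orderOf u = 2 → Commute y u → ¬ 2 ∣ orderOf y →
      ∀ x : α, u • x = x → y • x = x := by
    intro u y hu hy hodd x hx
    obtain ⟨g, rfl⟩ := isConj_iff.1 (hone (σ ^ 2) u hz hu)
    have h1 : Commute (g⁻¹ * y * g) (σ ^ 2) := by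
      show g⁻¹ * y * g * σ ^ 2 = σ ^ 2 * (g⁻¹ * y * g)
      calc g⁻¹ * y * g * σ ^ 2 = g⁻¹ * (y * (g * σ ^ 2 * g⁻¹)) * g := by group
        _ = g⁻¹ * (g * σ ^ 2 * g⁻¹ * y) * g := by rw [hy.eq]
        _ = _ := by group
    have h2 : ¬ 2 ∣ orderOf (g⁻¹ * y * g) := by
      have e : g⁻¹ * y * g = MulAut.conj g⁻¹ y := by rw [MulAut.conj_apply, inv_inv]
      rwa [e, MulEquiv.orderOf_eq]
    have h3 : g⁻¹ • x ∈ F := E.mem_F_of_z (MulAction.injective g (by
      calc g • (σ ^ 2) • g⁻¹ • x = (g * σ ^ 2 * g⁻¹) • x := by simp only [mul_smul]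
        _ = x := hx
        _ = g • g⁻¹ • x := (smul_inv_smul g x).symm))
    have h4 := hzfix _ h1 h2 _ h3
    rw [mul_smul, mul_smul, smul_inv_smul] at h4
    exact MulAction.injective g⁻¹ h4
  have hle : (T : Subgroup G) ≤ Subgroup.centralizer ({σ ^ 2} : Set G) := fun x hx =>
    Subgroup.mem_centralizer_singleton_iff.2 (E.z_comm hx).eq.symm
  obtain ⟨π, hπ, hker⟩ := CfsgLib.BrauerSuzuki.exists_retraction E.npc (T.subtype hle)
  have hdec : ∀ g : G, Commute g (σ ^ 2) → ∃ t ∈ (T : Subgroup G), ∃ y : G,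
      Commute y (σ ^ 2) ∧ ¬ 2 ∣ orderOf y ∧ g = t * y := by
    intro g hg
    set g' : Subgroup.centralizer ({σ ^ 2} : Set G) :=
      ⟨g, Subgroup.mem_centralizer_singleton_iff.2 hg.eq⟩ with hg'
    set t : Subgroup.centralizer ({σ ^ 2} : Set G) := (π g' : Subgroup.centralizer ({σ ^ 2} : Set G))
    refine ⟨t, (π g').2, ((t⁻¹ * g' : Subgroup.centralizer ({σ ^ 2} : Set G)) : G),
      Subgroup.mem_centralizer_singleton_iff.1 (t⁻¹ * g').2, ?_, by simp [hg']⟩
    rw [Subgroup.orderOf_coe]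
    refine (Nat.Prime.coprime_iff_not_dvd Nat.prime_two).1 (hker _ ?_).symm
    rw [map_mul, map_inv, hπ, inv_mul_cancel]
  have hcent : ∀ g : G, Commute g (σ ^ 2) → g • a = a := by
    intro g hg
    obtain ⟨t, ht, y, hy, hodd, rfl⟩ := hdec g hg
    rw [mul_smul, hzfix y hy hodd a E.aF]
    exact E.le_stab ht
  -- special points of conjugates
  have hconj : ∀ g : G, ∀ y : G, Commute y (g * σ ^ 2 * g⁻¹) → y • g • a = g • a := by
    intro g y hy
    have h := hcent (g⁻¹ * y * g) (by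
      show g⁻¹ * y * g * σ ^ 2 = σ ^ 2 * (g⁻¹ * y * g)
      calc g⁻¹ * y * g * σ ^ 2 = g⁻¹ * (y * (g * σ ^ 2 * g⁻¹)) * g := by group
        _ = g⁻¹ * (g * σ ^ 2 * g⁻¹ * y) * g := by rw [hy.eq]
        _ = _ := by group)
    rw [mul_smul, mul_smul, inv_smul_eq_iff] at h
    exact h
  have hs2 := E.orderOf_s
  have hs : ∀ g : G, Commute g s → g • a = a := by
    obtain ⟨k, hk⟩ := isConj_iff.1 (hone (σ ^ 2) s hz hs2)
    have hka : k • a = a := by
      refine E.out_eq E.s_mem E.sW (E.mem_F_of_z ?_) (hconj k s (by rw [hk]))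
      exact hconj k _ (by rw [hk]; exact E.z_comm E.s_mem)
    intro g hg
    have := hconj k g (by rw [hk]; exact hg)
    rwa [hka] at this
  have hσs2 : orderOf (σ * s) = 2 := by
    refine orderOf_eq_prime ?_ fun e => E.sW ?_
    · rw [sq]
      have := CfsgLib.Involution.DihedralSylow.refl_sq E.gen 1
      simpa using this
    · have hsσ : s = σ⁻¹ := eq_inv_of_mul_eq_one_right e
      exact absurd (hsσ ▸ Subgroup.inv_mem _ (Subgroup.mem_zpowers σ)) E.gen.nb
  obtain ⟨k, hk⟩ := isConj_iff.1 (hone (σ ^ 2) (σ * s) hz hσs2)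
  have hkF : k • a ∈ F :=
    E.mem_F_of_z (hconj k _ (by rw [hk]; exact E.z_comm (mul_mem E.gen.amem E.s_mem)))
  have hkb : ∀ g : G, Commute g (σ * s) → g • k • a = k • a := fun g hg => hconj k g (by rw [hk]; exact hg)
  -- the centralizer of `σ s` does not fix `a`
  have hbad : ¬ ∀ g : G, Commute g (σ * s) → g • a = a := by
    intro hall
    have hT' : ∀ u ∈ (T : Subgroup G), orderOf u = 2 → ∀ g : G, Commute g u → g • a = a := by
      intro u hu hu2 g hg
      rcases E.gen.cases u hu with ⟨i, rfl⟩ | ⟨i, rfl⟩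
      · have he : σ ^ i = σ ^ 2 := by
          have h1 : σ ^ i = σ ^ (i % 4) := by
            conv_lhs => rw [← zpow_mod_orderOf, E.orderOf_σ]
            norm_num
          rw [h1] at hu2 ⊢
          have h0 := Int.emod_nonneg i (show (4 : ℤ) ≠ 0 by norm_num)
          have h4 := Int.emod_lt_of_pos i (show (0 : ℤ) < 4 by norm_num)
          rcases (show i % 4 = 0 ∨ i % 4 = 1 ∨ i % 4 = 2 ∨ i % 4 = 3 by omega) with h | h | h | h <;>
            rw [h] at hu2 ⊢
          · rw [zpow_zero, orderOf_one] at hu2; omega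
          · rw [zpow_one, E.orderOf_σ] at hu2; omega
          · rfl
          · rw [show (3 : ℤ) = ((3 : ℕ) : ℤ) from rfl, zpow_natCast,
              orderOf_pow' σ (by norm_num), E.orderOf_σ] at hu2
            norm_num at hu2
        exact hcent g (he ▸ hg)
      · obtain ⟨j, rfl | rfl⟩ : ∃ j, i = 2 * j ∨ i = 2 * j + 1 := ⟨i / 2, by omega⟩
        · have he : σ ^ (2 * j) * s = σ ^ j * s * (σ ^ j)⁻¹ := by
            have := CfsgLib.Involution.DihedralSylow.conj_rot E.gen j 0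
            rw [zpow_zero, one_mul, zero_add] at this
            exact this.symm
          have h := hs ((σ ^ j)⁻¹ * g * σ ^ j) (by
            show (σ ^ j)⁻¹ * g * σ ^ j * s = s * ((σ ^ j)⁻¹ * g * σ ^ j)
            calc (σ ^ j)⁻¹ * g * σ ^ j * s = (σ ^ j)⁻¹ * (g * (σ ^ j * s * (σ ^ j)⁻¹)) * σ ^ j := by group
              _ = (σ ^ j)⁻¹ * ((σ ^ j * s * (σ ^ j)⁻¹) * g) * σ ^ j := by rw [← he, hg.eq]
              _ = _ := by group)
          have hja : (σ ^ j) • a = a := E.le_stab (Subgroup.zpow_mem _ E.gen.amem j)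
          rwa [mul_smul, mul_smul, hja, inv_smul_eq_iff, hja] at h
        · have he : σ ^ (2 * j + 1) * s = σ ^ j * (σ * s) * (σ ^ j)⁻¹ := by
            have := CfsgLib.Involution.DihedralSylow.conj_rot E.gen j 1
            rw [zpow_one, add_comm] at this
            exact this.symm
          have h := hall ((σ ^ j)⁻¹ * g * σ ^ j) (by
            show (σ ^ j)⁻¹ * g * σ ^ j * (σ * s) = σ * s * ((σ ^ j)⁻¹ * g * σ ^ j)
            calc (σ ^ j)⁻¹ * g * σ ^ j * (σ * s) =
                  (σ ^ j)⁻¹ * (g * (σ ^ j * (σ * s) * (σ ^ j)⁻¹)) * σ ^ j := by group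
              _ = (σ ^ j)⁻¹ * ((σ ^ j * (σ * s) * (σ ^ j)⁻¹) * g) * σ ^ j := by rw [← he, hg.eq]
              _ = _ := by group)
          have hja : (σ ^ j) • a = a := E.le_stab (Subgroup.zpow_mem _ E.gen.amem j)
          rwa [mul_smul, mul_smul, hja, inv_smul_eq_iff, hja] at h
    obtain ⟨b, hbF, hb⟩ : ∃ b ∈ F, b ≠ a := by
      by_contra hc
      push Not at hc
      have : F.card ≤ 1 := Finset.card_le_one.2 fun x hx y hy => (hc x hx).trans (hc y hy).symm
      rw [E.ker.card_F] at this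
      omega
    haveI := S.trans
    obtain ⟨g, hg⟩ := exists_smul_eq G a b
    set u := g⁻¹ * σ ^ 2 * g with hu
    have hu2 : orderOf u = 2 := by
      rw [hu, show g⁻¹ * σ ^ 2 * g = MulAut.conj g⁻¹ (σ ^ 2) by rw [MulAut.conj_apply, inv_inv],
        MulEquiv.orderOf_eq, hz]
    have hua : u ∈ stabilizer G a := by
      rw [mem_stabilizer_iff, hu, mul_smul, mul_smul, hg, E.smul_z hbF, ← hg, inv_smul_smul]
    let T' : Sylow 2 (stabilizer G a) := T.subtype E.le_stab
    obtain ⟨v, hv⟩ := CfsgLib.Blocks.TIAbelian.exists_conj_mem_sylow_p T'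
      (R := Subgroup.zpowers (⟨u, hua⟩ : stabilizer G a))
      (IsPGroup.of_card (n := 1) (by rw [Nat.card_zpowers, Subgroup.orderOf_mk, hu2, pow_one]))
    have hvT : (v : G) * u * (v : G)⁻¹ ∈ (T : Subgroup G) :=
      Subgroup.mem_subgroupOf.1 (hv _ (Subgroup.mem_zpowers _))
    refine E.σW ((E.ker.mem σ).2 ⟨E.gen.amem, fun x hx => ?_⟩)
    -- `σ` commutes with `z` and so would fix `b`
    have hσb : σ • b = b := by
      have h := hT' _ hvT (by rw [← MulAut.conj_apply, MulEquiv.orderOf_eq, hu2])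
        ((v : G) * (g⁻¹ * σ * g) * (v : G)⁻¹) (by
          show (v : G) * (g⁻¹ * σ * g) * (v : G)⁻¹ * ((v : G) * u * (v : G)⁻¹) =
            (v : G) * u * (v : G)⁻¹ * ((v : G) * (g⁻¹ * σ * g) * (v : G)⁻¹)
          rw [hu]
          group)
      have hva : (v : G) • a = a := v.2
      rw [mul_smul, mul_smul, inv_smul_eq_iff.2 hva.symm, smul_eq_iff_eq_inv_smul,
        inv_smul_eq_iff.2 hva.symm, mul_smul, mul_smul, inv_smul_eq_iff, hg] at h
      exact h
    exact absurd (E.σ_eq hbF hσb) hb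
  have hne : k • a ≠ a := fun e => hbad fun g hg => by have := hkb g hg; rwa [e] at this
  push Not at hbad
  exact ⟨⟨hodd_fix, hdec, hcent, hs, hbad, ⟨k • a, hkF, hne, hkb⟩, fun u hu => hone _ u hz hu⟩, hθ⟩

end CfsgLib.Perm.ThricePrime
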