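import Cfsg.Agent.Lib.Perm.ThricePrime.NTwo
import Cfsg.Agent.Lib.Perm.ThricePrime.NOne
import Cfsg.Agent.Lib.Perm.Suborbits
import Cfsg.Agent.Lib.Char.Integral

/-!
# Degree thrice a prime: rank three
-/

set_option autoImplicit false

open scoped Classical ComplexConjugate

namespace CfsgLib.Perm.ThricePrime

open MulAction CfsgLib.Char CfsgLib.Char.InvertedPrime CfsgLib.Perm.PrimeDegreeDihedral
  CfsgLib.Perm.CentralizerRing CfsgLib.Perm.Suborbits

universe u

variable {α : Type u} [Fintype α] {G : Subgroup (Equiv.Perm α)} {p : ℕ} [Fact p.Prime]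
  {P : Sylow p G}

variable {θ ψ : Cfsg.IrrCharacter G} {tz pz : G → ℤ} {n : ℕ}

omit [Fintype α] [Fact p.Prime] in
theorem inOrbital_symm {a b x y : α} (h : InOrbital G a b x y) : InOrbital G x y a b := by
  obtain ⟨g, rfl, rfl⟩ := h
  exact ⟨g⁻¹, inv_smul_smul g a, inv_smul_smul g b⟩

omit [Fintype α] [Fact p.Prime] in
theorem inOrbital_trans {a b x y u v : α} (h : InOrbital G a b x y) (h' : InOrbital G x y u v) :
    InOrbital G a b u v := by
  obtain ⟨g, rfl, rfl⟩ := h
  obtain ⟨k, rfl, rfl⟩ := h'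
  exact ⟨k * g, mul_smul k g a, mul_smul k g b⟩

omit [Fintype α] [Fact p.Prime] in
theorem inOrbital_swap {a b x y : α} (h : InOrbital G a b x y) : InOrbital G b a y x := by
  obtain ⟨g, hga, hgb⟩ := h
  exact ⟨g, hgb, hga⟩

theorem Psi.mult_fixC (hψ : Psi P θ ψ tz pz) (S : Setup G p P) (hT : Theta P θ tz n)
    (φ : Cfsg.IrrCharacter G) :
    CentralizerRing.mult (Cfsg.permRep ℂ G α) φ =
      if φ = trivChar G ∨ φ = θ ∨ φ = ψ then 1 else 0 := by
  have h := classInner_eq_mult (Cfsg.permRep ℂ G α) φ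
  have hf : (Cfsg.permRep ℂ G α).character =
      ((trivChar G : Cfsg.IrrCharacter G) : G → ℂ) + (θ : G → ℂ) + (ψ : G → ℂ) := by
    rw [character_fun_eq]
    funext g
    have e : Nat.card (fixedBy α g) = fixNum g := by
      rw [Nat.card_eq_fintype_card, Fintype.card_subtype]
      rfl
    rw [e, Pi.add_apply, Pi.add_apply, hT.val, hψ.val]
    change (fixNum g : ℂ) = 1 + _ + _
    exact_mod_cast hψ.fix g
  have h1 : θ ≠ trivChar G := hT.ne_one S
  have h2 : ψ ≠ trivChar G := hψ.ne_one
  have h3 : ψ ≠ θ := hψ.ne_theta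
  rw [hf, classInner_add_left, classInner_add_left, classInner_irrCharacter,
    classInner_irrCharacter, classInner_irrCharacter] at h
  have h' : (CentralizerRing.mult (Cfsg.permRep ℂ G α) φ : ℂ) =
      ((if φ = trivChar G ∨ φ = θ ∨ φ = ψ then 1 else 0 : ℕ) : ℂ) := by
    rw [← h]
    rcases eq_or_ne φ (trivChar G) with rfl | e1
    · simp [h1, h2]
    rcases eq_or_ne φ θ with rfl | e2
    · simp [h1.symm, h3]
    rcases eq_or_ne φ ψ with rfl | e3
    · simp [h2.symm, Ne.symm h3]
    simp [e1, e2, e3, e1.symm, e2.symm, e3.symm]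
  exact_mod_cast h'

/-- Only three orbitals. -/
theorem Psi.rank (hψ : Psi P θ ψ tz pz) (S : Setup G p P) (hT : Theta P θ tz n) (a : α) :
    Nat.card (orbitRel.Quotient (stabilizer G a) α) = 3 := by
  haveI := S.trans
  rw [rank_eq]
  simp only [hψ.mult_fixC S hT, ite_pow, one_pow, zero_pow two_ne_zero, Finset.sum_boole]
  have e : (Finset.univ.filter fun φ : Cfsg.IrrCharacter G => φ = trivChar G ∨ φ = θ ∨ φ = ψ) =
      {trivChar G, θ, ψ} := by ext; simp
  rw [e, Nat.cast_id, Finset.card_insert_of_notMem, Finset.card_pair (Ne.symm hψ.ne_theta)]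
  simp only [Finset.mem_insert, Finset.mem_singleton, not_or]
  exact ⟨Ne.symm (hT.ne_one S), Ne.symm hψ.ne_one⟩

/-- A point has two suborbits: one of the fixed points of involutions, and one divisible by the
full two-part of the order. -/
theorem Psi.suborbits (hψ : Psi P θ ψ tz pz) (S : Setup G p P) (hT : Theta P θ tz n) {t : G}
    (ht : t ∈ Subgroup.normalizer ((P : Subgroup G) : Set G)) (htP : t ∉ (P : Subgroup G))
    (h2 : Two P tz t) (T : Sylow 2 G) : ∃ (W : Subgroup G) (F : Finset α) (σ : G) (a b : α),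
      Ker (p := p) T W F ∧ σ ∈ (T : Subgroup G) ∧ σ ∉ W ∧ a ∈ F ∧ σ • a = a ∧ b ∈ F ∧ b ≠ a ∧
      Nat.card (T : Subgroup G) = 2 * Nat.card W ∧
      (∀ i j : α, InOrbital G a b i j → InOrbital G a b j i) ∧
      (∀ y : G, orderOf y = 2 → ∀ x z : α, x ≠ z → y • x = x → y • z = z → InOrbital G a b x z) ∧
      ∃ m, 0 < m ∧ Nat.card (orbit (stabilizer G a) b) + Nat.card (T : Subgroup G) * m + 1 = 3 * p := by
  haveI : Fact (Nat.Prime 2) := ⟨Nat.prime_two⟩
  haveI := S.trans
  obtain ⟨W, F, hK⟩ := S.exists_ker h2.fixes T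
  have hTc : Nat.card (T : Subgroup G) = 2 ^ ((p - 1).factorization 2 + 1) := by
    rw [show Nat.card (T : Subgroup G) = 2 ^ (Nat.card G).factorization 2 from T.card_eq_multiplicity,
      h2.two_part]
  obtain ⟨w, hw⟩ := (T.isPGroup'.to_le hK.le).exists_card_eq
  have hwe : w ≤ (p - 1).factorization 2 :=
    (Nat.prime_two.pow_dvd_iff_le_factorization (by have := S.hp; omega)).1 (hw ▸ hK.dvd)
  have hhalf : Nat.card (T : Subgroup G) = 2 * Nat.card W := by
    refine le_antisymm hK.index ?_
    rw [hTc, hw, pow_succ, mul_comm]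
    exact Nat.mul_le_mul_right 2 (Nat.pow_le_pow_right two_pos hwe)
  have hidx : (W.subgroupOf (T : Subgroup G)).index = 2 := by
    have h := (W.subgroupOf (T : Subgroup G)).card_mul_index
    rw [Nat.card_congr (Subgroup.subgroupOfEquivOfLe hK.le).toEquiv, hhalf, mul_comm 2] at h
    exact Nat.eq_of_mul_eq_mul_left Nat.card_pos h
  obtain ⟨σ, hσT, hσW⟩ : ∃ σ ∈ (T : Subgroup G), σ ∉ W := by
    by_contra hc
    push Not at hc
    have : Nat.card W = Nat.card (T : Subgroup G) := by rw [le_antisymm hK.le hc]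
    have := Nat.card_pos (α := W)
    omega
  obtain ⟨b, hbF, hb⟩ : ∃ b ∈ F, σ • b ≠ b := by
    by_contra hc
    push Not at hc
    exact hσW ((hK.mem σ).2 ⟨hσT, hc⟩)
  set c := σ • b with hc
  have hcF : c ∈ F := hK.stable σ hσT b hbF
  have hσc : σ • c = b := by
    have h1 := Subgroup.sq_mem_of_index_two hidx (⟨σ, hσT⟩ : ↥(T : Subgroup G))
    rw [Subgroup.mem_subgroupOf] at h1
    rw [hc, ← mul_smul, ← sq]
    exact ((hK.mem _).1 h1).2 b hbF
  obtain ⟨a, haF, hab, hac⟩ : ∃ a ∈ F, a ≠ b ∧ a ≠ c := by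
    by_contra hcon
    push Not at hcon
    have : F.card ≤ 2 := (Finset.card_le_card (t := {b, c}) fun x hx => by
      simp only [Finset.mem_insert, Finset.mem_singleton]
      exact (em (x = b)).imp id (hcon x hx)).trans Finset.card_le_two
    rw [hK.card_F] at this
    omega
  have hF : F = {a, b, c} := (Finset.eq_of_subset_of_card_le (by
      simp [Finset.insert_subset_iff, haF, hbF, hcF]) (by
      rw [hK.card_F, Finset.card_insert_of_notMem (by simp [hab, hac]), Finset.card_pair (Ne.symm hb)])).symm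
  have hσa : σ • a = a := by
    have h := hK.stable σ hσT a haF
    rw [hF] at h
    simp only [Finset.mem_insert, Finset.mem_singleton] at h
    rcases h with h | h | h
    · exact h
    · exact absurd (MulAction.injective σ (h.trans hσc.symm)) hac
    · exact absurd (MulAction.injective σ h) hab
  obtain ⟨z, hzW, hz, hzc⟩ := hK.central
  have hmemF : ∀ y : G, y ∈ W → y ≠ 1 → ∀ x, y • x = x ↔ x ∈ F := fun y hy hy1 x =>
    ⟨hK.fix y hy hy1 x, ((hK.mem y).1 hy).2 x⟩
  have hz1 : z ≠ 1 := fun e => by rw [e, orderOf_one] at hz; omega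
  -- the orbitals of a point
  have hrank := hψ.rank S hT a
  haveI : Finite (orbitRel.Quotient (stabilizer G a) α) := Quotient.finite _
  letI := Fintype.ofFinite (orbitRel.Quotient (stabilizer G a) α)
  have hquot : ∀ x y : α, (Quotient.mk'' x : orbitRel.Quotient (stabilizer G a) α) = Quotient.mk'' y ↔
      x ∈ orbit (stabilizer G a) y := fun x y => by rw [Quotient.eq'']; exact Iff.rfl
  have horb : ∀ x y u : α, x ≠ a → y ≠ a → u ≠ a → InOrbital G a x a y ∨ InOrbital G a x a u ∨
      InOrbital G a y a u := by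
    intro x y u hx hy hu
    simp only [inOrbital_left_iff, ← hquot]
    have hne : ∀ v : α, v ≠ a →
        (Quotient.mk'' a : orbitRel.Quotient (stabilizer G a) α) ≠ Quotient.mk'' v := by
      intro v hv e
      rw [eq_comm, hquot] at e
      obtain ⟨s, hs⟩ := e
      exact hv (hs.symm.trans s.2)
    by_contra hcon
    simp only [not_or] at hcon
    have h4 : ({Quotient.mk'' a, Quotient.mk'' x, Quotient.mk'' y, Quotient.mk'' u} :
        Finset (orbitRel.Quotient (stabilizer G a) α)).card = 4 := by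
      rw [Finset.card_insert_of_notMem (by simp [hne x hx, hne y hy, hne u hu]),
        Finset.card_insert_of_notMem (by simp [Ne.symm hcon.1, Ne.symm hcon.2.1]),
        Finset.card_pair (Ne.symm hcon.2.2)]
    have := h4 ▸ Finset.card_le_univ ({Quotient.mk'' a, Quotient.mk'' x, Quotient.mk'' y, Quotient.mk'' u} :
        Finset (orbitRel.Quotient (stabilizer G a) α))
    rw [← Nat.card_eq_fintype_card, hrank] at this
    omega
  have hmove : ∀ x y : α, x ≠ y → ∃ v, v ≠ a ∧ InOrbital G x y a v := by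
    intro x y hxy
    obtain ⟨g, hg⟩ := exists_smul_eq G x a
    exact ⟨g • y, fun e => hxy (MulAction.injective g (hg.trans e.symm)), g, hg, rfl⟩
  have hAC : InOrbital G a b a c := ⟨σ, hσa, rfl⟩
  have hBC : InOrbital G b c c b := ⟨σ, rfl, hσc⟩
  -- the orbital of `(a, b)` is self-paired
  have hself : InOrbital G a b b a := by
    obtain ⟨u, hu, hbc⟩ := hmove b c (Ne.symm hb)
    obtain ⟨v, hv, hba⟩ := hmove b a (Ne.symm hab)
    rcases horb b u v (Ne.symm hab) hu hv with h | h | h
    · have h1 : InOrbital G a b b c := inOrbital_trans h (inOrbital_symm hbc)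
      exact inOrbital_trans (inOrbital_trans h1 hBC) (inOrbital_symm (inOrbital_swap h1))
    · exact inOrbital_trans h (inOrbital_symm hba)
    · have h1 : InOrbital G b a b c := inOrbital_trans (inOrbital_trans hba (inOrbital_symm h))
        (inOrbital_symm hbc)
      exact inOrbital_trans (inOrbital_trans (inOrbital_swap h1) (inOrbital_symm hBC))
        (inOrbital_symm h1)
  -- an element exchanging `a` and `b` and preserving `F`
  obtain ⟨τ₀, hτa, hτb⟩ := hself
  set H := stabilizer G a ⊓ stabilizer G b with hH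
  have hWH : W ≤ H := fun y hy =>
    ⟨((hK.mem y).1 hy).2 a haF, ((hK.mem y).1 hy).2 b hbF⟩
  obtain ⟨R, hR⟩ := ((T.isPGroup'.to_le hK.le).comap_of_injective H.subtype H.subtype_injective).exists_le_sylow
  have hRW : (R : Subgroup H) = W.comap H.subtype := by
    refine (eq_of_le_of_not_lt hR fun hlt => ?_).symm
    have hmap : Nat.card W < Nat.card ((R : Subgroup H).map H.subtype) := by
      rw [Subgroup.card_subtype, ← Nat.card_congr (Subgroup.subgroupOfEquivOfLe hWH).toEquiv]
      exact lt_of_not_ge fun hle => hlt.ne (Subgroup.eq_of_le_of_card_ge hR hle)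
    set R' := (R : Subgroup H).map H.subtype with hR'
    have hpR : IsPGroup 2 R' := R.isPGroup'.map _
    obtain ⟨i, hi⟩ := hpR.exists_card_eq
    have hi1 : i ≤ (Nat.card G).factorization 2 :=
      (Nat.prime_two.pow_dvd_iff_le_factorization Nat.card_pos.ne').1
        (hi ▸ Subgroup.card_subgroup_dvd_card R')
    rw [hw, hi] at hmap
    have hwi := (Nat.pow_lt_pow_iff_right (a := 2) (by norm_num)).1 hmap
    have hwe' : (p - 1).factorization 2 = w := by
      have : 2 ^ ((p - 1).factorization 2 + 1) = 2 ^ (w + 1) := by rw [← hTc, hhalf, hw]; ring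
      have := Nat.pow_right_injective le_rfl this
      omega
    let T' : Sylow 2 G := Sylow.ofCard R' (by
      rw [hi, show (Nat.card G).factorization 2 = i by rw [h2.two_part] at hi1 ⊢; omega])
    obtain ⟨W', F', hK'⟩ := S.exists_ker h2.fixes T'
    obtain ⟨z', hz'W, hz', hz'c⟩ := hK'.central
    have hz'1 : z' ≠ 1 := fun e => by rw [e, orderOf_one] at hz'; omega
    have hfix : ∀ y ∈ R', y • a = a ∧ y • b = b := by
      rintro y ⟨y', -, rfl⟩
      exact ⟨y'.2.1, y'.2.2⟩
    have hWR : W ≤ R' := fun y hy => ⟨⟨y, hWH hy⟩, hR hy, rfl⟩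
    have hzR : z ∈ R' := hWR hzW
    have hcF' : z' • c = c := by
      have h1 : z' • c ∈ F := by
        rw [← hmemF z hzW hz1, ← mul_smul, hz'c z hzR, mul_smul, ((hK.mem z).1 hzW).2 c hcF]
      rw [hF] at h1
      simp only [Finset.mem_insert, Finset.mem_singleton] at h1
      rcases h1 with h1 | h1 | h1
      · exact absurd (MulAction.injective z' (h1.trans (hfix z' (hK'.le hz'W)).1.symm)).symm hac
      · exact absurd (MulAction.injective z' (h1.trans (hfix z' (hK'.le hz'W)).2.symm)) hb
      · exact h1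
    have hFF : F' = F := by
      refine (Finset.eq_of_subset_of_card_le (fun x hx => hK'.fix z' hz'W hz'1 x ?_)
        (by rw [hK.card_F, hK'.card_F])).symm
      rw [hF] at hx
      simp only [Finset.mem_insert, Finset.mem_singleton] at hx
      rcases hx with rfl | rfl | rfl
      · exact (hfix z' (hK'.le hz'W)).1
      · exact (hfix z' (hK'.le hz'W)).2
      · exact hcF'
    have hall : R' ≤ W' := by
      intro y hy
      refine (hK'.mem y).2 ⟨hy, fun x hx => ?_⟩
      have h1 := hK'.stable y hy x hx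
      rw [hFF, hF] at hx h1
      simp only [Finset.mem_insert, Finset.mem_singleton] at hx h1
      obtain ⟨hya, hyb⟩ := hfix y hy
      rcases hx with rfl | rfl | rfl
      · exact hya
      · exact hyb
      · rcases h1 with h1 | h1 | h1
        · exact absurd (MulAction.injective y (h1.trans hya.symm)).symm hac
        · exact absurd (MulAction.injective y (h1.trans hyb.symm)) hb
        · exact h1
    obtain ⟨w', hw'⟩ := (T'.isPGroup'.to_le hK'.le).exists_card_eq
    have h3 : w' ≤ (p - 1).factorization 2 :=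
      (Nat.prime_two.pow_dvd_iff_le_factorization (by have := S.hp; omega)).1 (hw' ▸ hK'.dvd)
    have h4 := Nat.le_of_dvd Nat.card_pos (Subgroup.card_dvd_of_le hall)
    rw [hi, hw'] at h4
    have := (Nat.pow_le_pow_iff_right (a := 2) (by norm_num)).1 h4
    omega
  have hnorm : ∀ y ∈ H, τ₀ * y * τ₀⁻¹ ∈ H := by
    intro y hy
    refine ⟨?_, ?_⟩
    · show (τ₀ * y * τ₀⁻¹) • a = a
      rw [mul_smul, mul_smul, inv_smul_eq_iff.2 hτb.symm, show y • b = b from hy.2, hτb]
    · show (τ₀ * y * τ₀⁻¹) • b = b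
      rw [mul_smul, mul_smul, inv_smul_eq_iff.2 hτa.symm, show y • a = a from hy.1, hτa]
  obtain ⟨τ, hτ1, hτ2, hτF⟩ : ∃ τ : G, τ • a = b ∧ τ • b = a ∧ ∀ x, x ∈ F → τ • x ∈ F := by
    let φ : H →* H :=
      { toFun := fun y => ⟨τ₀ * y * τ₀⁻¹, hnorm y y.2⟩
        map_one' := Subtype.ext (by simp)
        map_mul' := fun x y => Subtype.ext (by simp [mul_assoc]) }
    have hφ : Function.Injective φ := fun x y e => Subtype.ext (by simpa [φ] using congrArg Subtype.val e)
    have hφs : Function.Surjective φ := Finite.surjective_of_injective hφ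
    obtain ⟨h, hh⟩ := exists_smul_eq H (R.mapSurjective hφs) R
    refine ⟨(h : G) * τ₀, ?_, ?_, fun x hx => ?_⟩
    · rw [mul_smul, hτa]; exact h.2.2
    · rw [mul_smul, hτb]; exact h.2.1
    · have hzR : (⟨z, hWH hzW⟩ : H) ∈ (R : Subgroup H) := hR hzW
      have h1 : h * φ ⟨z, hWH hzW⟩ * h⁻¹ ∈ ((h • R.mapSurjective hφs : Sylow 2 H) : Subgroup H) := by
        rw [Sylow.coe_subgroup_smul]
        exact ⟨φ ⟨z, hWH hzW⟩, ⟨_, hzR, rfl⟩, rfl⟩
      rw [hh, hRW] at h1
      have h2 : (h : G) * τ₀ * z * ((h : G) * τ₀)⁻¹ ∈ W := by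
        have : (h : G) * (τ₀ * z * τ₀⁻¹) * (h : G)⁻¹ ∈ W := h1
        rwa [show (h : G) * τ₀ * z * ((h : G) * τ₀)⁻¹ = (h : G) * (τ₀ * z * τ₀⁻¹) * (h : G)⁻¹ by group]
      rw [← hmemF _ h2 fun e => hz1 (conj_eq_one_iff.1 e), mul_smul _ _ (_ • x), inv_smul_smul,
        mul_smul _ z x, ((hK.mem z).1 hzW).2 x hx]
  have hτc : τ • c = c := by
    have h1 := hτF c hcF
    rw [hF] at h1
    simp only [Finset.mem_insert, Finset.mem_singleton] at h1
    rcases h1 with h1 | h1 | h1
    · exact absurd (MulAction.injective τ (h1.trans hτ2.symm)) hb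
    · exact absurd (MulAction.injective τ (h1.trans hτ1.symm)).symm hac
    · exact h1
  have hAB' : InOrbital G a b b a := ⟨τ, hτ1, hτ2⟩
  have hab_bc : InOrbital G a b b c := inOrbital_trans hAC ⟨τ, hτ1, hτc⟩
  have hsym : ∀ i j : α, InOrbital G a b i j → InOrbital G a b j i := fun i j h =>
    inOrbital_trans hAB' (inOrbital_swap h)
  have hpairs : ∀ x y : α, x ∈ F → y ∈ F → x ≠ y → InOrbital G a b x y := by
    intro x y hx hy hxy
    rw [hF] at hx hy
    simp only [Finset.mem_insert, Finset.mem_singleton] at hx hy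
    rcases hx with rfl | rfl | rfl <;> rcases hy with rfl | rfl | rfl
    · exact absurd rfl hxy
    · exact ⟨1, one_smul _ _, one_smul _ _⟩
    · exact hAC
    · exact hAB'
    · exact absurd rfl hxy
    · exact hab_bc
    · exact hsym _ _ hAC
    · exact hsym _ _ hab_bc
    · exact absurd rfl hxy
  have hinv : ∀ y : G, orderOf y = 2 → ∀ x u : α, x ≠ u → y • x = x → y • u = u →
      InOrbital G a b x u := by
    intro y hy x u hxu hyx hyu
    obtain ⟨g, hg⟩ := isConj_iff.1
      ((hT.one_class S ht htP hz).trans (hT.one_class S ht htP hy).symm)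
    have hmem : ∀ v : α, y • v = v → g⁻¹ • v ∈ F := fun v hv => by
      rw [← hmemF z hzW hz1]
      calc z • g⁻¹ • v = g⁻¹ • (g * z * g⁻¹) • v := by simp only [← mul_smul]; congr 1; group
        _ = g⁻¹ • v := by rw [hg, hv]
    exact inOrbital_trans (hpairs _ _ (hmem x hyx) (hmem u hyu) fun e => hxu (MulAction.injective _ e))
      ⟨g, smul_inv_smul g x, smul_inv_smul g u⟩
  refine ⟨W, F, σ, a, b, hK, hσT, hσW, haF, hσa, hbF, Ne.symm hab, hhalf, hsym, hinv, ?_⟩
  -- the other suborbit
  set O := orbit (stabilizer G a) b with hO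
  obtain ⟨d, hda, hdO⟩ : ∃ d, d ≠ a ∧ d ∉ O := by
    by_contra hcon
    push Not at hcon
    have hsub : (Finset.univ : Finset (orbitRel.Quotient (stabilizer G a) α)) ⊆
        {Quotient.mk'' a, Quotient.mk'' b} := by
      intro q _
      induction q using Quotient.inductionOn' with
      | h x =>
        simp only [Finset.mem_insert, Finset.mem_singleton]
        rcases eq_or_ne x a with rfl | hx
        · exact Or.inl rfl
        · exact Or.inr ((hquot x b).2 (hcon x hx))
    have := (Finset.card_le_card hsub).trans Finset.card_le_two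
    rw [Finset.card_univ, ← Nat.card_eq_fintype_card, hrank] at this
    omega
  set O' := orbit (stabilizer G a) d with hO'
  have hodd : ¬ 2 ∣ Nat.card (stabilizer (stabilizer G a) d) := by
    intro hd2
    obtain ⟨y, hy⟩ := exists_prime_orderOf_dvd_card' 2 hd2
    have hy2 : orderOf ((y : stabilizer G a) : G) = 2 := by
      rw [Subgroup.orderOf_coe, Subgroup.orderOf_coe, hy]
    exact hdO ((inOrbital_left_iff a b d).1 (hinv _ hy2 a d hda.symm y.1.2 y.2))
  have hdiv : Nat.card (T : Subgroup G) ∣ Nat.card O' := by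
    have h1 := Nat.card_congr (orbitProdStabilizerEquivGroup (stabilizer G a) d)
    rw [Nat.card_prod, ← hO'] at h1
    rw [show Nat.card (T : Subgroup G) = 2 ^ (Nat.card G).factorization 2 from T.card_eq_multiplicity]
    have h2d : 2 ^ (Nat.card G).factorization 2 ∣ Nat.card (stabilizer G a) * (3 * p) := by
      rw [S.card_stab]; exact Nat.ordProj_dvd _ _
    have h3 : 2 ^ (Nat.card G).factorization 2 ∣ Nat.card (stabilizer G a) :=
      (Nat.Coprime.pow_left _ (Nat.coprime_two_left.2 (Nat.odd_iff.2 (by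
        have := S.odd_p; omega)))).dvd_of_dvd_mul_right h2d
    rw [← h1] at h3
    exact (Nat.Coprime.pow_left _ (Nat.prime_two.coprime_iff_not_dvd.2 hodd)).dvd_of_dvd_mul_right h3
  obtain ⟨m, hm⟩ := hdiv
  refine ⟨m, Nat.pos_of_ne_zero fun e => ?_, ?_⟩
  · rw [e, mul_zero] at hm
    haveI : Nonempty O' := ⟨⟨d, mem_orbit_self d⟩⟩
    exact (Nat.card_pos (α := O')).ne' hm
  rw [← hm, ← S.hα]
  have e : (Finset.univ : Finset α) = insert a (O.toFinset ∪ O'.toFinset) := by
    refine (Finset.eq_univ_of_forall fun x => ?_).symm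
    simp only [Finset.mem_insert, Finset.mem_union, Set.mem_toFinset]
    rcases eq_or_ne x a with hx | hx
    · exact Or.inl hx
    refine Or.inr ?_
    rcases horb b d x (Ne.symm hab) hda hx with h | h | h
    · exact absurd ((inOrbital_left_iff a b d).1 h) hdO
    · exact Or.inl ((inOrbital_left_iff a b x).1 h)
    · exact Or.inr ((inOrbital_left_iff a d x).1 h)
  have ha1 : a ∉ O.toFinset ∪ O'.toFinset := by
    simp only [Finset.mem_union, Set.mem_toFinset, not_or]
    refine ⟨fun ⟨s, hs⟩ => ?_, fun ⟨s, hs⟩ => ?_⟩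
    · exact hab (MulAction.injective (s : G) (s.2.trans hs.symm))
    · exact hda (MulAction.injective (s : G) (hs.trans s.2.symm))
  have hdisj : Disjoint O.toFinset O'.toFinset := by
    rw [Finset.disjoint_left]
    intro x hx hx'
    rw [Set.mem_toFinset] at hx hx'
    refine hdO ?_
    rw [hO, (orbit_eq_iff.2 hx).symm.trans (orbit_eq_iff.2 hx')]
    exact mem_orbit_self d
  rw [← Finset.card_univ, e, Finset.card_insert_of_notMem ha1, Finset.card_union_of_disjoint hdisj,
    Set.toFinset_card, Set.toFinset_card, Nat.card_eq_fintype_card, Nat.card_eq_fintype_card]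

end CfsgLib.Perm.ThricePrime
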